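/- Exclusion of alternating sections of degree 7, 8, 11, 12 from control of fusion. -/
import Cfsg.Agent.H55.AltSec

set_option autoImplicit false

namespace H55.Alt

open Subgroup Equiv

/-- The image of `f` contains the even permutations. -/
def Onto {L : Type*} [Group L] {k : ℕ} (f : L →* Perm (Fin k)) : Prop :=
  ∀ σ : Perm (Fin k), Perm.sign σ = 1 → σ ∈ f.range

/-- A section isomorphic to an alternating group gives maps onto the smaller ones. -/
theorem exists_onto {H : Type*} [Group H] {K : Subgroup H} [K.Normal] {r k : ℕ} (hk : k ≤ r)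
    (h : Nonempty (H ⧸ K ≃* alternatingGroup (Fin r))) :
    ∃ (L : Subgroup H) (f : L →* Perm (Fin k)), Onto f := by
  classical
  obtain ⟨e⟩ := h
  let f : H →* Perm (Fin r) :=
    (alternatingGroup (Fin r)).subtype.comp (e.toMonoidHom.comp (QuotientGroup.mk' K))
  let j := (Fin.castLEEmb hk).toEquivRange
  let E : Perm (Fin k) →* Perm (Fin r) := Perm.extendDomainHom j
  have hE : Function.Injective E := Perm.extendDomainHom_injective j
  refine ⟨E.range.comap f, (MonoidHom.ofInjective hE).symm.toMonoidHom.comp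
    ((f.comp (E.range.comap f).subtype).codRestrict E.range fun g => g.2), fun σ hσ => ?_⟩
  have h1 : E σ ∈ alternatingGroup (Fin r) := by
    rw [Perm.mem_alternatingGroup, ← hσ]
    exact Perm.sign_extendDomain σ j
  obtain ⟨g, hg⟩ := QuotientGroup.mk'_surjective K (e.symm ⟨_, h1⟩)
  have h2 : f g = E σ := by
    change ((e (QuotientGroup.mk' K g) : alternatingGroup (Fin r)) : Perm (Fin r)) = _
    rw [hg, MulEquiv.apply_symm_apply]
  refine ⟨⟨g, ⟨σ, h2.symm⟩⟩, ?_⟩
  apply (MonoidHom.ofInjective hE).injective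
  simp only [MonoidHom.comp_apply, MulEquiv.coe_toMonoidHom, MulEquiv.apply_symm_apply]
  exact Subtype.ext h2

variable {G L : Type*} [Group G] [Group L] [Finite L] {Γ T : Subgroup G} {ι : L →* G}

theorem no7_five (hc : Ctl Γ T [(6, 1)]) (hi : ¬ 5 ∣ T.relIndex Γ) (hι : Emb ι Γ)
    {f : L →* Perm (Fin 7)} (hf : Onto f) : False := by
  have : Fact (Nat.Prime 5) := ⟨by norm_num⟩
  have := act_of_ctl hc hi hι f (x := List.formPerm [0, 1, 2, 3, 4])
    (y := List.formPerm [1, 2, 4, 3] * List.formPerm [5, 6]) (k := 2)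
    (hf _ (by decide +kernel)) (hf _ (by decide +kernel)) (by decide +kernel) (by decide +kernel)
  revert this
  decide +kernel

theorem no7_seven (hc : Ctl Γ T [(8, 1)]) (hi : ¬ 7 ∣ T.relIndex Γ) (hι : Emb ι Γ)
    {f : L →* Perm (Fin 7)} (hf : Onto f) : False := by
  have : Fact (Nat.Prime 7) := ⟨by norm_num⟩
  have := act_of_ctl hc hi hι f (x := List.formPerm [0, 1, 2, 3, 4, 5, 6])
    (y := List.formPerm [1, 2, 4] * List.formPerm [3, 6, 5]) (k := 2)
    (hf _ (by decide +kernel)) (hf _ (by decide +kernel)) (by decide +kernel) (by decide +kernel)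
  revert this
  decide +kernel

theorem no11 (hc : Ctl Γ T [(8, 1), (6, 1), (6, -1)]) (hi : ¬ 11 ∣ T.relIndex Γ) (hι : Emb ι Γ)
    {f : L →* Perm (Fin 11)} (hf : Onto f) : False := by
  have : Fact (Nat.Prime 11) := ⟨by norm_num⟩
  have := act_of_ctl hc hi hι f (x := List.formPerm [0, 1, 2, 3, 4, 5, 6, 7, 8, 9, 10])
    (y := List.formPerm [1, 3, 9, 5, 4] * List.formPerm [2, 6, 7, 10, 8]) (k := 3)
    (hf _ (by decide +kernel)) (hf _ (by decide +kernel)) (by decide +kernel) (by decide +kernel)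
  revert this
  decide +kernel

theorem no12 (hc : Ctl Γ T [(8, 1), (6, 1), (6, -1)]) (hT : T ≤ Γ)
    (hab : ∀ a ∈ T, ∀ b ∈ T, a * b = b * a) (hi : ¬ 5 ∣ T.relIndex Γ) (hi' : ¬ 7 ∣ T.relIndex Γ)
    (hι : Emb ι Γ) {f : L →* Perm (Fin 12)} (hf : Onto f) : False := by
  have : Fact (Nat.Prime 5) := ⟨by norm_num⟩
  have : Fact (Nat.Prime 7) := ⟨by norm_num⟩
  have := act_of_ctl₂ hc hT hab hi hi' (by decide) hι f (x := List.formPerm [7, 8, 9, 10, 11])
    (z := List.formPerm [0, 1, 2, 3, 4, 5, 6])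
    (y := List.formPerm [8, 9, 11, 10] * List.formPerm [1, 3, 2, 6, 4, 5]) (k := 2) (k' := 3)
    (hf _ (by decide +kernel)) (hf _ (by decide +kernel)) (hf _ (by decide +kernel))
    (by decide +kernel) (by decide +kernel) (by decide +kernel) (by decide +kernel)
    (by decide +kernel)
  revert this
  decide +kernel

/-- Three even permutations of order four generating a group of order 32. -/
def g8 : Fin 3 → Perm (Fin 8) :=
  ![List.formPerm [0, 2, 1, 3] * List.formPerm [4, 5],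
    List.formPerm [4, 6, 5, 7] * List.formPerm [0, 1],
    List.formPerm [0, 4, 2, 6] * List.formPerm [1, 5, 3, 7]]

/-- Digits in base eight. -/
def dec (a i : ℕ) : ℕ := a / 8 ^ i % 8

/-- Codes of the elements of the group generated by `g8`. -/
def C8 : List ℕ :=
  [16434824, 16404570, 9954945, 2207660, 16434369, 11788371, 6823845, 9925146, 14571144, 371070,
    2177406, 5017509, 11788826, 16405011, 9954504, 343980, 11761281, 14598234, 4987710, 6851390,
    6850935, 2207205, 343525, 4987255, 11760840, 14598675, 9924691, 14570689, 371511, 6823404,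
    5017068, 2177847]

theorem C8_ok : ∀ a ∈ C8, (∀ i < 8, dec a (dec a (dec a (dec a i))) = i) ∧
    ∀ c ∈ [16404570, 9954945, 2207660, 16405011, 11761281, 6851390],
      ∃ b ∈ C8, ∀ i < 8, dec b i = dec a (dec c i) := by
  decide +kernel

theorem g8_ok : ∀ j : Fin 3,
    (∃ c ∈ [16404570, 9954945, 2207660, 16405011, 11761281, 6851390],
      ∀ i, (g8 j i : ℕ) = dec c i) ∧
    ∃ c ∈ [16404570, 9954945, 2207660, 16405011, 11761281, 6851390],
      ∀ i, ((g8 j)⁻¹ i : ℕ) = dec c i := by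
  decide +kernel

theorem isPGroup_g8 : IsPGroup 2 (closure (Set.range g8)) := by
  refine H98.isPGroup_iff_forall.2 fun x hx => ⟨2, ?_⟩
  have : ∃ a ∈ C8, ∀ i, (x i : ℕ) = dec a i := by
    induction hx using closure_induction_right with
    | one => decide +kernel
    | mul_right x _ y hy ih =>
      obtain ⟨j, rfl⟩ := hy
      obtain ⟨a, ha, h⟩ := ih
      obtain ⟨c, hc, h'⟩ := (g8_ok j).1
      obtain ⟨b, hb, e⟩ := (C8_ok a ha).2 c hc
      exact ⟨b, hb, fun i => by rw [e i i.2, Perm.mul_apply, h, h']⟩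
    | mul_inv_cancel x _ y hy ih =>
      obtain ⟨j, rfl⟩ := hy
      obtain ⟨a, ha, h⟩ := ih
      obtain ⟨c, hc, h'⟩ := (g8_ok j).2
      obtain ⟨b, hb, e⟩ := (C8_ok a ha).2 c hc
      exact ⟨b, hb, fun i => by rw [e i i.2, Perm.mul_apply, h, h']⟩
  obtain ⟨a, ha, h⟩ := this
  ext i
  have := (C8_ok a ha).1 i i.2
  simp only [← h] at this
  simpa [pow_succ] using this

theorem no8 {N : Subgroup G} [Finite Γ] (hi : ¬ 2 ∣ N.relIndex Γ)
    (hN : ∀ m ∈ N, m ∈ Γ → m ^ 6 ∈ T) (hab : ∀ a ∈ T, ∀ b ∈ T, a * b = b * a)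
    (hrk : rk ↥(T ⊓ Γ) ≤ 4) (hι : Emb ι Γ) {f : L →* Perm (Fin 8)} (hf : Onto f) : False := by
  obtain ⟨Y, h1, h2, h3⟩ := sq_of_N hi hN hab hι f isPGroup_g8
    ((closure_le _).2 (by rintro _ ⟨i, rfl⟩; exact hf _ (by revert i; decide +kernel)))
  have hs : ∀ i, g8 i ^ 2 ∈ Y := fun i => h1 _ (subset_closure ⟨i, rfl⟩)
  let v : Fin 5 → Perm (Fin 8) := ![1, g8 0 ^ 2, g8 1 ^ 2, g8 2 ^ 2, g8 0 ^ 2 * g8 1 ^ 2]
  have hv : Function.Injective v ∧ ∀ i, v i ^ 2 = 1 := by decide +kernel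
  have hm : ∀ i, v i ∈ Y := by
    intro i
    fin_cases i
    exacts [one_mem _, hs 0, hs 1, hs 2, mul_mem (hs 0) (hs 1)]
  have : Nat.card (Fin 5) ≤ rk Y :=
    Nat.card_le_card_of_injective (fun i => ⟨⟨v i, hm i⟩, Subtype.ext (hv.2 i)⟩)
      fun i j e => hv.1 (congrArg (fun a => a.1.1) e)
  rw [Nat.card_fin] at this
  omega

/-- The dihedral normal form. -/
theorem dih {W : Type*} [Group W] {a b w : W} (ha : a * a = 1) (hb : b * b = 1)
    (hw : w ∈ closure {a, b}) : ∃ k : ℤ, w = (a * b) ^ k ∨ w = (a * b) ^ k * a := by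
  have ia : a⁻¹ = a := inv_eq_of_mul_eq_one_right ha
  have ib : b⁻¹ = b := inv_eq_of_mul_eq_one_right hb
  have key : ∀ x, (∃ k : ℤ, x = (a * b) ^ k ∨ x = (a * b) ^ k * a) → ∀ y ∈ ({a, b} : Set W),
      ∃ k : ℤ, x * y = (a * b) ^ k ∨ x * y = (a * b) ^ k * a := by
    rintro x ⟨k, rfl | rfl⟩ y (rfl | rfl)
    · exact ⟨k, Or.inr rfl⟩
    · exact ⟨k - 1, Or.inr (by rw [zpow_sub_one, mul_inv_rev, ia, ib]; simp [mul_assoc, ha])⟩
    · exact ⟨k, Or.inl (by rw [mul_assoc, ha, mul_one])⟩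
    · exact ⟨k + 1, Or.inl (by rw [zpow_add_one, mul_assoc])⟩
  induction hw using closure_induction_right with
  | one => exact ⟨0, Or.inl (by simp)⟩
  | mul_right x _ y hy ih => exact key x ih y hy
  | mul_inv_cancel x _ y hy ih =>
    refine key x ih y⁻¹ ?_
    rcases hy with rfl | rfl
    · exact Or.inl ia
    · exact Or.inr ib

theorem dih_pow {W : Type*} [Group W] {a b w : W} (ha : a * a = 1) (hb : b * b = 1) {n : ℕ}
    (hn : (a * b) ^ (2 * n) = 1) (hw : w ∈ closure {a, b}) : w ^ (2 * n) = 1 := by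
  obtain ⟨k, rfl | rfl⟩ := dih ha hb hw
  · rw [← zpow_natCast, ← zpow_mul, mul_comm k, zpow_mul, zpow_natCast, hn, one_zpow]
  · have ia : a⁻¹ = a := inv_eq_of_mul_eq_one_right ha
    have ib : b⁻¹ = b := inv_eq_of_mul_eq_one_right hb
    have h1 : a * (a * b) * a⁻¹ = (a * b)⁻¹ := by
      rw [mul_inv_rev, ia, ib, ← mul_assoc, ha, one_mul]
    have h2 : a * (a * b) ^ k * a⁻¹ = ((a * b) ^ k)⁻¹ := by rw [← conj_zpow, h1, inv_zpow]
    rw [ia] at h2
    rw [pow_mul, sq, mul_assoc, ← mul_assoc a, h2, mul_inv_cancel, one_pow]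

theorem four_dvd_of {W : Type*} [Group W] {a z : W} (ha : a * a = 1) (hz : z * z = 1)
    (haz : z * a = a * z) (ha1 : a ≠ 1) (hz1 : z ≠ 1) (hne : a ≠ z) {X : Subgroup W} (h1 : a ∈ X)
    (h2 : z ∈ X) : 4 ∣ Nat.card X := by
  have ia : a⁻¹ = a := inv_eq_of_mul_eq_one_right ha
  have iz : z⁻¹ = z := inv_eq_of_mul_eq_one_right hz
  have h3 : a * z * a = z := by rw [← haz, mul_assoc, ha, mul_one]
  have h4 : z * (a * z) = a := by rw [← haz, ← mul_assoc, hz, one_mul]
  have h5 : a * (a * z) = z := by rw [← mul_assoc, ha, one_mul]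
  have h6 : a * z * (a * z) = 1 := by rw [← mul_assoc, h3, hz]
  have h7 : a * z * z = a := by rw [mul_assoc, hz, mul_one]
  have h8 : a * z ≠ 1 := fun h => hne (by rw [← ia, inv_eq_of_mul_eq_one_right h])
  let V : Subgroup W :=
    { carrier := {1, a, z, a * z}
      mul_mem' := by
        intro x y hx hy
        rcases hx with e | e | e | e <;> rcases hy with e' | e' | e' | e' <;>
          simp [e, e', Set.mem_singleton_iff.1 e, Set.mem_singleton_iff.1 e', *]
      one_mem' := Or.inl rfl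
      inv_mem' := by
        intro x hx
        rcases hx with e | e | e | e <;> simp [e, Set.mem_singleton_iff.1 e, *] }
  have hV : Nat.card V = 4 := by
    change Nat.card ({1, a, z, a * z} : Set W) = 4
    rw [Nat.card_coe_set_eq, Set.ncard_insert_of_notMem (by simp [ha1.symm, hz1.symm, h8.symm]),
      Set.ncard_insert_of_notMem (by simp [hne, hz1]), Set.ncard_pair (by simp [ha1])]
  rw [← hV]
  refine card_dvd_of_le ?_
  rintro x (rfl | rfl | rfl | rfl)
  exacts [one_mem _, h1, h2, mul_mem h1 h2]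

theorem four_dvd {W : Type*} [Group W] {a b : W} (ha : a * a = 1) (hb : b * b = 1)
    (hn : orderOf (a * b) = 6) {X : Subgroup W} (h1 : a ∈ X) (h2 : b ∈ X) : 4 ∣ Nat.card X := by
  have ia : a⁻¹ = a := inv_eq_of_mul_eq_one_right ha
  have ib : b⁻¹ = b := inv_eq_of_mul_eq_one_right hb
  have e1 : a * (a * b) * a⁻¹ = (a * b)⁻¹ := by
    rw [mul_inv_rev, ia, ib, ← mul_assoc, ha, one_mul]
  have hne : ∀ k, 0 < k → k < 6 → (a * b) ^ k ≠ 1 := fun k h h' =>
    pow_ne_one_of_lt_orderOf h.ne' (hn ▸ h')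
  set z := (a * b) ^ 3 with hz
  have hzz : z * z = 1 := by
    rw [hz, ← pow_add]; exact (congrArg _ hn.symm).trans (pow_orderOf_eq_one _)
  have haz : a * z = z * a := by
    have : a * z * a⁻¹ = z⁻¹ := by rw [hz, ← conj_pow, e1, inv_pow]
    rw [inv_eq_of_mul_eq_one_right hzz] at this
    exact mul_inv_eq_iff_eq_mul.1 this
  have hab : ¬ Commute a (a * b) := fun h => hne 2 (by norm_num) (by norm_num) (by
    rw [h.eq, mul_inv_cancel_right] at e1
    rw [sq]
    exact mul_eq_one_iff_eq_inv.2 e1)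
  have hz1 : z ≠ 1 := hne 3 (by norm_num) (by norm_num)
  have ha1 : a ≠ 1 := fun h => hab (h ▸ Commute.one_left _)
  have haz' : a ≠ z := fun h => hab (by
    have := (Commute.refl (a * b)).pow_left 3
    rwa [← hz, ← h] at this)
  exact four_dvd_of ha hzz haz.symm ha1 hz1 haz' h1 (pow_mem (mul_mem h1 h2) 3)

end H55.Alt
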