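/- The orthogonal groups `O₅(3)` and `O₆⁻(2)` through the 36 positive roots of `E₆`. -/
import Cfsg.Agent.H55.Basic
import Cfsg.Agent.H58.QStd
import Cfsg.Agent.H56.OrthSimple

set_option autoImplicit false

namespace H55.E6

open H56 H58

/-- The space of `O₅(3)`. -/
abbrev V3 : Type := Unit ⊕ (Fin 2 ⊕ Fin 2) → ZMod 3

/-- The space of `O₆⁻(2)`. -/
abbrev V2 : Type := (Fin 2 ⊕ Fin 2) ⊕ Fin 2 → ZMod 2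

/-- A vector of `V3` by coordinates. -/
def m3 (a b c d e : ZMod 3) : V3 := Sum.elim (fun _ => a) (Sum.elim ![b, c] ![d, e])

/-- A vector of `V2` by coordinates. -/
def m2 (a b c d e f : ZMod 2) : V2 := Sum.elim (Sum.elim ![a, b] ![c, d]) ![e, f]

/-- The form on `V3`. -/
def q3 (v : V3) : ZMod 3 :=
  v (.inl ()) * v (.inl ()) + v (.inr (.inl 0)) * v (.inr (.inr 0)) +
    v (.inr (.inl 1)) * v (.inr (.inr 1))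

/-- The polar form on `V3`. -/
def p3 (v w : V3) : ZMod 3 :=
  2 * v (.inl ()) * w (.inl ()) + v (.inr (.inl 0)) * w (.inr (.inr 0)) +
    v (.inr (.inr 0)) * w (.inr (.inl 0)) + v (.inr (.inl 1)) * w (.inr (.inr 1)) +
    v (.inr (.inr 1)) * w (.inr (.inl 1))

/-- The form on `V2`. -/
def q2 (v : V2) : ZMod 2 :=
  v (.inl (.inl 0)) * v (.inl (.inr 0)) + v (.inl (.inl 1)) * v (.inl (.inr 1)) +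
    (v (.inr 0) * v (.inr 0) + v (.inr 0) * v (.inr 1) + v (.inr 1) * v (.inr 1))

/-- The polar form on `V2`. -/
def p2 (v w : V2) : ZMod 2 :=
  v (.inl (.inl 0)) * w (.inl (.inr 0)) + v (.inl (.inr 0)) * w (.inl (.inl 0)) +
    v (.inl (.inl 1)) * w (.inl (.inr 1)) + v (.inl (.inr 1)) * w (.inl (.inl 1)) +
    (2 * v (.inr 0) * w (.inr 0) + v (.inr 0) * w (.inr 1) + v (.inr 1) * w (.inr 0) +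
      2 * v (.inr 1) * w (.inr 1))

/-- The reflection in a vector with non-zero form value, on `V3`. -/
def r3 (v x : V3) : V3 := x - (q3 v * p3 v x) • v

/-- The reflection in a vector with form value one, on `V2`. -/
def r2 (v x : V2) : V2 := x - p2 v x • v

/-- The positive roots modulo three. -/
def a : Fin 36 → V3 := ![
    m3 0 0 1 0 2, m3 0 0 1 1 2, m3 0 0 1 2 2, m3 0 1 0 2 0, m3 0 1 0 2 1, m3 0 1 0 2 2,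
    m3 0 1 1 0 2, m3 0 1 1 1 1, m3 0 1 1 2 0, m3 0 1 2 0 1, m3 0 1 2 1 2, m3 0 1 2 2 0,
    m3 1 0 1 0 1, m3 1 0 1 1 1, m3 1 0 1 2 1, m3 1 0 2 0 2, m3 1 0 2 1 2, m3 1 0 2 2 2,
    m3 1 1 0 1 0, m3 1 1 0 1 1, m3 1 1 0 1 2, m3 1 1 1 0 1, m3 1 1 1 1 0, m3 1 1 1 2 2,
    m3 1 1 2 0 2, m3 1 1 2 1 0, m3 1 1 2 2 1, m3 1 2 0 2 0, m3 1 2 0 2 1, m3 1 2 0 2 2,
    m3 1 2 1 0 1, m3 1 2 1 1 2, m3 1 2 1 2 0, m3 1 2 2 0 2, m3 1 2 2 1 1, m3 1 2 2 2 0]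

/-- The positive roots modulo two. -/
def b : Fin 36 → V2 := ![
    m2 0 0 0 0 0 1, m2 1 0 0 1 1 0, m2 1 0 0 1 1 1, m2 0 0 0 1 0 1, m2 0 0 1 0 1 0,
    m2 0 0 1 1 1 1, m2 1 0 0 0 1 1, m2 1 0 1 0 0 0, m2 0 0 1 0 1 1, m2 1 0 0 0 1 0,
    m2 1 0 1 1 0 0, m2 0 0 1 1 1 0, m2 0 0 1 1 0 1, m2 0 1 0 0 0 1, m2 0 1 1 1 0 0,
    m2 0 0 1 0 0 1, m2 1 1 0 0 0 1, m2 1 1 1 0 0 0, m2 1 0 0 0 0 1, m2 0 1 0 0 1 0,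
    m2 1 1 0 0 1 1, m2 0 1 0 1 0 0, m2 0 1 0 0 1 1, m2 0 0 0 1 1 1, m2 1 1 0 1 0 0,
    m2 1 1 0 0 1 0, m2 0 0 0 1 1 0, m2 1 0 0 1 0 1, m2 0 1 1 0 1 0, m2 1 1 1 1 1 1,
    m2 0 1 1 0 0 1, m2 0 0 0 0 1 0, m2 0 1 1 0 1 1, m2 1 1 1 1 0 1, m2 0 0 0 0 1 1,
    m2 1 1 1 1 1 0]

/-- The reflections on the positive roots. -/
def T : Fin 36 → Fin 36 → Fin 36 := ![

    ![0, 2, 1, 3, 8, 11, 9, 7, 4, 6, 10, 5, 12, 13, 14, 15, 16, 17, 18, 22, 25, 21, 19, 26, 24, 20, 23, 27, 32, 35, 30, 34, 28, 33, 31, 29],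
    ![2, 1, 0, 6, 10, 5, 3, 11, 8, 9, 4, 7, 12, 13, 14, 15, 16, 17, 23, 24, 20, 25, 22, 18, 19, 21, 26, 34, 28, 30, 29, 31, 33, 32, 27, 35],
    ![1, 0, 2, 9, 4, 7, 6, 5, 10, 3, 8, 11, 12, 13, 14, 15, 16, 17, 26, 19, 21, 20, 24, 23, 22, 25, 18, 31, 33, 29, 35, 27, 32, 28, 34, 30],
    ![0, 6, 9, 3, 5, 4, 1, 7, 11, 2, 10, 8, 12, 21, 30, 15, 24, 33, 18, 19, 20, 13, 22, 31, 16, 25, 34, 27, 28, 29, 14, 23, 32, 17, 26, 35],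
    ![8, 10, 2, 5, 4, 3, 6, 9, 0, 7, 1, 11, 23, 32, 14, 34, 16, 25, 18, 19, 20, 21, 30, 12, 35, 17, 26, 27, 28, 29, 22, 31, 13, 33, 15, 24],
    ![11, 1, 7, 4, 3, 5, 10, 2, 8, 9, 6, 0, 31, 13, 22, 26, 35, 17, 18, 19, 20, 32, 14, 23, 24, 33, 15, 27, 28, 29, 30, 12, 21, 25, 34, 16],
    ![9, 3, 2, 1, 4, 10, 6, 8, 7, 0, 5, 11, 12, 25, 29, 15, 19, 32, 31, 16, 20, 21, 22, 23, 24, 13, 27, 26, 28, 14, 30, 18, 17, 33, 34, 35],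
    ![0, 11, 5, 3, 9, 2, 8, 7, 6, 4, 10, 1, 27, 13, 24, 18, 30, 17, 15, 19, 32, 21, 22, 23, 14, 28, 26, 12, 25, 29, 16, 31, 20, 33, 34, 35],
    ![4, 1, 10, 11, 0, 5, 7, 6, 8, 9, 2, 3, 26, 28, 14, 31, 16, 20, 18, 30, 17, 21, 22, 23, 29, 25, 12, 27, 13, 24, 19, 15, 32, 33, 34, 35],
    ![6, 1, 3, 2, 7, 5, 0, 4, 8, 9, 11, 10, 12, 20, 35, 15, 22, 28, 34, 19, 13, 21, 16, 27, 24, 25, 26, 23, 17, 29, 30, 31, 32, 33, 18, 14],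
    ![0, 4, 8, 3, 1, 6, 5, 7, 2, 11, 10, 9, 18, 33, 14, 27, 16, 21, 12, 35, 20, 17, 29, 23, 24, 25, 26, 15, 28, 22, 30, 31, 32, 13, 34, 19],
    ![5, 7, 2, 8, 4, 0, 6, 1, 3, 10, 9, 11, 34, 13, 19, 23, 29, 17, 18, 14, 33, 28, 22, 15, 24, 25, 26, 27, 21, 16, 30, 31, 32, 20, 12, 35],
    ![0, 1, 2, 3, 23, 31, 6, 27, 26, 9, 18, 34, 12, 14, 13, 15, 16, 17, 10, 19, 35, 30, 22, 4, 24, 29, 8, 7, 28, 25, 21, 5, 32, 33, 11, 20],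
    ![0, 1, 2, 21, 32, 5, 25, 7, 28, 20, 33, 11, 14, 13, 12, 15, 16, 17, 18, 34, 9, 3, 31, 23, 27, 6, 26, 24, 8, 29, 30, 22, 4, 10, 19, 35],
    ![0, 1, 2, 30, 4, 22, 29, 24, 8, 35, 10, 19, 13, 12, 14, 15, 16, 17, 33, 11, 20, 21, 5, 32, 7, 25, 28, 27, 26, 6, 3, 31, 23, 18, 34, 9],
    ![0, 1, 2, 3, 34, 26, 6, 18, 31, 9, 27, 23, 12, 13, 14, 15, 17, 16, 7, 32, 20, 21, 28, 11, 33, 25, 5, 10, 22, 29, 30, 8, 19, 24, 4, 35],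
    ![0, 1, 2, 24, 4, 35, 19, 30, 8, 22, 10, 29, 12, 13, 14, 17, 16, 15, 18, 6, 31, 27, 9, 23, 3, 34, 26, 21, 28, 11, 7, 20, 32, 33, 25, 5],
    ![0, 1, 2, 33, 25, 5, 32, 7, 20, 28, 21, 11, 12, 13, 14, 16, 15, 17, 30, 19, 8, 10, 22, 29, 24, 4, 35, 27, 9, 23, 18, 31, 6, 3, 34, 26],
    ![0, 23, 26, 3, 4, 5, 31, 15, 8, 34, 12, 11, 10, 13, 33, 7, 16, 30, 18, 20, 19, 21, 25, 1, 24, 22, 2, 27, 28, 29, 17, 6, 32, 14, 9, 35],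
    ![22, 24, 2, 3, 4, 5, 16, 7, 30, 9, 35, 14, 12, 34, 11, 32, 6, 17, 20, 19, 18, 26, 0, 23, 1, 25, 21, 27, 28, 29, 8, 31, 15, 33, 13, 10],
    ![25, 1, 21, 3, 4, 5, 6, 32, 17, 13, 10, 33, 35, 9, 14, 15, 31, 8, 19, 18, 20, 2, 22, 24, 23, 0, 26, 27, 28, 29, 30, 16, 7, 11, 34, 12],
    ![0, 25, 20, 13, 4, 32, 6, 7, 8, 9, 17, 28, 30, 3, 14, 15, 27, 10, 18, 26, 2, 21, 23, 22, 24, 1, 19, 16, 11, 29, 12, 31, 5, 33, 34, 35],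
    ![19, 1, 24, 3, 30, 14, 6, 7, 8, 16, 29, 11, 12, 31, 5, 28, 9, 17, 25, 0, 20, 23, 22, 21, 2, 18, 26, 27, 15, 10, 4, 13, 32, 33, 34, 35],
    ![26, 18, 2, 31, 12, 5, 6, 7, 8, 27, 10, 15, 4, 13, 32, 11, 16, 29, 1, 19, 24, 22, 21, 23, 20, 25, 0, 9, 28, 17, 30, 3, 14, 33, 34, 35],
    ![0, 19, 22, 16, 35, 5, 6, 14, 29, 9, 10, 11, 12, 27, 7, 33, 3, 17, 18, 1, 23, 21, 2, 20, 24, 26, 25, 13, 28, 8, 30, 31, 32, 15, 34, 4],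
    ![20, 21, 2, 3, 17, 33, 13, 28, 8, 9, 10, 11, 29, 6, 14, 15, 34, 4, 22, 19, 0, 1, 18, 23, 26, 25, 24, 27, 7, 12, 30, 31, 32, 5, 16, 35],
    ![23, 1, 18, 34, 4, 15, 27, 7, 12, 9, 10, 11, 8, 13, 28, 5, 16, 35, 2, 21, 20, 19, 22, 0, 25, 24, 26, 6, 14, 29, 30, 31, 32, 33, 3, 17],
    ![0, 34, 31, 3, 4, 5, 26, 12, 8, 23, 15, 11, 7, 24, 14, 10, 21, 17, 18, 19, 20, 16, 22, 9, 13, 25, 6, 27, 29, 28, 30, 2, 35, 33, 1, 32],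
    ![32, 1, 33, 3, 4, 5, 6, 25, 13, 17, 10, 21, 12, 8, 26, 22, 16, 9, 18, 19, 20, 11, 15, 23, 24, 7, 14, 29, 28, 27, 34, 31, 0, 2, 30, 35],
    ![35, 30, 2, 3, 4, 5, 14, 7, 24, 9, 22, 16, 25, 13, 6, 15, 11, 23, 18, 19, 20, 21, 10, 17, 8, 12, 26, 28, 27, 29, 1, 33, 32, 31, 34, 0],
    ![0, 29, 35, 14, 22, 5, 6, 16, 19, 9, 10, 11, 21, 13, 3, 15, 7, 18, 17, 8, 20, 12, 4, 23, 24, 25, 26, 27, 34, 1, 30, 32, 31, 33, 28, 2],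
    ![34, 1, 27, 23, 4, 12, 18, 7, 15, 9, 10, 11, 5, 22, 14, 8, 20, 17, 6, 19, 16, 21, 13, 3, 24, 25, 26, 2, 28, 33, 32, 31, 30, 29, 0, 35],
    ![28, 33, 2, 3, 13, 21, 17, 20, 8, 9, 10, 11, 12, 4, 23, 19, 16, 6, 18, 15, 7, 5, 22, 14, 24, 25, 26, 35, 0, 29, 31, 30, 32, 1, 34, 27],
    ![0, 32, 28, 17, 4, 25, 6, 7, 8, 9, 13, 20, 12, 10, 18, 24, 16, 3, 14, 19, 11, 21, 22, 23, 15, 5, 26, 27, 2, 31, 30, 29, 1, 33, 35, 34],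
    ![31, 27, 2, 26, 15, 5, 6, 7, 8, 18, 10, 12, 11, 19, 14, 4, 25, 17, 9, 13, 20, 21, 22, 23, 24, 16, 3, 1, 30, 29, 28, 0, 32, 35, 34, 33],
    ![29, 1, 30, 3, 24, 16, 6, 7, 8, 14, 19, 11, 20, 13, 9, 15, 5, 26, 18, 10, 12, 21, 22, 23, 4, 25, 17, 32, 28, 0, 2, 31, 27, 34, 33, 35]]

/-- The other non-singular vectors with four orthogonal roots each. -/
def c : Fin 45 → V3 × Fin 36 × Fin 36 × Fin 36 × Fin 36 := ![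
    (m3 0 0 1 0 1, 0, 3, 18, 27), (m3 0 0 1 1 1, 0, 7, 21, 33), (m3 0 0 1 2 1, 0, 10, 24, 30),
    (m3 0 1 0 1 0, 0, 3, 12, 15), (m3 0 1 0 1 1, 2, 4, 14, 16), (m3 0 1 0 1 2, 1, 5, 13, 17),
    (m3 0 1 1 0 1, 0, 7, 13, 17), (m3 0 1 1 1 0, 1, 8, 14, 16), (m3 0 1 1 2 2, 2, 6, 12, 15),
    (m3 0 1 2 0 2, 0, 10, 14, 16), (m3 0 1 2 1 0, 2, 11, 13, 17), (m3 0 1 2 2 1, 1, 9, 12, 15),
    (m3 1 0 0 0 0, 0, 3, 7, 10), (m3 1 0 0 0 1, 3, 12, 22, 32), (m3 1 0 0 0 2, 3, 15, 25, 35),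
    (m3 1 0 0 1 0, 0, 18, 21, 24), (m3 1 0 0 1 1, 9, 12, 19, 33), (m3 1 0 0 1 2, 6, 15, 20, 30),
    (m3 1 0 0 2 0, 0, 27, 30, 33), (m3 1 0 0 2 1, 6, 12, 24, 28), (m3 1 0 0 2 2, 9, 15, 21, 29),
    (m3 1 0 1 0 0, 3, 12, 19, 28), (m3 1 0 1 1 0, 5, 13, 18, 29), (m3 1 0 1 2 0, 4, 14, 20, 27),
    (m3 1 0 2 0 0, 3, 15, 20, 29), (m3 1 0 2 1 0, 4, 16, 18, 28), (m3 1 0 2 2 0, 5, 17, 19, 27),
    (m3 1 1 0 0 0, 0, 13, 16, 18), (m3 1 1 0 0 1, 2, 12, 17, 19), (m3 1 1 0 0 2, 1, 14, 15, 20),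
    (m3 1 1 1 0 0, 1, 12, 17, 22), (m3 1 1 1 1 2, 2, 13, 16, 23), (m3 1 1 1 2 1, 0, 14, 15, 21),
    (m3 1 1 2 0 0, 2, 14, 15, 25), (m3 1 1 2 1 1, 1, 13, 16, 26), (m3 1 1 2 2 2, 0, 12, 17, 24),
    (m3 1 2 0 0 0, 0, 14, 17, 27), (m3 1 2 0 0 1, 1, 12, 16, 28), (m3 1 2 0 0 2, 2, 13, 15, 29),
    (m3 1 2 1 0 0, 2, 12, 16, 32), (m3 1 2 1 1 1, 0, 13, 15, 30), (m3 1 2 1 2 2, 1, 14, 17, 31),
    (m3 1 2 2 0 0, 1, 13, 15, 35), (m3 1 2 2 1 2, 0, 12, 16, 33), (m3 1 2 2 2 1, 2, 14, 17, 34)]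

theorem q3_a : ∀ i, q3 (a i) = 2 := by decide +kernel

theorem q2_b : ∀ i, q2 (b i) = 1 := by decide +kernel

theorem r3_a : ∀ j i, r3 (a j) (a i) = a (T j i) ∨ r3 (a j) (a i) = -a (T j i) := by
  decide +kernel

theorem r2_b : ∀ j i, r2 (b j) (b i) = b (T j i) := by decide +kernel

theorem a_inj : ∀ i k, (a i = a k ∨ a i = -a k) → i = k := by decide +kernel

theorem b_inj : ∀ i k, b i = b k → i = k := by decide +kernel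

theorem a_surj : ∀ x y z s t, q3 (m3 x y z s t) = 2 →
    ∃ i, m3 x y z s t = a i ∨ m3 x y z s t = -a i := by decide +kernel

theorem c_surj : ∀ x y z s t, q3 (m3 x y z s t) = 1 →
    ∃ i, m3 x y z s t = (c i).1 ∨ m3 x y z s t = -(c i).1 := by decide +kernel

theorem b_surj : ∀ x y z s t u, q2 (m2 x y z s t u) ≠ 0 → ∃ i, m2 x y z s t u = b i := by
  decide +kernel

theorem b_span : ∀ x y z s t u, ∃ i j, m2 x y z s t u = b i ∨ m2 x y z s t u = b i + b j := by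
  decide +kernel

theorem q3_c : ∀ i, q3 (c i).1 = 1 := by decide +kernel

theorem r3_c : ∀ i k, r3 (c i).1 (Pi.single k 1) = -r3 (a (c i).2.1) (r3 (a (c i).2.2.1)
    (r3 (a (c i).2.2.2.1) (r3 (a (c i).2.2.2.2) (Pi.single k 1)))) := by decide +kernel

end H55.E6
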