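/- Characteristic subgroups of the coordinate group `H63.Oc.Co T` (upper central series of `S`, `Q₁`). -/
import Cfsg.Agent.H63.OcSpec

set_option autoImplicit false
set_option linter.unusedSectionVars false
set_option linter.unusedVariables false
set_option linter.unusedSimpArgs false
set_option linter.unnecessarySeqFocus false

namespace H55.Oc
open H63.Oc

variable {K : Type*} [Field K] [CharP K 2] {T : TF K}

theorem two0 : (2 : K) = 0 := CharTwo.two_eq_zero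

theorem sig_eq_zero {a : K} (h : T.σ a = 0) : a = 0 := by simpa using h

theorem mul_sig_eq_zero {a : K} (h : a * T.σ a = 0) : a = 0 := by
  rcases mul_eq_zero.1 h with h | h
  · exact h
  · exact sig_eq_zero h

/-- `c` commutes with `P` modulo `X`. -/
def Cm (P X : Subgroup (Co T)) (c : Co T) : Prop := ∀ d ∈ P, ∃ x ∈ X, c * d = d * c * x

theorem cm_mono {P X Y : Subgroup (Co T)} (h : X ≤ Y) {c : Co T} (hc : Cm P X c) : Cm P Y c :=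
  fun d hd => let ⟨x, hx, e⟩ := hc d hd; ⟨x, h hx, e⟩

theorem cm_of {P X : Subgroup (Co T)} {c : Co T} (h : ∀ d ∈ P, (d * c)⁻¹ * (c * d) ∈ X) : Cm P X c :=
  fun d hd => ⟨_, h d hd, by group⟩

theorem Z_le_W : sZ T ≤ sW T := fun c h => by simp_all [mem_sZ, mem_sW]
theorem W_le_A : sW T ≤ sA T := fun c h => by simp_all [mem_sA, mem_sW]

theorem memA {e f : Co T} (h1 : e.a1 = f.a1) (h2 : e.b2 = f.b2) (h3 : e.a2 = f.a2) (h4 : e.a3 = f.a3)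
    (h5 : e.b4 = f.b4) (h6 : e.b6 = f.b6) (h7 : e.a7 = f.a7) (h8 : e.b8 = f.b8) (h9 : e.a8 = f.a8) :
    e⁻¹ * f ∈ sA T := by
  simp only [mem_sA]
  refine ⟨?_, ?_, ?_, ?_, ?_, ?_, ?_, ?_, ?_⟩ <;>
    simp [← h1, ← h2, ← h3, ← h4, ← h5, ← h6, ← h7, ← h8, ← h9, T.sq] <;> grind

theorem memW {e f : Co T} (h1 : e.a1 = f.a1) (h2 : e.b2 = f.b2) (h3 : e.a2 = f.a2) (h4 : e.a3 = f.a3)
    (h5 : e.b4 = f.b4) (h6 : e.b6 = f.b6) (h7 : e.a7 = f.a7) (h8 : e.b8 = f.b8) (h9 : e.a8 = f.a8)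
    (h10 : e.a5 = f.a5) : e⁻¹ * f ∈ sW T := by
  have := memA h1 h2 h3 h4 h5 h6 h7 h8 h9
  rw [mem_sA] at this
  refine ⟨this.1, this.2.1, this.2.2.1, this.2.2.2.1, this.2.2.2.2.1, ?_, this.2.2.2.2.2⟩
  simp [← h1, ← h2, ← h3, ← h4, ← h5, ← h6, ← h7, ← h8, ← h9, ← h10, T.sq]; grind

theorem memZ {e f : Co T} (h1 : e.a1 = f.a1) (h2 : e.b2 = f.b2) (h3 : e.a2 = f.a2) (h4 : e.a3 = f.a3)
    (h5 : e.b4 = f.b4) (h6 : e.b6 = f.b6) (h7 : e.a7 = f.a7) (h8 : e.b8 = f.b8) (h9 : e.a8 = f.a8)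
    (h10 : e.a5 = f.a5) (h11 : e.a6 = f.a6) : e⁻¹ * f ∈ sZ T := by
  have := memW h1 h2 h3 h4 h5 h6 h7 h8 h9 h10
  rw [mem_sW] at this
  refine ⟨this.1, this.2.1, this.2.2.1, this.2.2.2.1, this.2.2.2.2.1, this.2.2.2.2.2.1,
    this.2.2.2.2.2.2.1, ?_, this.2.2.2.2.2.2.2⟩
  simp [← h1, ← h2, ← h3, ← h4, ← h5, ← h6, ← h7, ← h8, ← h9, ← h10, ← h11, T.sq]; grind

/-- the fourth centre of `S` is contained in `V₀` -/
theorem V0_of_cm {c : Co T} (h : Cm ⊤ (sA T) c) : c ∈ sV0 T := by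
  obtain ⟨x, hx, e⟩ := h (x1 T 1) trivial
  obtain ⟨y, hy, f⟩ := h (y8 T 1) trivial
  obtain ⟨z, hz, g⟩ := h (y2 T 1) trivial
  rw [mem_sA] at hx hy hz
  obtain ⟨x1', x2', x3', x4', x5', x6', x7', x8', x9'⟩ := hx
  obtain ⟨y1', y2', y3', y4', y5', y6', y7', y8', y9'⟩ := hy
  obtain ⟨z1', z2', z3', z4', z5', z6', z7', z8', z9'⟩ := hz
  have b8 : c.b8 = 0 := by
    have := congrArg Co.b2 e; simp [x1, *] at this; grind
  have a1 : c.a1 = 0 := by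
    have := congrArg Co.b2 f; simp [y8, *] at this; grind
  have a8 : c.a8 = 0 := by
    have := congrArg Co.b4 e; simp [x1, *] at this; grind
  have b2 : c.b2 = 0 := by
    have := congrArg Co.b6 f; simp [y8, *] at this; grind
  have b6 : c.b6 = 0 := by
    have := congrArg Co.a7 f; simp [y8, *] at this; grind
  have b4 : c.b4 = 0 := by
    have := congrArg Co.a3 g; simp [y2, *] at this; grind
  have a7 : c.a7 = 0 := by
    have := congrArg Co.a3 e; simp [x1, *] at this; grind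
  have a2 : c.a2 = 0 := by
    have := congrArg Co.a3 f; simp [y8, *] at this; grind
  exact ⟨a1, b2, a2, b4, b6, a7, b8, a8⟩

theorem V0_iff (c : Co T) : c ∈ sV0 T ↔ Cm ⊤ (sA T) c := by
  refine ⟨fun h => cm_of fun d _ => ?_, V0_of_cm⟩
  obtain ⟨a1, b2, a2, b4, b6, a7, b8, a8⟩ := h
  apply memA <;> simp [*] <;> ring

theorem A_of_cm {c : Co T} (h : Cm ⊤ (sW T) c) : c ∈ sA T := by
  obtain ⟨a1, b2, a2, b4, b6, a7, b8, a8⟩ := V0_of_cm (cm_mono W_le_A h)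
  obtain ⟨y, hy, f⟩ := h (y8 T 1) trivial
  obtain ⟨y1', y2', y3', y4', y5', y6', y7', y8', y9', y10'⟩ := hy
  have a3 : c.a3 = 0 := by
    have := congrArg Co.a5 f; simp [y8, *] at this; grind
  exact ⟨a1, b2, a2, a3, b4, b6, a7, b8, a8⟩

theorem A_iff (c : Co T) : c ∈ sA T ↔ Cm ⊤ (sW T) c := by
  refine ⟨fun h => cm_of fun d _ => ?_, A_of_cm⟩
  obtain ⟨a1, b2, a2, a3, b4, b6, a7, b8, a8⟩ := h
  apply memW <;> simp [*] <;> ring

theorem W_of_cm {c : Co T} (h : Cm ⊤ (sZ T) c) : c ∈ sW T := by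
  obtain ⟨a1, b2, a2, a3, b4, b6, a7, b8, a8⟩ := A_of_cm (cm_mono Z_le_W h)
  obtain ⟨y, hy, f⟩ := h (y8 T 1) trivial
  obtain ⟨y1', y2', y3', y4', y5', y6', y7', y8', y9', y10', y11'⟩ := hy
  have a5 : c.a5 = 0 := by
    have := congrArg Co.a6 f; simp [y8, *] at this; grind
  exact ⟨a1, b2, a2, a3, b4, a5, b6, a7, b8, a8⟩

theorem W_iff (c : Co T) : c ∈ sW T ↔ Cm ⊤ (sZ T) c := by
  refine ⟨fun h => cm_of fun d _ => ?_, W_of_cm⟩
  obtain ⟨a1, b2, a2, a3, b4, a5, b6, a7, b8, a8⟩ := h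
  apply memZ <;> simp [*] <;> ring

theorem Z_iff (c : Co T) : c ∈ sZ T ↔ Cm ⊤ ⊥ c := by
  constructor
  · intro h d _
    obtain ⟨a1, b2, a2, a3, b4, a5, b6, a6, a7, b8, a8⟩ := h
    refine ⟨1, Subgroup.one_mem _, ?_⟩
    rw [mul_one]
    ext <;> simp [*] <;> ring
  · intro h
    obtain ⟨a1, b2, a2, a3, b4, a5, b6, a7, b8, a8⟩ := W_of_cm (cm_mono bot_le h)
    obtain ⟨y, hy, f⟩ := h (x1 T 1) trivial
    rw [Subgroup.mem_bot] at hy
    subst hy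
    have a6 : c.a6 = 0 := by
      have := congrArg Co.a4 f; simp [x1, *] at this; grind
    exact ⟨a1, b2, a2, a3, b4, a5, b6, a6, a7, b8, a8⟩

theorem Q1_iff (c : Co T) : c ∈ sQ1 T ↔ Cm (sW T) ⊥ c := by
  constructor
  · intro h d hd
    have h1 : c.a1 = 0 := h
    obtain ⟨a1, b2, a2, a3, b4, a5, b6, a7, b8, a8⟩ := hd
    refine ⟨1, Subgroup.one_mem _, ?_⟩
    rw [mul_one]
    ext <;> simp [*] <;> ring
  · intro h
    obtain ⟨y, hy, f⟩ := h (x6 T 1) (by simp [mem_sW, x6])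
    rw [Subgroup.mem_bot] at hy
    subst hy
    have := congrArg Co.a4 f
    simp [x6] at this
    show c.a1 = 0
    grind

theorem A7_of_cm {c : Co T} (a1 : c.a1 = 0) (h : Cm (sQ1 T) (sA T) c) : c ∈ sA7 T := by
  obtain ⟨y, hy, f⟩ := h (y8 T 1) rfl
  obtain ⟨z, hz, g⟩ := h (y2 T 1) rfl
  obtain ⟨y1', y2', y3', y4', y5', y6', y7', y8', y9'⟩ := hy
  obtain ⟨z1', z2', z3', z4', z5', z6', z7', z8', z9'⟩ := hz
  have b2 : c.b2 = 0 := by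
    have := congrArg Co.b6 f; simp [y8, *] at this; grind
  have b8 : c.b8 = 0 := by
    have := congrArg Co.b4 g; simp [y2, *] at this; grind
  have b6 : c.b6 = 0 := by
    have := congrArg Co.a7 f; simp [y8, *] at this; grind
  have b4 : c.b4 = 0 := by
    have := congrArg Co.a3 g; simp [y2, *] at this; grind
  have a8 : c.a8 = 0 := by
    have := congrArg Co.a7 g; simp [y2, *] at this; grind
  have a2 : c.a2 = 0 := by
    have := congrArg Co.a3 f; simp [y8, *] at this; grind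
  exact ⟨a1, b2, a2, b4, b6, b8, a8⟩

theorem A7_iff (c : Co T) : c ∈ sA7 T ↔ c ∈ sQ1 T ∧ Cm (sQ1 T) (sA T) c := by
  refine ⟨fun h => ⟨h.1, cm_of fun d hd => ?_⟩, fun h => A7_of_cm h.1 h.2⟩
  have h1 : d.a1 = 0 := hd
  obtain ⟨a1, b2, a2, b4, b6, b8, a8⟩ := h
  apply memA <;> simp [*] <;> ring

theorem A_of_cm1 {c : Co T} (a1 : c.a1 = 0) (h : Cm (sQ1 T) (sW T) c) : c ∈ sA T := by
  obtain ⟨-, b2, a2, b4, b6, b8, a8⟩ := A7_of_cm a1 (cm_mono W_le_A h)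
  obtain ⟨y, hy, f⟩ := h (y8 T 1) rfl
  obtain ⟨z, hz, g⟩ := h (y2 T 1) rfl
  obtain ⟨y1', y2', y3', y4', y5', y6', y7', y8', y9', y10'⟩ := hy
  obtain ⟨z1', z2', z3', z4', z5', z6', z7', z8', z9', z10'⟩ := hz
  have a3 : c.a3 = 0 := by
    have := congrArg Co.a5 f; simp [y8, *] at this; grind
  have a7 : c.a7 = 0 := by
    have := congrArg Co.a5 g; simp [y2, *] at this; grind
  exact ⟨a1, b2, a2, a3, b4, b6, a7, b8, a8⟩

theorem A_iff1 (c : Co T) : c ∈ sA T ↔ c ∈ sQ1 T ∧ Cm (sQ1 T) (sW T) c := by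
  refine ⟨fun h => ⟨h.1, cm_of fun d hd => ?_⟩, fun h => A_of_cm1 h.1 h.2⟩
  have h1 : d.a1 = 0 := hd
  obtain ⟨a1, b2, a2, a3, b4, b6, a7, b8, a8⟩ := h
  apply memW <;> simp [*] <;> ring

theorem W_iff1 (c : Co T) : c ∈ sW T ↔ c ∈ sQ1 T ∧ Cm (sQ1 T) ⊥ c := by
  constructor
  · intro h
    refine ⟨h.1, fun d hd => ⟨1, Subgroup.one_mem _, ?_⟩⟩
    have h1 : d.a1 = 0 := hd
    obtain ⟨a1, b2, a2, a3, b4, a5, b6, a7, b8, a8⟩ := h
    rw [mul_one]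
    ext <;> simp [*] <;> ring
  · rintro ⟨a1, h⟩
    have a1 : c.a1 = 0 := a1
    obtain ⟨-, b2, a2, a3, b4, b6, a7, b8, a8⟩ := A_of_cm1 a1 (cm_mono bot_le h)
    obtain ⟨y, hy, f⟩ := h (y2 T 1) rfl
    rw [Subgroup.mem_bot] at hy
    subst hy
    have a5 : c.a5 = 0 := by
      have := congrArg Co.a4 f; simp [y2, *] at this; grind
    exact ⟨a1, b2, a2, a3, b4, a5, b6, a7, b8, a8⟩

/-! ### powers -/

theorem y4_sq : y4 T 1 * y4 T 1 = x4 T 1 := by ext <;> simp [y4, x4] <;> grind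

theorem t7_sq : (⟨0, 0, 0, 1, 0, 0, 0, 1, 0, 0, 0, 1⟩ : Co T) * ⟨0, 0, 0, 1, 0, 0, 0, 1, 0, 0, 0, 1⟩ =
    x4 T 1 := by
  ext <;> simp [x4] <;> grind

theorem x7_not_sq {s : Co T} (hs : s ∈ sT7 T) : s * s ≠ x7 T 1 := by
  intro e
  obtain ⟨a1, b2, a2, b4⟩ := hs
  have h8 := congrArg Co.a8 e
  have h7 := congrArg Co.a7 e
  simp [x7, a1, b2, a2, b4] at h8 h7
  have : s.b8 = 0 := mul_sig_eq_zero (T := T) (by grind)
  rw [this] at h7
  grind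

theorem x5_fourth : ∃ s ∈ sT5 T, (s * s) * (s * s) = x5 T 1 := by
  refine ⟨⟨1, 0, 0, 0, 1, 0, 0, 0, 0, 0, 0, 1⟩, ⟨rfl, rfl⟩, ?_⟩
  ext <;> simp [x5] <;> grind

theorem x6_fourth : ∃ s ∈ sQ1 T, (s * s) * (s * s) = x6 T 1 := by
  refine ⟨⟨0, 0, 1, 0, 0, 0, 0, 0, 0, 0, 1, 0⟩, rfl, ?_⟩
  ext <;> simp [x6] <;> grind

theorem x4_not_fourth5 {s : Co T} (hs : s ∈ sT5 T) : (s * s) * (s * s) ≠ x4 T 1 := by
  intro e
  obtain ⟨b2, b8⟩ := hs
  have e1 : (s * s).a1 = 0 := by simp; grind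
  have e2 : (s * s).b2 = 0 := by simp [*]
  have e3 : (s * s).b8 = 0 := by simp [*]
  have e4 : (s * s).a8 = 0 := by simp [*]; grind
  have e5 : (s * s).b4 = s.a8 * T.σ s.a1 := by simp [*]; grind
  have e6 : (s * s).b6 = s.a8 * s.a1 := by simp [*]; grind
  have e7 : (s * s).a7 = T.σ s.a8 * s.a1 := by simp [*]; grind
  generalize s * s = t at *
  have h5 := congrArg Co.a5 e
  have h4 := congrArg Co.a4 e
  simp [x4, e1, e2, e3, e4] at h5 h4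
  rw [e5, e6] at h5
  have h0 : s.a8 = 0 ∨ s.a1 = 0 := by
    by_contra hc
    rw [not_or] at hc
    have h1 : T.σ s.a1 ≠ 0 := fun h => hc.2 (sig_eq_zero h)
    have : s.a8 * s.a1 * (s.a8 * T.σ s.a1) ≠ 0 := by simp [hc.1, hc.2]
    grind
  rw [e5, e6, e7] at h4
  rcases h0 with h | h <;> simp [h] at h4 <;> grind

theorem fourth8 {s : Co T} (hs : s ∈ sT8 T) : (s * s) * (s * s) = 1 := by
  obtain ⟨a1, b2, a2, a3⟩ := hs
  have e1 : (s * s).a1 = 0 := by simp [*]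
  have e2 : (s * s).b2 = 0 := by simp [*]
  have e3 : (s * s).a2 = 0 := by simp [*]
  have e4 : (s * s).a3 = 0 := by simp [*]
  have e5 : (s * s).b4 = 0 := by simp [*]; grind
  have e6 : (s * s).b6 = 0 := by simp [*]; grind
  have e7 : (s * s).b8 = 0 := by simp [*]; grind
  generalize s * s = t at *
  ext <;> simp [*] <;> grind

theorem comm8 {a b : Co T} (ha : a ∈ sT8 T) (hb : b ∈ sT8 T) : ∃ e ∈ sV6 T, a * b = b * a * e := by
  refine ⟨(b * a)⁻¹ * (a * b), ?_, by group⟩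
  obtain ⟨a1, b2, a2, a3⟩ := ha
  obtain ⟨a1', b2', a2', a3'⟩ := hb
  refine ⟨?_, ?_, ?_, ?_, ?_, ?_, ?_⟩ <;> simp [*] <;> grind

theorem comm86 {e c : Co T} (he : e ∈ sV6 T) (hc : c ∈ sT8 T) : ∃ b, e * c = c * e * x6 T b := by
  obtain ⟨a1, b2, a2, a3, b4, b6, b8⟩ := he
  obtain ⟨a1', b2', a2', a3'⟩ := hc
  refine ⟨e.a7 * c.b4 + c.b8 * e.a5, ?_⟩
  ext <;> simp [x6, *] <;> grind

theorem c64 : y6 T 1 * y4 T 1 = y4 T 1 * y6 T 1 * x5 T 1 := by ext <;> simp [y4, y6, x5]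

theorem c58 : x5 T 1 * y8 T 1 = y8 T 1 * x5 T 1 * x6 T 1 := by
  ext <;> simp [y8, x6, x5] <;> grind

theorem conj38 (v : K) : x3 T 1 * (x4 T v * x8 T 1) * (x3 T 1)⁻¹ = x4 T v * x8 T 1 * x6 T 1 := by
  ext <;> simp [x3, x4, x8, x6] <;> grind

theorem card_Co [Finite K] : Nat.card (Co T) = Nat.card K ^ 12 := by
  let e : Co T ≃ K × K × K × K × K × K × K × K × K × K × K × K :=
    { toFun := fun c => (c.a1, c.b2, c.a2, c.a3, c.b4, c.a4, c.a5, c.b6, c.a6, c.a7, c.b8, c.a8)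
      invFun := fun p => ⟨p.1, p.2.1, p.2.2.1, p.2.2.2.1, p.2.2.2.2.1, p.2.2.2.2.2.1, p.2.2.2.2.2.2.1,
        p.2.2.2.2.2.2.2.1, p.2.2.2.2.2.2.2.2.1, p.2.2.2.2.2.2.2.2.2.1, p.2.2.2.2.2.2.2.2.2.2.1,
        p.2.2.2.2.2.2.2.2.2.2.2⟩
      left_inv := fun c => rfl
      right_inv := fun p => rfl }
  rw [Nat.card_congr e]
  simp only [Nat.card_prod]
  ring

theorem pgroup_Co [Finite K] : IsPGroup 2 (Co T) := by
  haveI := Fintype.ofFinite K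
  obtain ⟨n, -, hn⟩ := FiniteField.card K 2
  refine IsPGroup.of_card (n := n * 12) ?_
  rw [card_Co, Nat.card_eq_fintype_card, hn, pow_mul]

end H55.Oc
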