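/- A7 tower: small representations of covers of `A₇`, and `p`-elements centralising `A`. -/
import Cfsg.Agent.H49.A7Kit
import Cfsg.Agent.H57.PslAutDefs
import Cfsg.Agent.S2119

set_option autoImplicit false

namespace H55.A7R
open Subgroup Cfsg H49.A7 Module
open scoped commutatorElement

section Grp
variable {G M : Type*} [Group G]

theorem le_of_perf {P K : Subgroup G} (h : ⁅P, P⁆ = P) (k : ∀ x ∈ P, ∀ y ∈ P, ⁅x, y⁆ ∈ K) : P ≤ K :=
  h.ge.trans (commutator_le.2 k)

theorem comm_cen {x y c d : G} (hc : c ∈ center G) (hd : d ∈ center G) : ⁅c * x, d * y⁆ = ⁅x, y⁆ := by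
  have a := mem_center_iff.1 hc
  have b := mem_center_iff.1 hd
  simp only [commutatorElement_def, mul_inv_rev]
  calc c * x * (d * y) * (x⁻¹ * c⁻¹) * (y⁻¹ * d⁻¹) = c * (x * (d * y) * x⁻¹) * c⁻¹ * y⁻¹ * d⁻¹ := by group
    _ = x * (d * (y * x⁻¹ * y⁻¹) * d⁻¹) := by rw [← a, mul_inv_cancel_right]; group
    _ = _ := by rw [← b, mul_inv_cancel_right]; group

/-- two homomorphisms that agree modulo the centre agree on a perfect subgroup -/
theorem perf_eq [Group M] {P : Subgroup G} (h : ⁅P, P⁆ = P) (φ ψ : G →* M)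
    (k : ∀ x ∈ P, φ x * (ψ x)⁻¹ ∈ center M) : ∀ x ∈ P, φ x = ψ x :=
  le_of_perf (K := φ.eqLocus ψ) h fun x hx y hy => by
    change φ ⁅x, y⁆ = ψ ⁅x, y⁆
    rw [map_commutatorElement, map_commutatorElement, ← comm_cen (x := ψ x) (y := ψ y) (k x hx) (k y hy)]
    simp

theorem triv_of_comm [Monoid M] (h : commutator G = ⊤) (ρ : G →* M) (k : ∀ x y, ρ x * ρ y = ρ y * ρ x) (g : G) :
    ρ g = 1 :=
  le_of_perf (P := ⊤) (K := ρ.ker) h (fun x _ y _ => by
    rw [MonoidHom.mem_ker, commutatorElement_def, map_mul, map_mul, map_mul, k x y, mul_assoc (ρ y), ← map_mul,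
      ← map_mul, ← map_mul]
    simp) (mem_top g)

theorem exists_lift [Group M] (f : G →* M) (hs : Function.Surjective f) (hk : ∀ k, f k = 1 → k ∈ center G)
    {A : Subgroup M} (hA : ⁅A, A⁆ = A) : ∃ P : Subgroup G, ⁅P, P⁆ = P ∧ P.map f = A := by
  have e : ⁅A.comap f, A.comap f⁆.map f = A := by rw [map_commutator, map_comap_eq_self_of_surjective hs, hA]
  refine ⟨_, le_antisymm (commutator_mono (map_le_iff_le_comap.1 e.le) (map_le_iff_le_comap.1 e.le))
    (commutator_le.2 fun x hx y hy => ?_), e⟩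
  obtain ⟨x', hx', a⟩ := e.ge hx
  obtain ⟨y', hy', b⟩ := e.ge hy
  have := comm_cen (x := x') (y := y') (hk (x * x'⁻¹) (by simp [a])) (hk (y * y'⁻¹) (by simp [b]))
  simp only [inv_mul_cancel_right] at this
  exact this ▸ commutator_mem_commutator hx' hy'

variable {Y : Type*} [Group Y] [Finite Y] {σ : MulAut Y} {A : Subgroup Y}

omit [Finite Y] in
/-- the action of the fixed points on `A / Z(A)` -/
theorem exists_act (h : Cf σ A) {U : Subgroup Y} (hU : ∀ u ∈ U, σ u = u) :
    ∃ f : U →* MulAut A7, ∀ u, f u = 1 → (u : Y) ∈ centralizer (A : Set Y) := by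
  obtain ⟨e⟩ := h.ty
  refine ⟨(MulAut.congr e).toMonoidHom.comp ((H57.quotCenterAut A).comp (A.normalizerMonoidHom.comp
    (inclusion fun u hu => h.nor u (hU u hu)))), fun u hu => mem_centralizer_iff.2 fun a ha => ?_⟩
  have k := (map_eq_one_iff _ (MulAut.congr e).injective).1 hu
  have := perf_eq (P := ⊤) (G := A) h.qs.1.commutator_eq_top
    (A.normalizerMonoidHom ⟨u, h.nor u (hU u u.2)⟩).toMonoidHom (MonoidHom.id A) (fun x _ => by
      rw [← QuotientGroup.eq_one_iff, QuotientGroup.mk_mul, QuotientGroup.mk_inv, mul_inv_eq_one]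
      exact DFunLike.congr_fun k (x : A ⧸ center A)) ⟨a, ha⟩ (mem_top _)
  exact (mul_inv_eq_iff_eq_mul.1 (congrArg Subtype.val this)).symm

theorem card_aut : Nat.card (MulAut A7) = 5040 := by
  rw [← Nat.card_congr (Equiv.ofBijective _ (Cfsg.Agent.S2119.result 7 (by norm_num) (by norm_num))),
    Nat.card_perm]
  simp [Nat.factorial]

omit [Finite Y] in
/-- commutators in an odd `p`-group of fixed points centralise `A` -/
theorem comm_cent (h : Cf σ A) {U : Subgroup Y} (hU : ∀ u ∈ U, σ u = u) {p : ℕ} [hp : Fact p.Prime] (h2 : p ≠ 2)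
    (hP : IsPGroup p U) {a b : Y} (ha : a ∈ U) (hb : b ∈ U) : ⁅a, b⁆ ∈ centralizer (A : Set Y) := by
  obtain ⟨f, hf⟩ := exists_act h hU
  refine hf ⁅(⟨a, ha⟩ : U), ⟨b, hb⟩⁆ ?_
  haveI : Finite (MulAut A7) := Nat.finite_of_card_ne_zero (by rw [card_aut]; norm_num)
  obtain ⟨n, e⟩ := (hP.of_surjective _ f.rangeRestrict_surjective).exists_card_eq
  have d : p ^ n ∣ 5040 := e ▸ card_aut ▸ f.range.card_subgroup_dvd_card
  have n2 : n ≤ 2 := by
    by_contra! k
    have d3 : p ^ 3 ∣ 5040 := (pow_dvd_pow p k).trans d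
    have l : p < 18 := by
      by_contra! l
      exact absurd ((Nat.pow_le_pow_left l 3).trans (Nat.le_of_dvd (by norm_num) d3)) (by norm_num)
    have := hp.out.two_le
    interval_cases p <;> simp_all
  have c : IsMulCommutative f.range := by
    interval_cases n
    · haveI := (Nat.card_eq_one_iff_unique.1 (e.trans (pow_zero p))).1
      exact ⟨⟨fun _ _ => Subsingleton.elim _ _⟩⟩
    · haveI := isCyclic_of_prime_card (e.trans (pow_one p))
      infer_instance
    · exact IsPGroup.isMulCommutative_of_card_eq_prime_sq e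
  rw [map_commutatorElement, commutatorElement_eq_one_iff_mul_comm]
  exact congrArg Subtype.val (c.1.1 ⟨_, _, rfl⟩ ⟨_, _, rfl⟩)

/-- an element of order seven centralising `A` -/
theorem exists_seven (h : Cf σ A) (hz : center Y = ⊥) {D : Subgroup (MulAut Y)} {n : ℕ} (hn : n.Coprime 7)
    (hD : ∀ d ∈ D, d ^ n ∈ (MulAut.conj : Y →* MulAut Y).range)
    (h49 : 49 ∣ Nat.card (D ⊓ centralizer {σ} : Subgroup (MulAut Y))) :
    ∃ y : Y, y ≠ 1 ∧ y ^ 49 = 1 ∧ y ∈ centralizer (A : Set Y) := by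
  haveI : Fact (Nat.Prime 7) := ⟨by norm_num⟩
  haveI : Finite (MulAut Y) := Finite.of_injective _ (DFunLike.coe_injective (F := MulAut Y))
  have inj : Function.Injective (MulAut.conj : Y →* MulAut Y) := (injective_iff_map_eq_one _).2 fun y hy =>
    mem_bot.1 (hz ▸ mem_center_iff.2 fun g => (mul_inv_eq_iff_eq_mul.1 (DFunLike.congr_fun hy g)).symm)
  obtain ⟨U0, hU0⟩ := Sylow.exists_subgroup_card_pow_prime 7 (n := 2) h49
  have c1 : Nat.card (U0.map (Subgroup.subtype _)) = 49 := (card_map_of_injective (subtype_injective _)).trans hU0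
  have le := map_subtype_le U0
  generalize U0.map (Subgroup.subtype _) = U at c1 le
  have rg : U ≤ (MulAut.conj : Y →* MulAut Y).range := fun u hu => by
    have o : orderOf u ∣ 7 ^ 2 := (c1 ▸ orderOf_dvd_natCard U hu :)
    obtain ⟨m, e⟩ := exists_pow_eq_self_of_coprime (x := u) ((hn.pow_right 2).of_dvd_right o)
    exact e ▸ pow_mem (hD u (le hu).1) m
  have c2 : Nat.card (U.comap MulAut.conj) = 49 := by
    rw [← card_map_of_injective inj, map_comap_eq_self rg, c1]
  obtain ⟨f, hf⟩ := exists_act h (U := U.comap MulAut.conj) fun u hu => inj (by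
    have := mem_centralizer_singleton_iff.1 (le hu).2
    ext x
    simpa using (DFunLike.congr_fun this (σ⁻¹ x)).symm)
  by_contra! k
  have := card_dvd_of_injective f ((injective_iff_map_eq_one f).2 fun u hu => by_contra fun e =>
    k u (fun a => e (Subtype.ext a)) (by rw [← c2]; exact congrArg Subtype.val (pow_card_eq_one' (x := u))) (hf u hu))
  rw [c2, card_aut] at this
  norm_num at this

end Grp

/-- covers of `A₇` with a distinguished subgroup -/
structure Ty (P : Type*) [Group P] (K : Subgroup P) : Prop where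
  qs : IsQuasisimple P
  el : ∀ r : ℕ, r = 5 ∨ r = 7 → ∃ x a : P, x ^ r ∈ K ∧ a * x * a⁻¹ * (x ^ 2)⁻¹ ∈ K ∧ ∀ d, ¬ r ∣ d → x ^ d ∉ center P

/-- the lifted configuration -/
structure Sit {G : Type*} [Group G] (α : MulAut G) (A : Subgroup (G ⧸ center G)) (P : Subgroup G) : Prop where
  ty : Ty P ((center G).subgroupOf P)
  fix : ∀ p ∈ P, α p = p
  cen : ∀ y : G, (y : G ⧸ center G) ∈ centralizer (A : Set (G ⧸ center G)) → ∀ p ∈ P, y * p = p * y

theorem exists_sit {G : Type*} [Group G] [Finite G] {α : MulAut G} {A : Subgroup (G ⧸ center G)}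
    (h : Cf (H57.quotCenterAut G α) A) : ∃ P, Sit α A P := by
  obtain ⟨P, pf, e⟩ := exists_lift (QuotientGroup.mk' (center G)) (QuotientGroup.mk'_surjective _)
    (fun k => (QuotientGroup.eq_one_iff k).1) (H14.quasi_sub_perfect h.qs)
  have m : ∀ p ∈ P, (p : G ⧸ center G) ∈ A := fun p hp => e ▸ ⟨p, hp, rfl⟩
  have q : ∀ {a b : G}, (a : G ⧸ center G) = b → a * b⁻¹ ∈ center G := fun k => by
    rw [← QuotientGroup.eq_one_iff, QuotientGroup.mk_mul, QuotientGroup.mk_inv, k, mul_inv_cancel]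
  refine ⟨P, ⟨H14.quasi_of_map (QuotientGroup.mk' (center G)) pf (commutator_eq_bot_iff_le_centralizer.2
    fun x hx => center_le_centralizer _ ((QuotientGroup.eq_one_iff x).1 hx.1)) (e ▸ h.qs), fun r hr => ?_⟩,
    perf_eq pf α.toMonoidHom (MonoidHom.id G) fun p hp => q (h.fix _ (m p hp)), fun y hy p hp =>
      mul_inv_eq_iff_eq_mul.1 (perf_eq pf (MulAut.conj y).toMonoidHom (MonoidHom.id G) (fun p hp =>
        q (mul_inv_eq_iff_eq_mul.2 (hy _ (m p hp)).symm)) p hp)⟩
  obtain ⟨x, hx, a, ha, o, k⟩ : ∃ x ∈ A, ∃ a ∈ A, orderOf x = r ∧ a * x * a⁻¹ = x ^ 2 := by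
    rcases hr with rfl | rfl
    exacts [h.kit.x5, h.kit.x7]
  obtain ⟨x, hx', rfl⟩ := e.ge hx
  obtain ⟨a, ha', rfl⟩ := e.ge ha
  refine ⟨⟨x, hx'⟩, ⟨a, ha'⟩, (QuotientGroup.eq_one_iff (x ^ r)).1 (o ▸ pow_orderOf_eq_one (x : G ⧸ center G)), q k, fun d hd c => hd ?_⟩
  have c' : (⟨_, hx⟩ : A) ^ d ∈ center A := mem_center_iff.2 fun ⟨g, hg⟩ => by
    obtain ⟨g, hg', rfl⟩ := e.ge hg
    exact Subtype.ext (congrArg (fun t : P => ((t : G) : G ⧸ center G)) (mem_center_iff.1 c ⟨g, hg'⟩))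
  have c3 : ((⟨_, hx⟩ : A) ^ d) ^ 3 = 1 := orderOf_dvd_iff_pow_eq_one.1 ((orderOf_dvd_natCard _ c').trans (by
    rcases h.kit.card with k | k <;> simp [k.2]))
  have : r ∣ d * 3 := o ▸ orderOf_dvd_of_pow_eq_one (by rw [pow_mul]; exact congrArg Subtype.val c3)
  rcases hr with rfl | rfl <;> omega

section Rep
variable {F P V : Type} [Field F] [Group P] [AddCommGroup V] [Module F V] [FiniteDimensional F V]
  {K : Subgroup P} {ρ : Representation F P V}

/-- `K` acts by scalars -/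
def Sc (ρ : Representation F P V) (K : Subgroup P) : Prop := ∀ k ∈ K, ∃ c : F, ∀ v, ρ k v = c • v
/-- dimensions in which every representation is trivial -/
def Sm (F : Type) [Field F] (d : ℕ) : Prop := d ≤ 2 ∨ d ≤ 3 ∧ (5 : F) ≠ 0
/-- invariant subspaces -/
def Iv (ρ : Representation F P V) (W : Submodule F V) : Prop := ∀ g, ∀ v ∈ W, ρ g v ∈ W
/-- subspaces of fixed vectors -/
def Tr (ρ : Representation F P V) (W : Submodule F V) : Prop := ∀ g, ∀ v ∈ W, ρ g v = v

theorem Sm.mono {d e : ℕ} (h : Sm F d) (k : e ≤ d) : Sm F e := h.imp k.trans (And.imp_left k.trans)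

theorem key (T : Ty P K) (S : Sc ρ K) {r : ℕ} (hr : r = 5 ∨ r = 7) (hd : ¬ r ∣ finrank F V) (nt : ∃ g, ρ g ≠ 1) :
    ∃ x a : P, ρ x ≠ 1 ∧ ρ (x ^ r) = 1 ∧ ρ (a * x * a⁻¹) = ρ (x ^ 2) := by
  have k1 : ∀ k ∈ K, ρ k ^ finrank F V = 1 ∧ ∀ t, Commute (ρ k) t := fun k hk => by
    obtain ⟨c, hc⟩ := S k hk
    have e : ρ k = c • 1 := LinearMap.ext hc
    have := triv_of_comm T.qs.1.commutator_eq_top (LinearMap.det.comp ρ) (fun _ _ => mul_comm _ _) k
    rw [MonoidHom.comp_apply, e, LinearMap.det_smul, map_one, mul_one] at this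
    exact ⟨by rw [e, smul_pow, this, one_pow, one_smul], fun t => e ▸ (Commute.one_left t).smul_left c⟩
  obtain ⟨x, a, h1, h2, h3⟩ := T.el r hr
  obtain ⟨g, hg⟩ := nt
  refine ⟨x ^ finrank F V, a, fun e => h3 _ hd (((H14.quasi_normal T.qs (MonoidHom.ker ρ)).resolve_left fun k =>
    hg (k.ge (mem_top g))) e), by rw [← pow_mul, mul_comm, pow_mul, map_pow, (k1 _ h1).1], ?_⟩
  rw [← conj_pow, ← inv_mul_cancel_right (a * x * a⁻¹) (x ^ 2), map_pow, map_mul, ((k1 _ h2).2 _).mul_pow, (k1 _ h2).1,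
    one_mul, ← map_pow, ← pow_mul, ← pow_mul, mul_comm]

theorem la_rep (la : JobLA) (T : Ty P K) (S : Sc ρ K) (hd : finrank F V ≤ 5) (nt : ∃ g, ρ g ≠ 1) :
    ((5 : F) ≠ 0 → 4 ≤ finrank F V) ∧ ((7 : F) ≠ 0 → 3 ≤ finrank F V ∧
      ¬ ∀ g, (ρ g).charpoly = (ρ g⁻¹).charpoly) := by
  let E := LinearMap.toMatrixAlgEquiv (finBasis F V)
  let τ : P →* GL (Fin (finrank F V)) F := (E.toMulEquiv.toMonoidHom.comp ρ).toHomUnits
  have t1 : ∀ {x y}, τ x = τ y ↔ ρ x = ρ y := Units.ext_iff.trans E.injective.eq_iff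
  have t2 : ∀ x, (τ x).val.charpoly = (ρ x).charpoly := fun x => LinearMap.charpoly_toMatrix _ _
  have d0 : finrank F V ≠ 0 := fun e => by
    haveI := finrank_zero_iff.1 e
    exact nt.elim fun g hg => hg (Subsingleton.elim _ _)
  have k : ∀ r, r = 5 ∨ r = 7 → ¬ r ∣ finrank F V → ∃ x a, τ x ≠ 1 ∧ τ x ^ r = 1 ∧ τ a * τ x * (τ a)⁻¹ = τ x ^ 2 :=
    fun r hr h => by
      obtain ⟨x, a, h1, h2, h3⟩ := key T S hr h nt
      exact ⟨x, a, fun e => h1 ((t1.1 (e.trans τ.map_one.symm)).trans ρ.map_one), by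
        rw [← map_pow, ← τ.map_one, t1, h2, map_one], by rw [← map_inv, ← map_mul, ← map_mul, ← map_pow, t1, h3]⟩
  refine ⟨fun h5 => by_contra fun l => ?_, fun h7 => ?_⟩
  · obtain ⟨x, a, h1, h2, h3⟩ := k 5 (.inl rfl) (by omega)
    exact l ((la F _ _ _ h1 h3).1 h2 h5)
  · obtain ⟨x, a, h1, h2, h3⟩ := k 7 (.inr rfl) (by omega)
    obtain ⟨u, v⟩ := (la F _ _ _ h1 h3).2 h2 h7
    exact ⟨u, fun c => absurd (v (by rw [← map_inv, t2, t2, c])) (by omega)⟩

variable (la : JobLA) (T : Ty P K) (S : Sc ρ K)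
include la T S

theorem triv_small (h : Sm F (finrank F V)) (g : P) : ρ g = 1 := by
  by_contra k
  obtain ⟨a, b⟩ := la_rep la T S (by rcases h with h | h <;> omega) ⟨g, k⟩
  by_cases h5 : (5 : F) = 0
  · have := (b fun h7 => one_ne_zero (by linear_combination 3 * h5 - 2 * h7 : (1 : F) = 0)).1
    rcases h with h | h
    exacts [by omega, h.2 h5]
  · have := a h5
    rcases h with h | h <;> omega

/-- one step in a flag -/
theorem step {W₁ W₂ : Submodule F V} (le : W₁ ≤ W₂) (t : Tr ρ W₁) (i : Iv ρ W₂)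
    (h : Sm F (finrank F W₂ - finrank F W₁)) : Tr ρ W₂ := by
  let ρ₂ := ρ.subrepresentation W₂ i
  have i1 : ∀ g, W₁.comap W₂.subtype ≤ (W₁.comap W₂.subtype).comap (ρ₂ g) := fun g v hv => by
    change ρ g v ∈ W₁
    rw [t g v hv]; exact hv
  have a := triv_small (ρ := ρ₂.quotient _ i1) la T (fun k hk => (S k hk).imp fun c hc v => by
    obtain ⟨v, rfl⟩ := Submodule.Quotient.mk_surjective _ v
    exact congrArg Submodule.Quotient.mk (Subtype.ext (hc v) : ρ₂ k v = c • v)) (by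
      have := (W₁.comap W₂.subtype).finrank_quotient_add_finrank
      rw [(Submodule.comapSubtypeEquivOfLe le).finrank_eq] at this
      exact h.mono (by omega))
  have b : ∀ g, ∀ v ∈ W₂, ρ g v - v ∈ W₁ := fun g v hv =>
    (Submodule.Quotient.eq (W₁.comap W₂.subtype) (x := ρ₂ g ⟨v, hv⟩) (y := ⟨v, hv⟩)).1
      (DFunLike.congr_fun (a g) (Submodule.Quotient.mk (⟨v, hv⟩ : W₂)) :)
  have c : ∀ g h, ∀ v ∈ W₂, ρ g (ρ h v) = ρ g v + ρ h v - v := fun g h v hv => by
    have := t g _ (b h v hv)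
    rw [map_sub] at this
    rw [add_sub_assoc, ← this]; abel
  intro g v hv
  exact congrArg Subtype.val (DFunLike.congr_fun (triv_of_comm T.qs.1.commutator_eq_top ρ₂ (fun x y =>
    LinearMap.ext fun v => Subtype.ext (by
      change ρ x (ρ y v) = ρ y (ρ x v)
      rw [c x y _ v.2, c y x _ v.2, add_comm])) g) ⟨v, hv⟩)

theorem tr_small {W : Submodule F V} (i : Iv ρ W) (h : Sm F (finrank F W)) : Tr ρ W :=
  step la T S bot_le (fun g v hv => by rw [(Submodule.mem_bot F).1 hv, map_zero]) i (by simpa using h)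

omit la T S [FiniteDimensional F V] in
theorem Tr.sup {W W' : Submodule F V} (t : Tr ρ W) (t' : Tr ρ W') : Tr ρ (W ⊔ W') := fun g v hv => by
  obtain ⟨a, ha, b, hb, rfl⟩ := Submodule.mem_sup.1 hv
  rw [map_add, t g a ha, t' g b hb]

omit la T S [FiniteDimensional F V] in
theorem iv_ker {N : V →ₗ[F] V} (c : ∀ g v, N (ρ g v) = ρ g (N v)) : Iv ρ (LinearMap.ker N) := fun g v hv => by
  rw [LinearMap.mem_ker, c, LinearMap.mem_ker.1 hv, map_zero]

/-- a nilpotent endomorphism commuting with the representation -/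
theorem lu {N : V →ₗ[F] V} (n0 : N ≠ 0) (nil : IsNilpotent N) (c : ∀ g v, N (ρ g v) = ρ g (N v))
    {W : Submodule F V} (t : Tr ρ W) (k : W ≤ LinearMap.ker N) (dj : Disjoint W (LinearMap.range N))
    (h5 : finrank F V ≤ 5) (h : Sm F (finrank F V - 2 - finrank F W)) : Tr ρ ⊤ := by
  have iK := iv_ker c
  have iI : Iv ρ (LinearMap.range N) := by rintro g _ ⟨v, rfl⟩; exact ⟨_, c g v⟩
  have e1 := LinearMap.finrank_range_add_finrank_ker N
  have e2 := Submodule.finrank_sup_add_finrank_inf_eq (LinearMap.ker N) (LinearMap.range N)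
  have e3 := Submodule.finrank_mono (inf_le_left : LinearMap.ker N ⊓ LinearMap.range N ≤ _)
  have e4 := Submodule.finrank_mono (inf_le_right : LinearMap.ker N ⊓ LinearMap.range N ≤ _)
  have e5 := Submodule.finrank_sup_add_finrank_inf_eq (LinearMap.ker N ⊓ LinearMap.range N) W
  rw [(dj.symm.mono_left inf_le_right).eq_bot, finrank_bot] at e5
  have e6 : finrank F (LinearMap.ker N ⊓ LinearMap.range N : Submodule F V) ≠ 0 := fun e => by
    obtain ⟨m, hm⟩ := nil
    have z := Submodule.finrank_eq_zero.1 e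
    have : ∀ m v, (N ^ (m + 1)) v = 0 → N v = 0 := fun m => by
      induction m with
      | zero => simp
      | succ m ih => exact fun v hv => (Submodule.mem_bot F).1 (z ▸ ⟨ih _ (by rwa [pow_succ] at hv), v, rfl⟩)
    exact n0 (LinearMap.ext fun v => this m v (by rw [pow_succ', hm]; simp))
  have t1 := tr_small la T S (W := LinearMap.ker N ⊓ LinearMap.range N) (fun g v hv => ⟨iK g v hv.1, iI g v hv.2⟩)
    (.inl (by omega))
  have t2 := step la T S (W₂ := LinearMap.ker N ⊔ LinearMap.range N)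
    (sup_le (inf_le_left.trans le_sup_left) (k.trans le_sup_left)) (t1.sup t) (fun g v hv => by
      obtain ⟨a, ha, b, hb, rfl⟩ := Submodule.mem_sup.1 hv
      rw [map_add]
      exact Submodule.add_mem_sup (iK g a ha) (iI g b hb)) (h.mono (by omega))
  exact step la T S le_top t2 (fun _ _ _ => trivial) (.inl (by rw [finrank_top]; omega))

end Rep

section Top
variable {F G V : Type} [Field F] [Group G] [AddCommGroup V] [Module F V] [FiniteDimensional F V]
  {α : MulAut G} {A : Subgroup (G ⧸ center G)} {P : Subgroup G} {ρ : Representation F G V}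

omit [FiniteDimensional F V] in
theorem nil_of_pow (p : ℕ) [Fact p.Prime] [CharP F p] {t : V →ₗ[F] V} {c : F} {k : ℕ}
    (h : t ^ p ^ k = c ^ p ^ k • 1) : IsNilpotent (t - c • 1) := by
  nontriviality V →ₗ[F] V
  haveI := charP_of_injective_algebraMap' F (A := V →ₗ[F] V) p
  exact ⟨p ^ k, by rw [sub_pow_char_pow_of_commute _ _ ((Commute.one_right t).smul_right c), h, smul_pow, one_pow, sub_self]⟩

omit [FiniteDimensional F V] in
theorem Sc.res (S : Sc ρ (center G)) : Sc (ρ.comp P.subtype) ((center G).subgroupOf P) := fun k hk => S k hk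

omit [FiniteDimensional F V] in
/-- the cover acts non-trivially in a faithful representation -/
theorem Sit.nt (s : Sit α A P) (inj : Function.Injective ρ) : ¬ Tr (ρ.comp P.subtype) ⊤ := fun t => by
  haveI := H14.quasi_nontrivial s.ty.qs
  obtain ⟨x, hx⟩ := exists_ne (1 : P)
  exact hx (Subtype.ext (inj ((LinearMap.ext fun v => t x v trivial).trans ρ.map_one.symm)))

/-- in dimension at most five, if the cover is conjugate to its dual the characteristic is seven -/
theorem Sit.char7 (la : JobLA) (s : Sit α A P) (inj : Function.Injective ρ) (S : Sc ρ (center G))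
    (hd : finrank F V ≤ 5) (c : ∀ g ∈ P, (ρ g).charpoly = (ρ g⁻¹).charpoly) : (7 : F) = 0 ∧ 4 ≤ finrank F V := by
  obtain ⟨a, b⟩ := la_rep la s.ty S.res hd (by_contra fun k => s.nt inj fun g v _ =>
    DFunLike.congr_fun (not_not.1 (not_exists.1 k g)) v)
  have h7 : (7 : F) = 0 := by_contra fun h7 => (b h7).2 fun g => c g g.2
  exact ⟨h7, a fun h5 => one_ne_zero (by linear_combination 3 * h5 - 2 * h7 : (1 : F) = 0)⟩

/-- the end of the argument in characteristic seven -/
theorem Sit.seven [Finite G] [Finite F] (la : JobLA) (s : Sit α A P) (h : Cf (H57.quotCenterAut G α) A)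
    (inj : Function.Injective ρ) (S : Sc ρ (center G)) (hd : finrank F V ≤ 5) (h7 : (7 : F) = 0)
    (hz : center (G ⧸ center G) = ⊥) {D : Subgroup (MulAut (G ⧸ center G))} {n : ℕ} (hn : n.Coprime 7)
    (hD : ∀ d ∈ D, d ^ n ∈ (MulAut.conj : G ⧸ center G →* _).range)
    (h49 : 49 ∣ Nat.card (D ⊓ centralizer {H57.quotCenterAut G α} : Subgroup _)) : False := by
  haveI : Fact (Nat.Prime 7) := ⟨by norm_num⟩
  haveI : CharP F 7 := (CharP.charP_iff_prime_eq_zero Fact.out).2 (by simpa using h7)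
  obtain ⟨y, y1, y2, y3⟩ := exists_seven h hz hn hD h49
  obtain ⟨y, rfl⟩ := QuotientGroup.mk_surjective y
  obtain ⟨c, hc⟩ := S (y ^ 49) ((QuotientGroup.eq_one_iff _).1 y2)
  obtain ⟨c, rfl⟩ := Finite.injective_iff_surjective.1 (iterateFrobenius F 7 2).injective c
  refine s.nt inj (lu la s.ty S.res (N := ρ y - c • 1) (fun e => y1 ((QuotientGroup.eq_one_iff _).2
    (mem_center_iff.2 fun g => inj ?_))) (nil_of_pow 7 (k := 2) (by rw [← map_pow]; exact LinearMap.ext hc))
    (fun g v => ?_) (W := ⊥) (fun g v hv => by rw [(Submodule.mem_bot F).1 hv, map_zero]) bot_le disjoint_bot_left hd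
    (.inr ⟨by omega, fun h5 => one_ne_zero (by linear_combination 3 * h5 - 2 * h7 : (1 : F) = 0)⟩))
  · rw [map_mul, map_mul, sub_eq_zero.1 e]; simp
  · have := DFunLike.congr_fun (congrArg ρ (s.cen y y3 g g.2)) v
    simp only [map_mul, Module.End.mul_apply] at this
    simp [this]

end Top

end H55.A7R
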