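/- Additive bijections of `U / U'` compatible with the brackets. -/
import Cfsg.Agent.Base

set_option autoImplicit false
set_option linter.unusedSectionVars false

namespace H55.FU

variable {ι F : Type*} [DecidableEq ι] [Field F]

/-- The coordinate of the bracket at an edge. -/
def Bq (v w : ι → F) (i j : ι) : F := v i * w j + v j * w i

variable (φ : (ι → F) ≃+ (ι → F))

/-- `φ` maps the coordinate subspace vanishing on `S` onto the one vanishing on `T`. -/
def I (S T : ι → Prop) : Prop := ∀ v, (∀ i, T i → φ v i = 0) ↔ ∀ i, S i → v i = 0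

/-- `φ` preserves the kernel of the bracket. -/
def Br (adj : ι → ι → Prop) : Prop := ∀ v w v' w',
  (∀ i j, adj i j → Bq (φ v) (φ w) i j = Bq (φ v') (φ w') i j) ↔
    ∀ i j, adj i j → Bq v w i j = Bq v' w' i j

variable {φ} {S T S' T' : ι → Prop} {adj : ι → ι → Prop}

theorem I.congr (h : I φ S T) (e : (∀ i, S' i ↔ S i) ∧ ∀ i, T' i ↔ T i) : I φ S' T' := by
  rwa [show S' = S from funext fun i => propext (e.1 i), show T' = T from funext fun i => propext (e.2 i)]

theorem I.or (h : I φ S T) (h' : I φ S' T') : I φ (fun i => S i ∨ S' i) fun i => T i ∨ T' i :=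
  fun v => by simp only [or_imp, forall_and, h v, h' v]

theorem split (S S' : ι → Prop) (v : ι → F) : (∀ i, S i ∧ S' i → v i = 0) ↔
    ∃ a b, (∀ i, S i → a i = 0) ∧ (∀ i, S' i → b i = 0) ∧ v = a + b := by
  classical
  refine ⟨fun h => ⟨fun i => if S i then 0 else v i, fun i => if S i then v i else 0,
    fun i hi => if_pos hi, fun i hi => ?_, funext fun i => ?_⟩, ?_⟩
  · by_cases e : S i
    exacts [(if_pos e).trans (h i ⟨e, hi⟩), if_neg e]
  · by_cases e : S i <;> simp [e]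
  · rintro ⟨a, b, h1, h2, rfl⟩ i hi
    simp [h1 i hi.1, h2 i hi.2]

theorem I.and (h : I φ S T) (h' : I φ S' T') : I φ (fun i => S i ∧ S' i) fun i => T i ∧ T' i :=
  fun v => by
    rw [split, split]
    refine ⟨fun ⟨a, b, h1, h2, e⟩ => ⟨φ.symm a, φ.symm b, (h _).1 (by simpa using h1),
      (h' _).1 (by simpa using h2), φ.injective (by simpa using e)⟩, ?_⟩
    rintro ⟨a, b, h1, h2, rfl⟩
    exact ⟨_, _, (h a).2 h1, (h' b).2 h2, map_add _ _ _⟩

theorem Br.zero (h : Br φ adj) (v w : ι → F) :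
    (∀ i j, adj i j → Bq (φ v) (φ w) i j = 0) ↔ ∀ i j, adj i j → Bq v w i j = 0 := by
  simpa [Bq] using h v w 0 0

theorem cen (h1 : ∀ i j, adj i j → adj j i ∧ i ≠ j) (S : ι → Prop) (w : ι → F) :
    (∀ j, (∃ i, ¬ S i ∧ adj i j) → w j = 0) ↔
      ∀ v, (∀ i, S i → v i = 0) → ∀ i j, adj i j → Bq v w i j = 0 := by
  refine ⟨fun h v hv i j hij => ?_, ?_⟩
  · have k : ∀ i j, adj i j → v i * w j = 0 := fun i j hij => by
      by_cases e : S i
      · rw [hv i e, zero_mul]
      · rw [h j ⟨i, e, hij⟩, mul_zero]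
    rw [Bq, k i j hij, k j i (h1 i j hij).1, add_zero]
  · rintro h j ⟨i, e, hij⟩
    simpa [Bq, (h1 i j hij).2.symm] using h (Pi.single i 1)
      (fun k hk => Pi.single_eq_of_ne (by rintro rfl; exact e hk) _) i j hij

theorem I.cen (h : I φ S T) (b : Br φ adj) (h1 : ∀ i j, adj i j → adj j i ∧ i ≠ j) :
    I φ (fun j => ∃ i, ¬ S i ∧ adj i j) fun j => ∃ i, ¬ T i ∧ adj i j := fun w => by
  rw [FU.cen h1, FU.cen h1, φ.surjective.forall]
  simp only [h _, b.zero]

theorem cen1 (h1 : ∀ i j, adj i j → adj j i ∧ i ≠ j) {u : ι → F}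
    (hu : ∀ i j, adj i j → u i = 0 ∨ u j = 0) (w : ι → F) :
    (∀ j, (∃ i, u i ≠ 0 ∧ adj i j) → w j = 0) ↔ ∀ i j, adj i j → Bq u w i j = 0 := by
  refine ⟨fun h i j hij => ?_, ?_⟩
  · have k : ∀ i j, adj i j → u i * w j = 0 := fun i j hij => by
      by_cases e : u i = 0
      · rw [e, zero_mul]
      · rw [h j ⟨i, e, hij⟩, mul_zero]
    rw [Bq, k i j hij, k j i (h1 i j hij).1, add_zero]
  · rintro h j ⟨i, e, hij⟩
    simpa [Bq, e, (hu i j hij).resolve_left e] using h i j hij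

theorem I.imp (h : I φ S T) (h' : I φ S' T) {i : ι} (hi : S' i) : S i := by
  by_contra hc
  simpa using (h' _).1 ((h (Pi.single i 1)).2 fun k hk =>
    Pi.single_eq_of_ne (by rintro rfl; exact hc hk) _) i hi

/-- The image of a vector supported at one of two leaves. -/
theorem leaf (b : Br φ adj) (h1 : ∀ i j, adj i j → adj j i ∧ i ≠ j) {l l' m m' : ι}
    (hl : ∀ j, adj l j ↔ j = m) (hl' : ∀ j, adj l' j ↔ j = m') (hm : m' ≠ m) (hll : ¬ adj l l')
    (hV : I φ (fun i => i ≠ l ∧ i ≠ l') fun i => i ≠ l ∧ i ≠ l')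
    (hK : I φ (fun i => i = m ∨ i = m') fun i => i = m ∨ i = m') :
    I φ (· = m) (· = m) ∨ I φ (· = m) (· = m') := by
  have k0 : ∀ u : ι → F, (∀ i, i ≠ l ∧ i ≠ l' → u i = 0) → ∀ i j, adj i j → u i = 0 ∨ u j = 0 :=
    fun u hu i j hij => by
      by_contra hc
      rw [not_or] at hc
      obtain ⟨a1, a2⟩ := h1 i j hij
      rcases not_and_or.1 (mt (hu i) hc.1) with e | e <;> rcases not_and_or.1 (mt (hu j) hc.2)
        with e' | e' <;> rw [not_not.1 e, not_not.1 e'] at hij a1 a2 <;> tauto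
  have k1 : ∀ i, i ≠ l ∧ i ≠ l' → (Pi.single l 1 : ι → F) i = 0 := fun i hi =>
    Pi.single_eq_of_ne hi.1 _
  have k2 := (hV _).2 k1
  have k3 : I φ (· = m) fun j => ∃ i, φ (Pi.single l 1) i ≠ 0 ∧ adj i j := fun w => by
    rw [cen1 h1 (k0 _ k2), b.zero, ← cen1 h1 (k0 _ k1)]
    simp [Pi.single_apply, hl]
  have k4 : ∀ j, (∃ i, φ (Pi.single l 1) i ≠ 0 ∧ adj i j) ↔
      φ (Pi.single l 1) l ≠ 0 ∧ j = m ∨ φ (Pi.single l 1) l' ≠ 0 ∧ j = m' := fun j =>
    ⟨fun ⟨i, e, hij⟩ => (not_and_or.1 (mt (k2 i) e)).imp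
      (fun e' => by rw [not_not.1 e'] at e hij; exact ⟨e, (hl j).1 hij⟩)
      fun e' => by rw [not_not.1 e'] at e hij; exact ⟨e, (hl' j).1 hij⟩,
      fun h => h.elim (fun e => ⟨l, e.1, (hl j).2 e.2⟩) fun e => ⟨l', e.1, (hl' j).2 e.2⟩⟩
  by_cases e : φ (Pi.single l 1) l = 0 <;> by_cases e' : φ (Pi.single l 1) l' = 0
  · have : φ (Pi.single l 1) = 0 := funext fun i => by
      by_cases a : i = l
      · exact a ▸ e
      by_cases a' : i = l'
      exacts [a' ▸ e', k2 i ⟨a, a'⟩]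
    simpa using congrFun (φ.map_eq_zero_iff.1 this) l
  · exact Or.inr (k3.congr ⟨fun _ => Iff.rfl, fun j => by simp [k4, e, e']⟩)
  · exact Or.inl (k3.congr ⟨fun _ => Iff.rfl, fun j => by simp [k4, e, e']⟩)
  · exact absurd ((k3.congr ⟨fun _ => Iff.rfl, fun j => by simp [k4, e, e']⟩).imp hK (Or.inr rfl)) hm

/-- One field automorphism describes all the diagonal coordinates. -/
theorem field [Finite F] (b : Br φ adj) (h1 : ∀ i j, adj i j → adj j i ∧ i ≠ j) {π : ι → ι}
    (hπ : ∀ i j, adj i j → adj (π i) (π j)) (hi : Function.Injective π) {ρ : ι → ℕ}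
    (h0 : ∀ j, ρ j = 0 → I φ (· = j) (· = π j)) (h2 : ∀ l, ρ l ≠ 0 → I φ (· ≠ l) (· ≠ π l))
    (h3 : ∀ i j, adj i j → ρ i = 0 ∨ ρ j = 0) (h4 : ∀ i, ∃ j, adj i j)
    (h5 : ∀ f : ι → F → F, (∀ i j, adj i j → f i = f j) → ∀ i j, f i = f j) (i0 : ι) :
    ∃ (c : ι → Fˣ) (σ : RingAut F), ∀ i a, φ (Pi.single i a) (π i) = c i * σ a ∧
      ∀ j, j ≠ i → ρ j = 0 ∨ ρ i ≠ 0 → φ (Pi.single i a) (π j) = 0 := by
  have k1 : ∀ i a j, j ≠ i → ρ j = 0 ∨ ρ i ≠ 0 → φ (Pi.single i a) (π j) = 0 := by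
    rintro i a j hj (e | e)
    · exact (h0 j e _).2 (by simp [hj]) _ rfl
    · exact (h2 i e _).2 (fun k hk => Pi.single_eq_of_ne hk _) _ (hi.ne hj)
  set f : ι → F → F := fun i a => φ (Pi.single i a) (π i) with hf
  have k2 : ∀ i a, f i a = 0 → a = 0 := fun i a e => by
    by_cases e' : ρ i = 0
    · simpa using (h0 i e' (Pi.single i a)).1 (by rintro _ rfl; exact e) i rfl
    · have : φ (Pi.single i a) = 0 := funext fun k => by
        by_cases hk : k = π i
        exacts [hk ▸ e, (h2 i e' _).2 (fun k hk => Pi.single_eq_of_ne hk _) _ hk]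
      simpa using congrFun (φ.map_eq_zero_iff.1 this) i
  have k3 : ∀ i, f i 1 ≠ 0 := fun i e => one_ne_zero (k2 i 1 e)
  have k4 : ∀ i j, adj i j → ∀ a a', Bq (φ (Pi.single i a)) (φ (Pi.single j a')) (π i) (π j) =
      f i a * f j a' := fun i j hij a a' => by
    have := (h1 i j hij).2
    rcases h3 i j hij with e | e
    · rw [Bq, k1 j a' i this (Or.inl e), mul_zero, add_zero]
    · rw [Bq, k1 i a j this.symm (Or.inl e), zero_mul, add_zero]
  have k5 : ∀ i j, adj i j → ∀ a a', f i a * f j a' = f i (a * a') * f j 1 := fun i j hij a a' => by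
    rw [← k4 i j hij, ← k4 i j hij]
    refine (b _ _ _ _).2 (fun k l _ => ?_) _ _ (hπ i j hij)
    simp only [Bq, Pi.single_apply]
    split_ifs <;> simp
  have k6 := h5 (fun i a => f i a / f i 1) fun i j hij => funext fun a => by
    have := k5 i j hij 1 a
    rw [div_eq_div_iff (k3 i) (k3 j), one_mul] at *
    linear_combination -this
  have k7 : ∀ a a', f i0 (a + a') = f i0 a + f i0 a' := fun a a' => by
    simp only [hf, Pi.single_add, map_add, Pi.add_apply]
  let σ : F →+* F :=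
    { toFun := fun a => f i0 a / f i0 1
      map_one' := div_self (k3 i0)
      map_zero' := by simp [hf]
      map_add' := fun a a' => by rw [k7, add_div]
      map_mul' := fun a a' => by
        obtain ⟨j, hj⟩ := h4 i0
        have := k5 i0 j hj a a'
        have := k3 i0
        have := k3 j
        rw [show f i0 a' / f i0 1 = f j a' / f j 1 from congrFun (k6 i0 j) a']
        field_simp
        linear_combination -‹f i0 a * f j a' = _› }
  refine ⟨fun i => Units.mk0 _ (k3 i), RingEquiv.ofBijective σ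
    (Finite.injective_iff_bijective.1 σ.injective), fun i a => ⟨?_, k1 i a⟩⟩
  exact ((mul_div_cancel₀ _ (k3 i)).symm.trans (congrArg _ (congrFun (k6 i i0) a)) :)

end H55.FU
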