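/- Automorphisms of `U` on the graded pieces of the height filtration. -/
import Cfsg.Agent.H55.FU1
import Cfsg.Agent.H55.LB5
import Cfsg.Agent.H63.Ov2
import Cfsg.Agent.H64.SGBasic

set_option autoImplicit false
set_option linter.unusedSectionVars false

namespace H55.FU

open Cfsg.Lie H63 H64 H64.SG H55.LB
open scoped commutatorElement

variable {D : ChevalleyDatum} [RS D] {F : Type*} [Field F] {G : Type*} [Group G] {x : ℕ → F → G}

variable (x) in
/-- The roots of at least the height of `u`, other than `u`. -/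
abbrev Tl (u : Rt D) : Subgroup G := gen (XR D x) {r | Pos r ∧ ht u ≤ ht r ∧ r ≠ u}

variable (x) in
/-- The coordinate at the root `u`. -/
noncomputable def cf (u : Rt D) (g : G) : F := Classical.epsilon fun c => (x u c)⁻¹ * g ∈ Tl x u

theorem Uh_le_U {k : ℤ} : Uh D x k ≤ UU D x := gen_mono _ fun _ h => h.1

theorem U_le_Uh : UU D x ≤ Uh D x 1 := gen_mono _ fun _ h => ⟨h, pos_iff_ht.1 h⟩

theorem succ_le_Tl {u : Rt D} {k : ℤ} (e : ht u = k) : Uh D x (k + 1) ≤ Tl x u :=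
  gen_mono _ fun r h => ⟨h.1, by have := h.2; omega, by rintro rfl; have := h.2; omega⟩

variable (h : StB D x)
include h

theorem comm_mem {k : ℤ} {g v : G} (hg : g ∈ Uh D x k) (hv : v ∈ UU D x) :
    ⁅g, v⁆ ∈ Uh D x (k + 1) := by
  simpa [commutatorElement_def, mul_assoc] using conj_Uh_succ h hv (inv_mem hg)

theorem commUp_Tl (u : Rt D) :
    CommUp (XR D x) {r | Pos r ∧ ht u ≤ ht r ∧ r ≠ u} fun r => (ht r).toNat :=
  LB.commUp_ht h.toSt (fun _ h => h.1) fun r hr s hs c i j hi hj e => by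
    have := (btw_of_eq hr.1 hs.1 hi hj e).1.1
    have := pos_iff_ht.1 hr.1
    have := hr.2.1
    exact ⟨pos_of_comb hr.1 hs.1 hi hj e, by omega, by rintro rfl; omega⟩

variable {u : Rt D} (hu : Pos u)
include hu

theorem cf_spec {g : G} (hg : g ∈ Uh D x (ht u)) : (x u (cf x u g))⁻¹ * g ∈ Tl x u := by
  obtain ⟨a, ha, b, hb, rfl⟩ := split_of_commUp (H63.commUp_ht h.toSt (ht u)) {u} hg
  obtain ⟨t, rfl⟩ : ∃ t, a = x u t := h.toSt.mem_XR.1
    (gen_singleton (XR D x) u ▸ gen_mono _ Set.inter_subset_right ha)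
  exact Classical.epsilon_spec (p := fun c => (x u c)⁻¹ * (x u t * b) ∈ Tl x u)
    ⟨t, by rw [inv_mul_cancel_left]; exact gen_mono _ (fun _ h => And.intro h.1.1 ⟨h.1.2, h.2⟩) hb⟩

theorem cf_eq {g : G} {c : F} (e : (x u c)⁻¹ * g ∈ Tl x u) : cf x u g = c := by
  have e1 := Classical.epsilon_spec (p := fun c => (x u c)⁻¹ * g ∈ Tl x u) ⟨c, e⟩
  have := eq_one_of_disjoint h (S := {u}) (f := Fin.val)
    (fun _ h1 _ h2 h3 => absurd (h1.trans h2.symm) h3) (by rintro _ rfl; exact hu)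
    (commUp_Tl h u) (fun _ h => h.1) (fun _ h1 h2 => h2.2.2 h1)
    (by rw [gen_singleton]; exact mul_mem (inv_mem (x_mem_XR D x u c)) (x_mem_XR D x u (cf x u g)))
    (by convert mul_mem e (inv_mem e1) using 1; rw [cf]; group)
  exact (h.x_injective u (inv_mul_eq_one.1 this)).symm

theorem cf_zero {g : G} (e : g ∈ Tl x u) : cf x u g = 0 :=
  cf_eq h hu (by rwa [h.toSt.x_zero, inv_one, one_mul])

theorem cf_mul {g g' : G} (hg : g ∈ Uh D x (ht u)) (hg' : g' ∈ Uh D x (ht u)) :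
    cf x u (g * g') = cf x u g + cf x u g' := by
  have e1 := cf_spec h hu hg
  have e2 := conj_Uh_succ h (inv_mem (h.rgd.X_le_U hu (x_mem_XR D x u (cf x u g'))))
    (gen_mono _ (T := {r | Pos r ∧ ht u ≤ ht r}) (fun _ h => ⟨h.1, h.2.1⟩) e1)
  refine cf_eq h hu ?_
  convert mul_mem (mul_mem e1 (succ_le_Tl rfl e2)) (cf_spec h hu hg') using 1
  rw [← h.toSt.add _ u.2]; group

theorem cf_inv {g : G} (hg : g ∈ Uh D x (ht u)) : cf x u g⁻¹ = -cf x u g := by
  rw [eq_neg_iff_add_eq_zero, ← cf_mul h hu (inv_mem hg) hg, inv_mul_cancel]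
  exact cf_zero h hu (one_mem _)

theorem cf_conj {g v : G} (hg : g ∈ Uh D x (ht u)) (hv : v ∈ UU D x) :
    cf x u (v * g * v⁻¹) = cf x u g := by
  have e := conj_Uh_succ h hv hg
  rw [← mul_inv_cancel_left g (v * g * v⁻¹), cf_mul h hu hg (gen_mono _
    (fun r h => And.intro h.1 (by have := h.2; omega)) e), cf_zero h hu (succ_le_Tl rfl e), add_zero]

theorem cf_x {r : Rt D} (hr : Pos r) (e : ht u ≤ ht r) (a : F) :
    cf x u (x r a) = if r = u then a else 0 := by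
  split_ifs with e1
  · exact cf_eq h hu (by rw [e1, inv_mul_cancel]; exact one_mem _)
  · exact cf_zero h hu (x_mem_gen (And.intro hr ⟨e, e1⟩) a)

omit hu

theorem mem_succ {k : ℤ} {g : G} (hg : g ∈ Uh D x k) :
    g ∈ Uh D x (k + 1) ↔ ∀ u : Rt D, Pos u → ht u = k → cf x u g = 0 := by
  refine ⟨fun e u hu e1 => cf_zero h hu (succ_le_Tl e1 e), fun e => ?_⟩
  refine mem_gen_of_forall h (H63.commUp_ht h.toSt k) (fun _ h => h.1) hg fun r hr h1 => ?_
  have e1 : ht r = k := by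
    have := hr.2
    have := mt (And.intro hr.1) h1
    omega
  have := cf_spec h hr.1 (e1 ▸ hg)
  rw [e r hr.1 e1, h.toSt.x_zero, inv_one, one_mul] at this
  exact ⟨_, _, commUp_Tl h r, fun _ h => h.1, fun h => h.2.2 rfl, this⟩

omit h in
variable (D) in
/-- The decompositions of `u` as a positive root plus a simple root. -/
def PS (u : Rt D) : Finset (Rt D × Fin D.rank) :=
  {p | Pos p.1 ∧ rt u = rt p.1 + rt (simpleR p.2 : Rt D)}

omit h in
theorem mem_PS {p : Rt D × Fin D.rank} :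
    p ∈ PS D u ↔ Pos p.1 ∧ rt u = rt p.1 + rt (simpleR p.2 : Rt D) := by simp [PS]

omit h in
variable (D x) in
/-- The coordinates in `U / U'`. -/
noncomputable def vec (g : G) (i : Fin D.rank) : F := cf x (simpleR i : Rt D) g

omit h in
theorem U_le_simple (i : Fin D.rank) : UU D x ≤ Uh D x (ht (simpleR i : Rt D)) :=
  (ht_simpleR (D := D) i).symm ▸ U_le_Uh

theorem vec_mul {g g' : G} (hg : g ∈ UU D x) (hg' : g' ∈ UU D x) :
    vec D x (g * g') = vec D x g + vec D x g' :=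
  funext fun i => cf_mul h (pos_simpleR i) (U_le_simple i hg) (U_le_simple i hg')

theorem vec_inv {g : G} (hg : g ∈ UU D x) : vec D x g⁻¹ = -vec D x g :=
  funext fun i => cf_inv h (pos_simpleR i) (U_le_simple i hg)

theorem vec_x (i : Fin D.rank) (a : F) : vec D x (x (simpleR i : Rt D) a) = Pi.single i a :=
  funext fun j => by
    rw [vec, cf_x h (pos_simpleR j) (pos_simpleR i) (by simp), Pi.single_apply]
    simp [simpleR_injective.eq_iff, eq_comm]

theorem mem_two {g g' : G} (hg : g ∈ UU D x) (hg' : g' ∈ UU D x) :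
    g⁻¹ * g' ∈ Uh D x 2 ↔ vec D x g = vec D x g' := by
  rw [← neg_add_eq_zero, ← vec_inv h hg, ← vec_mul h (inv_mem hg) hg']
  refine (mem_succ h (U_le_Uh (mul_mem (inv_mem hg) hg'))).trans ⟨fun e => funext fun i =>
    e _ (pos_simpleR i) (ht_simpleR i), fun e u _ e1 => ?_⟩
  obtain ⟨i, rfl⟩ := eq_simpleR_of_ht_eq_one e1
  exact congrFun e i

theorem vec_surj (v : Fin D.rank → F) : ∃ g ∈ UU D x, vec D x g = v := by
  refine Pi.single_induction (fun v => ∃ g ∈ UU D x, vec D x g = v) v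
    ⟨1, one_mem _, funext fun i => cf_zero h (pos_simpleR i) (one_mem _)⟩ ?_
    fun i a => ⟨_, x_mem_gen (pos_simpleR i) a, vec_x h i a⟩
  rintro _ _ ⟨a, ha, rfl⟩ ⟨b, hb, rfl⟩
  exact ⟨_, mul_mem ha hb, vec_mul h ha hb⟩

theorem mem_Vk {ρ : Fin D.rank → ℕ} {k : ℕ} {g : G} (hg : g ∈ UU D x)
    (e : ∀ j, ρ j < k → vec D x g j = 0) : g ∈ Vk D x ρ k := by
  refine mem_gen_of_forall h (commUp_pos h.toSt) (fun _ h => h) hg fun r hr h1 => ?_
  obtain ⟨j, rfl, e1⟩ : ∃ j, r = simpleR j ∧ ρ j < k := by simpa using mt (And.intro hr) h1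
  have := cf_spec h hr (U_le_simple j hg)
  rw [show cf x _ g = 0 from e j e1, h.toSt.x_zero, inv_one, one_mul] at this
  exact ⟨_, _, commUp_Tl h _, fun _ h => h.1, fun h => h.2.2 rfl, this⟩

variable [CharP F 2] (hD : ET D)
include hD

theorem cf_comm {k : ℤ} (hu : Pos u) (e : ht u = k + 1) {g v : G} (hg : g ∈ Uh D x k)
    (hv : v ∈ UU D x) : cf x u ⁅g, v⁆ = ∑ p ∈ PS D u, cf x p.1 g * cf x (simpleR p.2 : Rt D) v := by
  have k1 : ∀ p ∈ PS D u, Pos p.1 ∧ ht p.1 = k := fun p hp => by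
    obtain ⟨h1, h2⟩ := mem_PS.1 hp
    have := ht_of_add h2
    rw [ht_simpleR] at this
    exact ⟨h1, by omega⟩
  refine gen_induction_left (p := fun g => cf x u ⁅g, v⁆ =
    ∑ p ∈ PS D u, cf x p.1 g * cf x (simpleR p.2 : Rt D) v) ?_ (fun s hs y hy g hg ih => ?_) hg
  · rw [commutatorElement_one_left, cf_zero h hu (one_mem _), Finset.sum_eq_zero fun p hp => by
      rw [cf_zero h (k1 p hp).1 (one_mem _), zero_mul]]
  have hy' : y ∈ Uh D x k := le_gen _ hs hy
  rw [show ⁅y * g, v⁆ = y * ⁅g, v⁆ * y⁻¹ * ⁅y, v⁆ by simp only [commutatorElement_def]; group,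
    cf_mul h hu (e ▸ conj_Uh h (h.rgd.U_le_B (Uh_le_U hy')) (comm_mem h hg hv))
      (e ▸ comm_mem h hy' hv), cf_conj h hu (e ▸ comm_mem h hg hv) (Uh_le_U hy'), ih, eq_comm,
    Finset.sum_congr rfl fun p hp => by rw [cf_mul h (k1 p hp).1 ((k1 p hp).2 ▸ hy')
      ((k1 p hp).2 ▸ hg), add_mul], Finset.sum_add_distrib, add_comm, add_right_inj, eq_comm]
  refine gen_induction_left (p := fun v => cf x u ⁅y, v⁆ =
    ∑ p ∈ PS D u, cf x p.1 y * cf x (simpleR p.2 : Rt D) v) ?_ (fun t ht' z hz v hv ih => ?_) hv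
  · rw [commutatorElement_one_right, cf_zero h hu (one_mem _), Finset.sum_eq_zero fun p hp => by
      rw [cf_zero h (pos_simpleR _) (one_mem _), mul_zero]]
  have hz' : z ∈ UU D x := le_gen _ ht' hz
  rw [show ⁅y, z * v⁆ = ⁅y, z⁆ * (z * ⁅y, v⁆ * z⁻¹) by simp only [commutatorElement_def]; group,
    cf_mul h hu (e ▸ comm_mem h hy' hz') (e ▸ conj_Uh h (h.rgd.U_le_B hz') (comm_mem h hy' hv)),
    cf_conj h hu (e ▸ comm_mem h hy' hv) hz', ih, eq_comm,
    Finset.sum_congr rfl fun p hp => by rw [cf_mul h (pos_simpleR _) (U_le_simple _ hz')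
      (U_le_simple _ hv), mul_add],
    Finset.sum_add_distrib, add_left_inj, eq_comm]
  obtain ⟨a, rfl⟩ := h.toSt.mem_XR.1 hy
  obtain ⟨b, rfl⟩ := h.toSt.mem_XR.1 hz
  have h1 := pos_iff_ht.1 ht'
  have h2 := hs.2
  rw [Finset.sum_congr rfl fun p hp => by
    rw [cf_x h (k1 p hp).1 hs.1 ((k1 p hp).2 ▸ hs.2), cf_x h (pos_simpleR _) ht'
      (by rw [ht_simpleR]; omega)]]
  by_cases e1 : rt u = rt s + rt t
  · obtain ⟨i, rfl⟩ := eq_simpleR_of_ht_eq_one (r := t) (by have := ht_of_add e1; omega)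
    rw [commutatorElement_def, hD.commutator_add h.toSt e1, cf_x h hu hu le_rfl, if_pos rfl,
      Finset.sum_eq_single (s, i) (fun p _ hp => ?_)
        fun hp => absurd (mem_PS.2 ⟨hs.1, e1⟩) hp]
    · simp
    · split_ifs with a1 a2
      exacts [absurd (Prod.ext a1.symm (simpleR_injective a2).symm) hp, mul_zero _, zero_mul _,
        zero_mul _]
  rw [Finset.sum_eq_zero fun p hp => by
    split_ifs with a1 a2
    exacts [absurd (a1 ▸ a2 ▸ (mem_PS.1 hp).2) e1, mul_zero _, zero_mul _, zero_mul _]]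
  by_cases e2 : ∃ w : Rt D, rt w = rt s + rt t
  · obtain ⟨w, e2⟩ := e2
    rw [commutatorElement_def, hD.commutator_add h.toSt e2, cf_x h hu (pos_of_add e2 hs.1 ht')
      (by have := ht_of_add e2; omega), if_neg fun e3 : w = u => e1 (e3 ▸ e2)]
  · rw [commutatorElement_eq_one_iff_mul_comm.2 (x_commute_of_not_add h.toSt
      (by rintro rfl; exact pos_negR.1 hs.1 ht') (not_exists.1 e2) _ _)]
    exact cf_zero h hu (one_mem _)

omit h hD in
variable (D) in
/-- Adjacent nodes. -/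
def Adj (i j : Fin D.rank) : Prop := D.cartan i (D.simple j) = -1

omit h hD in
variable (D) in
/-- The nodes that raise some positive root of height `k`. -/
def An (k : ℤ) (i : Fin D.rank) : Prop := ∃ r : Rt D, Pos r ∧ ht r = k ∧ D.cartan i r = -1

omit h in
theorem add_iff {r : Rt D} {i : Fin D.rank} :
    D.cartan i r = -1 ↔ ∃ u : Rt D, rt u = rt r + rt (simpleR i : Rt D) := by
  rw [← pairing_simple, ← simpleR_val]
  exact ⟨fun e => (exists_add e).imp fun _ h => h.trans (add_comm _ _),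
    fun ⟨_, e⟩ => hD.pairing_of_add (e.trans (add_comm _ _))⟩

theorem cf_edge {i j : Fin D.rank} (e : rt u = rt (simpleR j : Rt D) + rt (simpleR i : Rt D))
    {g v : G} (hg : g ∈ UU D x) (hv : v ∈ UU D x) :
    cf x u ⁅g, v⁆ = Bq (vec D x g) (vec D x v) i j := by
  have hij : i ≠ j := by
    rintro rfl
    have := (add_iff hD).2 ⟨u, e⟩
    rw [simpleR_val, cartan_simple_self] at this
    omega
  have e1 : ht u = 1 + 1 := by rw [ht_of_add e]; simp
  rw [cf_comm h hD (pos_of_add e (pos_simpleR j) (pos_simpleR i)) e1 (U_le_Uh hg) hv,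
    show PS D u = {(simpleR i, j), (simpleR j, i)} from Finset.ext fun ⟨r, l⟩ => ?_,
    Finset.sum_pair fun h => hij (Prod.ext_iff.1 h).2.symm]
  · rfl
  rw [mem_PS, Finset.mem_insert, Finset.mem_singleton]
  dsimp only
  refine ⟨fun ⟨_, e2⟩ => ?_, ?_⟩
  · have := congrFun (e.symm.trans e2) l
    obtain ⟨m, rfl⟩ := eq_simpleR_of_ht_eq_one (r := r) (by
      have := ht_of_add e2
      rw [ht_simpleR] at this
      omega)
    by_cases a : l = j
    · subst a
      rw [rt_inj (add_right_cancel (e2.symm.trans (e.trans (add_comm _ _))))]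
      exact Or.inl rfl
    by_cases a' : l = i
    · subst a'
      rw [rt_inj (add_right_cancel (e2.symm.trans e))]
      exact Or.inr rfl
    simp only [rt_simpleR, Pi.add_apply, Pi.single_apply, if_neg a, if_neg a'] at this
    split_ifs at this <;> omega
  · rintro (h | h) <;> obtain ⟨rfl, rfl⟩ := Prod.mk.inj h
    exacts [⟨pos_simpleR _, e.trans (add_comm _ _)⟩, ⟨pos_simpleR _, e⟩]

theorem mem_three {g v g' v' : G} (hg : g ∈ UU D x) (hv : v ∈ UU D x) (hg' : g' ∈ UU D x)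
    (hv' : v' ∈ UU D x) : ⁅g, v⁆⁻¹ * ⁅g', v'⁆ ∈ Uh D x 3 ↔ ∀ i j, Adj D i j →
      Bq (vec D x g) (vec D x v) i j = Bq (vec D x g') (vec D x v') i j := by
  have a := comm_mem h (U_le_Uh hg) hv
  have a' := comm_mem h (U_le_Uh hg') hv'
  have k : ∀ (u : Rt D) i j, rt u = rt (simpleR j : Rt D) + rt (simpleR i : Rt D) →
      (Pos u ∧ ht u = 1 + 1) ∧ (cf x u (⁅g, v⁆⁻¹ * ⁅g', v'⁆) = 0 ↔
      Bq (vec D x g) (vec D x v) i j = Bq (vec D x g') (vec D x v') i j) := fun u i j e => by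
    have e1 : ht u = 1 + 1 := by rw [ht_of_add e]; simp
    have hu := pos_of_add e (pos_simpleR j) (pos_simpleR i)
    rw [cf_mul h hu (e1 ▸ inv_mem a) (e1 ▸ a'), cf_inv h hu (e1 ▸ a), neg_add_eq_zero,
      cf_edge h hD e hg hv, cf_edge h hD e hg' hv']
    exact ⟨⟨hu, e1⟩, Iff.rfl⟩
  refine (mem_succ h (mul_mem (inv_mem a) a')).trans ⟨fun e i j hij => ?_, fun e u hu e1 => ?_⟩
  · obtain ⟨u, e1⟩ := (add_iff hD (r := simpleR j)).1 hij
    exact (k u i j e1).2.1 (e u (k u i j e1).1.1 (k u i j e1).1.2)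
  · obtain ⟨i, s, -, -, e2⟩ := exists_eq_add_simple hu (by rintro i rfl; simp at e1)
    obtain ⟨j, rfl⟩ := eq_simpleR_of_ht_eq_one (r := s) (by
      have := ht_of_add e2
      rw [ht_simpleR] at this
      omega)
    exact (k u i j e2).2.2 (e i j ((add_iff hD).2 ⟨u, e2⟩))

theorem mem_An (k : ℤ) {v : G} (hv : v ∈ UU D x) :
    (∀ g ∈ Uh D x k, ⁅g, v⁆ ∈ Uh D x (k + 1 + 1)) ↔ ∀ i, An D k i → vec D x v i = 0 := by
  refine ⟨fun e i ⟨r, hr, e1, e2⟩ => ?_, fun e g hg => (mem_succ h (comm_mem h hg hv)).2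
    fun u hu e1 => ?_⟩
  · obtain ⟨u, e3⟩ := (add_iff hD).1 e2
    have hu := pos_of_add e3 hr (pos_simpleR i)
    have e4 : ht u = k + 1 := by rw [ht_of_add e3, e1, ht_simpleR]
    have hg : x r 1 ∈ Uh D x k := x_mem_gen (And.intro hr e1.ge) 1
    have := (mem_succ h (comm_mem h hg hv)).1 (e _ hg) u hu e4
    rw [cf_comm h hD hu e4 hg hv, Finset.sum_eq_single (r, i) (fun p hp e5 => ?_)
      fun hp => absurd (mem_PS.2 ⟨hr, e3⟩) hp, cf_x h hr hr le_rfl, if_pos rfl, one_mul] at this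
    · exact this
    have e6 := (mem_PS.1 hp).2
    rw [cf_x h (mem_PS.1 hp).1 hr (by
      have := ht_of_add e6
      rw [ht_simpleR] at this
      omega), if_neg, zero_mul]
    rintro rfl
    exact e5 (Prod.ext rfl (simpleR_injective (rt_inj (add_left_cancel (e6.symm.trans e3)))))
  · rw [cf_comm h hD hu e1 hg hv]
    refine Finset.sum_eq_zero fun p hp => ?_
    obtain ⟨h1, h2⟩ := mem_PS.1 hp
    have := ht_of_add h2
    rw [ht_simpleR] at this
    rw [show cf x _ v = 0 from e p.2 ⟨p.1, h1, by omega, (add_iff hD).2 ⟨u, h2⟩⟩, mul_zero]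

/-- The additive bijection of `U / U'` induced by an automorphism of `U`. -/
theorem exists_lin [Finite G] {θ : G → G} (hb : Set.BijOn θ (UU D x) (UU D x))
    (hm : ∀ a ∈ UU D x, ∀ b ∈ UU D x, θ (a * b) = θ a * θ b) :
    ∃ φ : (Fin D.rank → F) ≃+ (Fin D.rank → F), (∀ g ∈ UU D x, vec D x (θ g) = φ (vec D x g)) ∧
      Br φ (Adj D) ∧ ∀ k, I φ (An D k) (An D k) := by
  have t1 : θ 1 = 1 := by simpa using hm 1 (one_mem _) 1 (one_mem _)
  have t2 : ∀ a ∈ UU D x, θ a⁻¹ = (θ a)⁻¹ := fun a ha =>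
    eq_inv_of_mul_eq_one_left (by rw [← hm _ (inv_mem ha) _ ha, inv_mul_cancel, t1])
  have t3 : ∀ a ∈ UU D x, ∀ b ∈ UU D x, θ ⁅a, b⁆ = ⁅θ a, θ b⁆ := fun a ha b hb => by
    rw [commutatorElement_def, hm _ (mul_mem (mul_mem ha hb) (inv_mem ha)) _ (inv_mem hb),
      hm _ (mul_mem ha hb) _ (inv_mem ha), hm _ ha _ hb, t2 a ha, t2 b hb, commutatorElement_def]
  have t4 : ∀ k : ℕ, Set.MapsTo θ (Uh D x (k + 1)) (Uh D x (k + 1)) := fun k => by
    induction k with
    | zero => exact fun g hg => U_le_Uh (hb.mapsTo (Uh_le_U hg))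
    | succ k ih =>
      intro g hg
      refine gen_induction_left (p := fun g => θ g ∈ Uh D x ((k + 1 : ℕ) + 1))
        (t1.symm ▸ one_mem _) (fun u hu y hy g hg ih2 => ?_) hg
      rw [hm _ (le_gen _ hu.1 hy) _ (Uh_le_U hg)]
      refine mul_mem ?_ ih2
      obtain ⟨a, rfl⟩ := h.toSt.mem_XR.1 hy
      have := hu.2
      obtain ⟨i, s, hs, -, e2⟩ := exists_eq_add_simple hu.1 (by
        rintro i rfl
        rw [ht_simpleR] at this
        omega)
      have e3 := ht_of_add e2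
      rw [ht_simpleR] at e3
      have e4 : x s a ∈ Uh D x (k + 1) := x_mem_gen (And.intro hs (by omega)) a
      have e5 : x (simpleR i : Rt D) 1 ∈ UU D x := x_mem_gen (pos_simpleR i) 1
      rw [← mul_one a, ← hD.commutator_add h.toSt e2, ← commutatorElement_def,
        t3 _ (Uh_le_U e4) _ e5]
      exact comm_mem h (ih e4) (hb.mapsTo e5)
  have t5 : ∀ k : ℤ, Set.BijOn θ (Uh D x k) (Uh D x k) := fun k => by
    refine ((Set.toFinite _).injOn_iff_bijOn_of_mapsTo ?_).1 (hb.injOn.mono Uh_le_U)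
    rcases le_or_gt k 0 with e | e
    · exact fun g hg => gen_mono _ (fun r hr => And.intro hr (e.trans (pos_iff_ht.1 hr).le))
        (hb.mapsTo (Uh_le_U hg))
    · obtain ⟨n, rfl⟩ : ∃ n : ℕ, k = n + 1 := ⟨(k - 1).toNat, by omega⟩
      exact t4 n
  have t6 : ∀ k : ℤ, ∀ g ∈ UU D x, θ g ∈ Uh D x k ↔ g ∈ Uh D x k := fun k g hg =>
    ⟨fun e => by
      obtain ⟨g', h1, h2⟩ := (t5 k).surjOn e
      exact hb.injOn (Uh_le_U h1) hg h2 ▸ h1, fun e => (t5 k).mapsTo e⟩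
  have t7 : ∀ g ∈ UU D x, ∀ g' ∈ UU D x, vec D x (θ g) = vec D x (θ g') ↔ vec D x g = vec D x g' :=
    fun g hg g' hg' => by
      rw [← mem_two h (hb.mapsTo hg) (hb.mapsTo hg'), ← mem_two h hg hg', ← t2 g hg,
        ← hm _ (inv_mem hg) _ hg', t6 _ _ (mul_mem (inv_mem hg) hg')]
  choose l l1 l2 using vec_surj h
  have t8 : ∀ g ∈ UU D x, vec D x (θ g) = vec D x (θ (l (vec D x g))) := fun g hg =>
    (t7 _ hg _ (l1 _)).2 (l2 _).symm
  refine ⟨AddEquiv.ofBijective (AddMonoidHom.mk' (fun v => vec D x (θ (l v))) fun v w => by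
    rw [← vec_mul h (hb.mapsTo (l1 v)) (hb.mapsTo (l1 w)), ← hm _ (l1 v) _ (l1 w),
      t7 _ (l1 _) _ (mul_mem (l1 v) (l1 w)), vec_mul h (l1 v) (l1 w), l2, l2, l2])
    ⟨fun v w e => by simpa only [l2] using (t7 _ (l1 v) _ (l1 w)).1 e, fun v => by
      obtain ⟨g, hg, e⟩ := hb.surjOn (l1 v)
      exact ⟨_, (t8 g hg).symm.trans (e ▸ l2 v)⟩⟩, t8, fun v w v' w' => ?_, fun k v => ?_⟩
  · have c := fun v w => Uh_le_U (comm_mem h (U_le_Uh (l1 v)) (l1 w))
    refine (mem_three h hD (hb.mapsTo (l1 v)) (hb.mapsTo (l1 w)) (hb.mapsTo (l1 v'))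
      (hb.mapsTo (l1 w'))).symm.trans ?_
    rw [← t3 _ (l1 v) _ (l1 w), ← t3 _ (l1 v') _ (l1 w'), ← t2 _ (c v w),
      ← hm _ (inv_mem (c v w)) _ (c v' w'), t6 _ _ (mul_mem (inv_mem (c v w)) (c v' w')),
      mem_three h hD (l1 v) (l1 w) (l1 v') (l1 w'), l2, l2, l2, l2]
  · refine (mem_An h hD k (hb.mapsTo (l1 v))).symm.trans ?_
    rw [← l2 v, ← mem_An h hD k (l1 v), l2]
    have c := fun g (hg : g ∈ Uh D x k) => (t6 (k + 1 + 1) _ (Uh_le_U (comm_mem h hg (l1 v)))).symm.trans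
      (by rw [t3 _ (Uh_le_U hg) _ (l1 v)])
    refine ⟨fun e g hg => (c g hg).2 (e _ ((t5 k).mapsTo hg)), fun e g hg => ?_⟩
    obtain ⟨g, h1, rfl⟩ := (t5 k).surjOn hg
    exact (c g h1).1 (e g h1)

end H55.FU
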