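/- Automorphisms of `U` act on `U / U'` as standard automorphisms (types E6, E7, E8). -/
import Cfsg.Agent.H55.FU2

set_option autoImplicit false
set_option linter.unusedSectionVars false

namespace H55.FU

open Cfsg.Lie H63 H64 H65 H64.SG H55.LB

section

variable {D : ChevalleyDatum} [RS D]

instance (i j : Fin D.rank) : Decidable (Adj D i j) := by unfold Adj; infer_instance

/-- The nodes raising a root of height `k` are those in the list. -/
def AnL (D : ChevalleyDatum) (p : ℤ × List ℕ) : Prop := 0 < p.1 ∧ ∀ i : Fin D.rank, (i : ℕ) ∈ p.2 ↔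
  ∃ r : Rt D, ∑ j : Fin D.rank, co D r j = p.1 ∧ D.cartan i r = -1

instance (D : ChevalleyDatum) (p : ℤ × List ℕ) : Decidable (AnL D p) := by
  unfold AnL; infer_instance

theorem AnL.iff {p : ℤ × List ℕ} (h : AnL D p) (hD : ET D) (i : Fin D.rank) :
    (i : ℕ) ∈ p.2 ↔ An D p.1 i := (h.2 i).trans (exists_congr fun r => by
  rw [show ∑ j : Fin D.rank, co D r j = ht r by simp only [ht, hD.rt_eq], pos_iff_ht]
  exact ⟨fun e => ⟨e.1 ▸ h.1, e⟩, fun e => e.2⟩)

variable {F : Type} [Field F]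

/-- Coordinate subspaces given by lists of nodes. -/
abbrev J (φ : (Fin D.rank → F) ≃+ (Fin D.rank → F)) (L L' : List ℕ) : Prop :=
  I φ (fun i => (i : ℕ) ∈ L) fun i => (i : ℕ) ∈ L'

/-- The invariant subspaces in the list `P` suffice. -/
def Suf (ρ : ℕ → ℕ) (π : Fin D.rank → Fin D.rank) (P : List (List ℕ × List ℕ)) : Prop :=
  (∀ i j, Adj D i j → Adj D (π i) (π j)) ∧ (∀ i : Fin D.rank, ρ (π i) = ρ i) ∧
    ∀ j : Fin D.rank, ∃ p ∈ P, (∀ i, (if ρ j = 0 then i = j else i ≠ j) ↔ (i : ℕ) ∈ p.1) ∧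
      ∀ i, (if ρ j = 0 then i = π j else i ≠ π j) ↔ (i : ℕ) ∈ p.2

instance (ρ : ℕ → ℕ) (π : Fin D.rank → Fin D.rank) (P : List (List ℕ × List ℕ)) :
    Decidable (Suf ρ π P) := by unfold Suf; infer_instance

variable [Tab D] [Comm D] [Finite F] [CharP F 2]

theorem fu_of (hD : ET D) (ρ : ℕ → ℕ)
    (h1 : ∀ π : Equiv.Perm (Fin D.rank), D.IsDiagramSymmetry π → ∀ i, ρ (π i) = ρ i)
    (h2 : (∀ i j, Adj D i j → (Adj D j i ∧ i ≠ j) ∧ (ρ i = 0 ∨ ρ j = 0)) ∧ (∀ i, ∃ j, Adj D i j) ∧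
      ∀ i j : Fin D.rank, i ≠ j → D.cartan i (D.simple j) ≠ 0 → Adj D i j)
    (h3 : ∀ φ : (Fin D.rank → F) ≃+ (Fin D.rank → F), Br φ (Adj D) → (∀ k, I φ (An D k) (An D k)) →
      ∃ (π : Equiv.Perm (Fin D.rank)) (γ : MulAut ↥(D.group F)), (∀ (i : Fin D.rank) t,
        γ (xG D F (D.simple i) t) = xG D F (D.simple (π i)) t ∧
          γ (xG D F (D.neg (D.simple i)) t) = xG D F (D.neg (D.simple (π i))) t) ∧
        ∃ P, Suf ρ π P ∧ ∀ p ∈ P, J φ p.1 p.2) : FU D F := by
  have h := ad D F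
  refine ⟨fun i => ρ i, fun δ π c σ hd => ?_, fun θ hb hm => ?_⟩
  · have := hd.isStd h.toSt
    exact h1 (Equiv.ofBijective π (Finite.injective_iff_bijective.1 (this.injective h.toStB)))
      fun i j hij => this.bonds_eq h.toStB hij
  obtain ⟨φ, e, b, a⟩ := exists_lin h.toStB hD hb hm
  obtain ⟨π, γ, hγ, P, ⟨s1, s2, s3⟩, hP⟩ := h3 φ b a
  obtain ⟨c, σ, k⟩ := field b (fun i j h => (h2.1 i j h).1) s1 π.injective (ρ := fun i => ρ i)
    (fun j hj => by
      obtain ⟨p, hp, e⟩ := s3 j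
      exact (hP p hp).congr (by simpa only [if_pos hj] using e))
    (fun j hj => by
      obtain ⟨p, hp, e⟩ := s3 j
      exact (hP p hp).congr (by simpa only [if_neg hj] using e))
    (fun i j h => (h2.1 i j h).2) h2.2.1
    (fun f hf => eq_of_adj f fun i j a b => hf i j (h2.2.2 i j a b))
    ⟨0, lt_of_lt_of_le (by norm_num) RS.two_le_rank⟩
  have e1 : ∀ i j : Fin D.rank, D.graphExp (ringChar F) i j = 1 := fun i j => by
    have : D.isLong (D.simple j) = D.isLong (D.simple i) :=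
      isLong_congr (hD.len_eq (simpleR j) (simpleR i))
    simp [ChevalleyDatum.graphExp, this]
  refine ⟨γ * diagAut D c * fieldAut D σ, π, c, σ, fun i t => by
    simp [(hγ i _).1, (hγ i _).2, e1], fun i t => ?_⟩
  have x1 : ∀ i t, xG D F (simpleR i : Rt D) t ∈ UU D (xG D F) := fun i t =>
    x_mem_gen (pos_simpleR i) t
  rw [show (γ * diagAut D c * fieldAut D σ) (xG D F (D.simple i) t) =
    xG D F (simpleR (π i) : Rt D) (c i * σ t) by simp [(hγ i _).1]]
  refine mem_Vk h.toStB (mul_mem (hb.mapsTo (x1 i t)) (inv_mem (x1 _ _))) fun j hj => ?_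
  obtain ⟨j, rfl⟩ := π.surjective j
  rw [← simpleR_val, vec_mul h.toStB (hb.mapsTo (x1 i t)) (inv_mem (x1 _ _)),
    vec_inv h.toStB (x1 _ _), e _ (x1 i t), vec_x h.toStB, vec_x h.toStB, Pi.add_apply, Pi.neg_apply]
  by_cases hij : j = i
  · rw [hij, (k i t).1, Pi.single_eq_same, add_neg_cancel]
  · rw [(k i t).2 j hij (by simp only [s2] at hj; omega), Pi.single_eq_of_ne (π.injective.ne hij),
      neg_zero, add_zero]

end

theorem anE6 : ∀ p ∈ [(10, [1]), (9, [3]), (8, [2, 4])], AnL chevE6 p := by decide +kernel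

theorem anE7 : ∀ p ∈ [(16, [0]), (15, [2]), (14, [3]), (13, [1, 4]), (12, [1, 4, 5])],
    AnL chevE7 p := by decide +kernel

theorem anE8 : ∀ p ∈ [(28, [7]), (27, [6]), (26, [5]), (25, [4]), (24, [3]), (23, [1, 2])],
    AnL chevE8 p := by decide +kernel

theorem jobFU : JobFU := by
  rintro D _ _ _ (rfl | rfl | rfl) F _ _ _
  · refine fu_of (Or.inl rfl) (fun i => [1, 0, 0, 0, 0, 1].getD i 0) (fun π hπ i => ?_)
      (by decide +kernel) fun φ b a => ?_
    · have := sym_E6 hπ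
      simp only [List.mem_cons, List.not_mem_nil, or_false] at this
      rw [← lst_getD]
      rcases this with e | e <;> rw [e] <;> revert i <;> decide +kernel
    have h1 : ∀ i j, Adj chevE6 i j → Adj chevE6 j i ∧ i ≠ j := by decide +kernel
    have a' := fun p hp => have e := (anE6 p hp).iff (Or.inl rfl); (a _).congr ⟨e, e⟩
    simp only [List.forall_mem_cons] at a'
    obtain ⟨a1, a3, a24, -⟩ := a'
    have V := (a1.or a3).or a24
    have l0 := leaf b h1 (l := ⟨0, by decide⟩) (l' := ⟨5, by decide⟩) (m := ⟨2, by decide⟩)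
      (m' := ⟨4, by decide⟩) (by decide +kernel) (by decide +kernel) (by decide) (by decide +kernel)
      (V.congr (by decide +kernel)) (a24.congr (by decide +kernel))
    have l5 := leaf b h1 (l := ⟨5, by decide⟩) (l' := ⟨0, by decide⟩) (m := ⟨4, by decide⟩)
      (m' := ⟨2, by decide⟩) (by decide +kernel) (by decide +kernel) (by decide) (by decide +kernel)
      (V.congr (by decide +kernel)) (a24.congr (by decide +kernel))
    obtain ⟨γ, hγ⟩ := exists_isGr (k := F) H68.graphE6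
    rcases l0 with l0 | l0 <;> rcases l5 with l5 | l5
    · exact ⟨1, 1, fun _ _ => ⟨rfl, rfl⟩, [([1], [1]), ([3], [3]), ([2], [2]), ([4], [4]),
        ([1, 2, 3, 4, 5], [1, 2, 3, 4, 5]), ([0, 1, 2, 3, 4], [0, 1, 2, 3, 4])], by decide +kernel,
        by simpa only [List.forall_mem_cons] using ⟨a1, a3, l0.congr (by decide +kernel),
          l5.congr (by decide +kernel), (l0.cen b h1).congr (by decide +kernel),
          (l5.cen b h1).congr (by decide +kernel), by simp⟩⟩
    · exact absurd (l0.imp l5 rfl) (by decide)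
    · exact absurd (l0.imp l5 rfl) (by decide)
    · exact ⟨H68.permOf _ H68.graphE6.plt H68.graphE6.pinj, γ, hγ.simple,
        [([1], [1]), ([3], [3]), ([2], [4]), ([4], [2]),
        ([1, 2, 3, 4, 5], [0, 1, 2, 3, 4]), ([0, 1, 2, 3, 4], [1, 2, 3, 4, 5])], by decide +kernel,
        by simpa only [List.forall_mem_cons] using ⟨a1, a3, l0.congr (by decide +kernel),
          l5.congr (by decide +kernel), (l0.cen b h1).congr (by decide +kernel),
          (l5.cen b h1).congr (by decide +kernel), by simp⟩⟩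
  · refine fu_of (Or.inr (Or.inl rfl)) (fun i => [0, 1, 0, 0, 0, 0, 1].getD i 0) (fun π hπ i => ?_)
      (by decide +kernel) fun φ b a => ?_
    · rw [← lst_getD, List.mem_singleton.1 (sym_E7 hπ)]
      revert i; decide +kernel
    have h1 : ∀ i j, Adj chevE7 i j → Adj chevE7 j i ∧ i ≠ j := by decide +kernel
    have a' := fun p hp => have e := (anE7 p hp).iff (Or.inr (Or.inl rfl)); (a _).congr ⟨e, e⟩
    simp only [List.forall_mem_cons] at a'
    obtain ⟨a0, a2, a3, a14, a145, -⟩ := a'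
    have l6 := ((a0.or a2).or a3).or a145
    exact ⟨1, 1, fun _ _ => ⟨rfl, rfl⟩, [([0], [0]), ([2], [2]), ([3], [3]), ([4], [4]), ([5], [5]),
      ([0, 2, 3, 4, 5, 6], [0, 2, 3, 4, 5, 6]), ([0, 1, 2, 3, 4, 5], [0, 1, 2, 3, 4, 5])],
      by decide +kernel, by simpa only [List.forall_mem_cons] using ⟨a0, a2, a3,
        (a14.and (a3.cen b h1)).congr (by decide +kernel), (l6.cen b h1).congr (by decide +kernel),
        (a3.cen b h1).congr (by decide +kernel), l6.congr (by decide +kernel), by simp⟩⟩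
  · refine fu_of (Or.inr (Or.inr rfl)) (fun i => [1, 1].getD i 0) (fun π hπ i => ?_)
      (by decide +kernel) fun φ b a => ?_
    · rw [← lst_getD, List.mem_singleton.1 (sym_E8 hπ)]
      revert i; decide +kernel
    have h1 : ∀ i j, Adj chevE8 i j → Adj chevE8 j i ∧ i ≠ j := by decide +kernel
    have a' := fun p hp => have e := (anE8 p hp).iff (Or.inr (Or.inr rfl)); (a _).congr ⟨e, e⟩
    simp only [List.forall_mem_cons] at a'
    obtain ⟨a7, a6, a5, a4, a3, a12, -⟩ := a'
    have l0 : J φ [1, 2, 3, 4, 5, 6, 7] [1, 2, 3, 4, 5, 6, 7] :=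
      (((((a12.or a3).or a4).or a5).or a6).or a7).congr (by decide +kernel)
    exact ⟨1, 1, fun _ _ => ⟨rfl, rfl⟩, [([2], [2]), ([3], [3]), ([4], [4]), ([5], [5]), ([6], [6]),
      ([7], [7]), ([1, 2, 3, 4, 5, 6, 7], [1, 2, 3, 4, 5, 6, 7]),
      ([0, 2, 3, 4, 5, 6, 7], [0, 2, 3, 4, 5, 6, 7])], by decide +kernel,
      by simpa only [List.forall_mem_cons] using ⟨(l0.cen b h1).congr (by decide +kernel), a3, a4, a5,
        a6, a7, l0, (a3.cen b h1).congr (by decide +kernel), by simp⟩⟩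

end H55.FU
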