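import Cfsg.Agent.H78.TESpec
import Cfsg.Agent.H60.TEK
import Cfsg.Agent.H92.SgA
import Cfsg.Agent.H67.SAAB

/-! STD-2E6 (row S3327), slot P2a: all translations of `t Z` are induced by the centraliser of `P₀`. -/

set_option autoImplicit false
set_option linter.unusedSectionVars false

namespace H55.TE

open Cfsg.Lie H63 H65 H64 H64.SG H68 H46.SF Subgroup H78.TE H98 H60.TE
open H92.P2a (Cm cm_of_le cm_one com_one)

universe u

section Gen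
variable {X G : Type*} [Group X] [Group G] {e : X →* G} {A B Q : Subgroup X} {n : G} {g : X}

theorem map_Ns (h : g ∈ Ns A) : e g ∈ Ns (A.map e) := le_normalizer_map e ⟨g, h, rfl⟩

theorem map_Cm (h : g ∈ Cm A B) : e g ∈ Cm (A.map e : Subgroup G) (B.map e) :=
  ⟨map_Ns h.1, by rintro _ ⟨y, hy, rfl⟩; exact ⟨_, h.2 y hy, by simp⟩⟩

theorem s4 {t a b i j g : G} (b2 : b * b = 1) (ab : a * b = b * a)
    (ti : i * t * i⁻¹ = t) (tj : j * t * j⁻¹ = t) (ib : i * b * i⁻¹ = b * a) (ja : j * a * j⁻¹ = a * b)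
    (jb : j * b * j⁻¹ = b) (ga : g * a * g⁻¹ = a) (gb : g * b * g⁻¹ = b) (h : g * t * g⁻¹ = t * a)
    (hn : n = j * (g⁻¹ * j * g⁻¹⁻¹)) : n * a * n⁻¹ = a ∧ n * b * n⁻¹ = b ∧
      j * i * n * (j * i)⁻¹ * t * (j * i * n * (j * i)⁻¹)⁻¹ = t * a := by
  have ga' : g⁻¹ * a * g⁻¹⁻¹ = a := by nth_rewrite 1 [← ga]; group
  have gb' : g⁻¹ * b * g⁻¹⁻¹ = b := by nth_rewrite 1 [← gb]; group
  have e1 : ∀ y, n * y * n⁻¹ = j * (g⁻¹ * (j * (g * y * g⁻¹) * j⁻¹) * g⁻¹⁻¹) * j⁻¹ := fun y => by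
    rw [hn]; group
  have n2 : n * t * n⁻¹ = t * b := by
    rw [e1, h, ← conj_mul (a := t), ja, tj, ← mul_assoc t, ← h, ← conj_mul (b := g⁻¹), gb',
      show g⁻¹ * (g * t * g⁻¹) * g⁻¹⁻¹ = t by group, ← conj_mul, jb, tj]
  refine ⟨by rw [e1, ga, ja, ← conj_mul (b := g⁻¹), ga', gb', ← conj_mul, ja, jb, mul_assoc, b2, mul_one],
    by rw [e1, gb, jb, gb', jb], ?_⟩
  have kt : (j * i)⁻¹ * t * (j * i) = t := by nth_rewrite 1 [← tj, ← ti]; group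
  calc _ = j * i * (n * ((j * i)⁻¹ * t * (j * i)) * n⁻¹) * (j * i)⁻¹ := by group
    _ = j * (i * t * i⁻¹ * (i * b * i⁻¹)) * j⁻¹ := by rw [kt, n2]; group
    _ = _ := by
      rw [ti, ib, ← conj_mul, ← conj_mul, tj, ja, jb, ab, ← mul_assoc b, b2, one_mul]

variable (inj : Function.Injective e)
include inj

theorem map_Cs : (A ⊓ Cs B).map e = A.map e ⊓ Cs (B.map e) := le_antisymm
  (by
    rintro _ ⟨a, ha, rfl⟩
    exact ⟨⟨a, ha.1, rfl⟩, by rintro _ ⟨b, hb, rfl⟩; rw [← map_mul, ha.2 b hb, map_mul]⟩)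
  (by
    rintro _ ⟨⟨a, ha, rfl⟩, h⟩
    exact ⟨a, ⟨ha, fun b hb => inj (by rw [map_mul, map_mul]; exact h _ ⟨b, hb, rfl⟩)⟩, rfl⟩)

theorem ex_aut (hn : n ∈ Ns (A.map e)) : ∃ β, AutOn A β ∧ ∀ a ∈ A, n * e a * n⁻¹ = e (β a) := by
  choose! β h1 h2 using fun a (ha : a ∈ A) => conj_mem_of_mem_normalizer hn (mem_map_of_mem e ha)
  refine ⟨β, ⟨⟨h1, fun a ha b hb h => inj ?_, fun a ha => ?_⟩, fun a ha b hb => inj ?_⟩,
    fun a ha => (h2 a ha).symm⟩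
  · simpa [h2 a ha, h2 b hb] using congrArg e h
  · obtain ⟨b, hb, k⟩ := conj_mem_of_mem_normalizer' hn (mem_map_of_mem e ha)
    exact ⟨b, hb, inj (by rw [h2 b hb, k]; group)⟩
  · rw [map_mul, h2 a ha, h2 b hb, h2 _ (mul_mem ha hb), map_mul, conj_mul]

theorem nO2 [Finite G] (h : IsO2 Q A) (hn : n ∈ Ns (A.map e)) : n ∈ Ns (Q.map e) := by
  obtain ⟨β, h1, h2⟩ := ex_aut inj hn
  exact mem_normalizer_fintype (by rintro _ ⟨v, hv, rfl⟩; exact ⟨_, aut_o2 h1 h hv, (h2 v (h.1 hv)).symm⟩)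

theorem of_Cm {β : X → X} (h : ∀ a ∈ A, n * e a * n⁻¹ = e (β a)) (hB : B ≤ A)
    (hn : n ∈ Cm (B.map e : Subgroup G) (Q.map e)) : ∀ y ∈ B, β y * y⁻¹ ∈ Q := fun y hy => by
  have := hn.2 _ (mem_map_of_mem e hy)
  rwa [h y (hB hy), ← map_inv, ← map_mul, mem_map_iff_mem inj] at this

end Gen

variable {F K : Type} [Field F] [Finite F] [CharP F 2] [Field K] [CharP K 2] {T : Qd F K}
  {G : Type u} [Group G] [Finite G] {e : T.X →* G} {t n g : G} {c : F} (X : T.XF)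

local notation "θ" => hi D4
local notation "PP" => Subgroup.map e (Qd.P0 T (hi D4))

include X

theorem nZ {y : T.X} (hy : y ∈ Ns T.Z) (c : F) : ∃ d, y * T.x θ c * y⁻¹ = T.x θ d ∧ (c ≠ 0 → d ≠ 0) := by
  obtain ⟨d, h⟩ := X.kb.st.mem_XR.1 (conj_mem_of_mem_normalizer hy (x_mem_XR D4 T.x θ c))
  refine ⟨d, h, fun c0 d0 => c0 (X.kb.inj θ c ?_)⟩
  rwa [d0, X.kb.st.x_zero, conj_eq_one_iff] at h

theorem hZ (v : Rt D4) {l : F} (hl : l ≠ 0) : hh D4 T.x v l ∈ Ns T.Z := by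
  have : Finite T.Z := Finite.of_surjective (fun c : F => (⟨_, x_mem_XR D4 T.x θ c⟩ : T.Z)) fun y =>
    (X.kb.st.mem_XR.1 y.2).imp fun _ h => Subtype.ext h.symm
  refine mem_normalizer_fintype fun y hy => ?_
  obtain ⟨c, rfl⟩ := X.kb.st.mem_XR.1 hy
  rw [X.kb.st.stN.hh_conj v θ hl]
  exact x_mem_XR D4 T.x θ _

theorem Z_le_U : T.Z ≤ T.U := X.pc.zu.ge.trans inf_le_left
theorem le_P {S : Set (Rt E6)} (h : S ⊆ SP) : T.gt S ≤ T.P0 θ := X.pa.p0 ▸ T.gt_mono h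
theorem Z_le_El : T.Z ≤ T.El := X.kb.gtZ ▸ T.gt_mono (by decide +kernel : ∀ r ∈ SZ, r ∈ SE)

variable (H : T.TH e t)
include H

theorem ct (y : T.X) : e y * t * (e y)⁻¹ = t := by rw [H.comm _ ⟨y, rfl⟩, mul_inv_cancel_right]

theorem UZ (hg : g ∈ Ns (T.U.map e)) : g ∈ Ns (T.Z.map e) := by
  rw [← X.pc.zu, map_Cs H.inj]
  exact le_normalizer_inf le_rfl (normalizer_le_normalizer_centralizer _) hg

theorem nz (hn : n ∈ Ns (T.Z.map e)) (c : F) :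
    ∃ d, n * e (T.x θ c) * n⁻¹ = e (T.x θ d) ∧ (c ≠ 0 → d ≠ 0) := by
  obtain ⟨_, hy, h⟩ := conj_mem_of_mem_normalizer hn (mem_map_of_mem e (x_mem_XR D4 T.x θ c))
  obtain ⟨d, rfl⟩ := X.kb.st.mem_XR.1 hy
  refine ⟨d, h.symm, fun c0 d0 => c0 (X.kb.inj θ c (H.inj ?_))⟩
  rwa [d0, X.kb.st.x_zero, map_one, eq_comm, conj_eq_one_iff, ← map_one e] at h

theorem nP (hn : n ∈ Ns (T.Z.map e)) (h : n * t * n⁻¹ = t * e (T.x θ c)) : n ∈ Ns PP := by
  have hP : PP = e.range ⊓ Cs (T.Z.map e) := by rw [e.range_eq_map, ← map_Cs H.inj, top_inf_eq]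
  have h1 : cjs n⁻¹ PP ≤ Cz t := by
    rintro _ ⟨_, ⟨p, hp, rfl⟩, rfl⟩
    have : e p * (n * t * n⁻¹) * (e p)⁻¹ = n * t * n⁻¹ := by
      rw [h, ← conj_mul, ct X H, ← map_inv, ← map_mul, ← map_mul, ← hp _ (x_mem_XR D4 T.x θ c),
        mul_inv_cancel_right]
    refine mem_Cz.2 ?_
    calc _ = n⁻¹ * (n * t * n⁻¹) * e p * n := by simp [mul_assoc]
      _ = _ := by rw [← this]; simp [mul_assoc]
  have h2 := (H67.SA.le_O2_of_perfect (N := cjs n⁻¹ PP) (by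
    rw [← map_commutator, ← map_commutator]; exact map_mono (map_mono X.pb.perf))).trans (O2_mono h1)
  refine (inv_mem_iff (x := n)).1 (mem_normalizer_of_cj_le (?_ : cjs n⁻¹ PP ≤ PP))
  nth_rewrite 2 [hP]
  refine le_inf ?_ (hP.le.trans inf_le_right |> fun k => (map_mono k).trans
    (cj_eq_self (normalizer_le_normalizer_centralizer _ (inv_mem hn))).le)
  rw [X.pa.p0] at h2 ⊢
  refine map_le_iff_le_comap.2 (map_le_iff_le_comap.2 (T.gt_le.2 fun r hr a =>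
    H.a3 _ (h2 ⟨_, ⟨_, T.xs_mem hr a, rfl⟩, rfl⟩) (is2_of_sq ?_)))
  rw [← map_mul, ← map_mul, T.xs_sq, map_one, map_one]

theorem fin (h : n * t * n⁻¹ = t * e (T.x θ c)) (c0 : c ≠ 0) {y : T.X} (hy : y ∈ Ns T.Z)
    (hn : ∀ p ∈ T.P0 θ, n * e p * n⁻¹ = e (y * p * y⁻¹)) : Tr e.range (T.xe e) t := fun a => by
  by_cases a0 : a = 0
  · exact ⟨1, one_mem _, by simp [a0, Qd.xe, X.kb.st.x_zero]⟩
  obtain ⟨d, h1, h2⟩ := nZ X (inv_mem hy) c
  have l0 : a * d⁻¹ ≠ 0 := mul_ne_zero a0 (inv_ne_zero (h2 c0))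
  have k1 := X.kb.st.stN.hh_conj (R4 14) θ l0 d
  rw [(by decide +kernel : D4.pairing (R4 14) θ = 1), zpow_one, inv_mul_cancel_right₀ (h2 c0)] at k1
  have k2 := normalizer_le_normalizer_centralizer _ (hZ X (R4 14) l0)
  generalize hh D4 T.x (R4 14) (a * d⁻¹) = k at k1 k2
  refine ⟨e k * ((e y)⁻¹ * n) * (e k)⁻¹, centralizer_le (t := (PP : Subgroup G)) ?_ (conj_mem_of_mem_normalizer
    (normalizer_le_normalizer_centralizer _ (map_Ns k2)) ?_), ?_⟩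
  · rintro _ ⟨⟨p, rfl⟩, hp⟩
    refine ⟨p, fun z hz => H.inj ?_, rfl⟩
    obtain ⟨b, rfl⟩ := X.kb.st.mem_XR.1 hz
    rw [map_mul, map_mul]
    exact hp _ (x_mem_XR D4 (T.xe e) θ b)
  · rintro _ ⟨p, hp, rfl⟩
    calc _ = (e y)⁻¹ * e (y * p * y⁻¹) * n := by simp [mul_assoc]
      _ = _ := by rw [← hn p hp]; group
  · calc _ = e k * (e y⁻¹ * (n * (e k⁻¹ * t * (e k⁻¹)⁻¹) * n⁻¹) * (e y⁻¹)⁻¹) * (e k)⁻¹ := by
          simp [mul_assoc]
      _ = _ := by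
        rw [ct X H, h, ← conj_mul (a := t), ct X H, ← conj_mul (a := t), ct X H]
        simp only [← map_inv, ← map_mul, h1, k1]

theorem big {l : F} (l0 : l ≠ 0) (l1 : l ≠ 1) : Tr e.range (T.xe e) t := by
  have := Finite.of_injective e H.inj
  obtain ⟨g, hg, c, c0, h⟩ := H.mv
  have gZ := UZ X H hg
  have gP := nP X H gZ h
  have k1 := X.kb.st.stN.hh_conj θ θ l0 c
  have k2 := hZ X θ l0
  have tor := fun r u => (ip_hi r ▸ X.kb.tor θ l l0 r u :)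
  rw [(by decide +kernel : D4.pairing θ θ = 2)] at k1
  generalize hh D4 T.x θ l = k at k1 k2 tor
  have kQ : k ∈ Ns T.Q := mem_normalizer_of_cj_le (map_le_iff_le_comap.2 (T.gt_le.2 fun r hr u =>
    (tor r u ▸ T.xs_mem hr _ : k * T.xs r u * k⁻¹ ∈ T.Q)))
  have kC : k ∈ Cm (T.P0 θ) T.Q := cm_of_le kQ (X.pa.p0.le.trans (T.gt_le.2 fun r hr u =>
    cm_one (X.pb.q0.2.1 (X.pa.p0.ge (T.xs_mem hr u))) (by
      rcases (show 0 ≤ a2 r from hr).eq_or_lt with k | k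
      · rw [tor, ← k]; simp
      · exact mul_mem (tor r u ▸ T.xs_mem k _) (inv_mem (T.xs_mem k _)))))
  have n1 := H92.P2a.Cm.conj (inv_mem gP) (inv_mem (nO2 H.inj X.pb.q0 gP)) (map_Cm (e := e) kC)
  have n2 := mul_mem (mul_mem (inv_mem gP) (map_Ns (normalizer_le_normalizer_centralizer _ k2)))
    (inv_mem (inv_mem gP))
  obtain ⟨b, n3, b0⟩ := nz X H (inv_mem gZ) (c + l ^ (2 : ℤ) * c)
  obtain ⟨β, h1, h2⟩ := ex_aut H.inj n2
  obtain ⟨m, m0, v, hv, h3⟩ := X.ap1 β h1 (of_Cm H.inj h2 le_rfl n1)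
  refine fin X H (c := b) ?_ (b0 fun k => l1 ?_) (mul_mem (hZ X θ m0) (Cs_le_Ns _ (X.pb.q0.1 hv)))
    fun p hp => by rw [h2 p hp, h3 p hp]
  · calc _ = g⁻¹ * (e k * (g * t * g⁻¹) * (e k)⁻¹) * g := by group
      _ = g⁻¹ * (g * t * g⁻¹ * e (T.x θ (c + l ^ (2 : ℤ) * c))) * g := by
        rw [h, ← conj_mul, ct X H, ← map_inv, ← map_mul, ← map_mul, k1, mul_assoc t, ← map_mul,
          X.kb.st.add _ θ.2, CharTwo.add_cancel_left]
      _ = _ := by rw [← n3]; group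
  · have : (l + 1) ^ 2 * c = 0 := by rw [← k, zpow_ofNat]; grind
    grind

theorem two (hF : ∀ c : F, c = 0 ∨ c = 1) : Tr e.range (T.xe e) t := by
  have := Finite.of_injective e H.inj
  obtain ⟨g, hg, c, c0, h⟩ := H.mv
  obtain rfl := (hF c).resolve_left c0
  have fz : ∀ g ∈ Ns (T.Z.map e), g * e (T.x θ 1) * g⁻¹ = e (T.x θ 1) := fun g hg => by
    obtain ⟨d, h1, h2⟩ := nz X H hg 1
    rwa [(hF d).resolve_left (h2 one_ne_zero)] at h1
  have cm : ∀ r s : Rt D4, 0 ≤ D4.pairing r s → T.x r 1 * T.x s 1 * (T.x r 1)⁻¹ = T.x s 1 := fun r s k => by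
    rw [e4.comm_of_nonneg X.kb.st k, mul_inv_cancel_right]
  have ia := cm (R4 14) θ (by decide +kernel)
  have jb := cm (R4 9) (R4 22) (by decide +kernel)
  have ab := mul_inv_eq_iff_eq_mul.1 (cm θ (R4 22) (by decide +kernel))
  have ib := cj_long X.kb (r := R4 14) (s := R4 22) (v := θ) (by decide +kernel) 1 1
  have ja := cj_long X.kb (r := R4 9) (s := θ) (v := R4 22) (by decide +kernel) 1 1
  have a2 := SG.x_sq X.kb.st θ 1
  have b2 := SG.x_sq X.kb.st (R4 22) 1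
  have el : ∀ y ∈ T.El, y = 1 ∨ y = T.x θ 1 ∨ y = T.x (R4 22) 1 ∨ y = T.x (R4 22) 1 * T.x θ 1 :=
    fun y hy => by
      obtain ⟨c, k, rfl⟩ := (X.pc.el y).1 hy
      have z := X.kb.st.x_zero (R4 22)
      obtain rfl | rfl := hF c <;> obtain rfl | rfl := hF k
      exacts [.inl (by rw [X.kb.st.x_zero, mul_one]; exact z), .inr (.inl (mul_eq_right.2 z)),
        .inr (.inr (.inl (by rw [X.kb.st.x_zero, mul_one]; rfl))), .inr (.inr (.inr rfl))]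
  have bE : T.x (R4 22) 1 ∈ T.El := X.kb.x_mem _ (by decide +kernel) 1
  have iU : T.x (R4 14) 1 ∈ T.U := X.kb.x_mem _ (by decide +kernel) 1
  have hi : T.x (R4 14) 1 ∈ T.gt {R6 25, R6 46} := X.kb.x_mem _ (by decide +kernel) 1
  have hj : T.x (R4 9) 1 ∈ T.gt {R6 25, R6 46} := X.kb.x_mem _ (by decide +kernel) 1
  have sE := nr_gt X.kb (S := {R6 25, R6 46}) (V := SE) (by decide +kernel) (by decide +kernel)
  have sA := nr_gt X.kb (S := {R6 25, R6 46}) (V := SA) (by decide +kernel) (by decide +kernel)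
  have jC : T.x (R4 9) 1 ∈ Cm (Cs T.El) T.A := ⟨sA hj, X.pc.jY 1⟩
  have bZ : T.x (R4 22) 1 ∉ T.Z := fun k => by
    obtain ⟨d, k⟩ := X.kb.st.mem_XR.1 k
    rw [k, ← e4.comm_of_nonneg X.kb.st (r := θ) (by decide +kernel), mul_inv_cancel_right, left_eq_mul] at ib
    exact one_ne_zero ((mul_one _).symm.trans (X.kb.inj θ _ ib))
  rw [mul_one] at ib ja
  generalize T.x (R4 14) 1 = i at ia ib iU hi
  generalize T.x (R4 9) 1 = j at ja jb hj jC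
  generalize T.x (R4 22) 1 = b at *
  have EU : T.El ≤ T.U := T.gt_mono (by decide +kernel : ∀ r ∈ SE, r ∈ SU)
  have EP : T.El ≤ T.P0 θ := le_P X (by decide +kernel : ∀ r ∈ SE, r ∈ SP)
  have YP : Cs T.El ≤ T.P0 θ := centralizer_le (Z_le_El X)
  have UE : ∀ g ∈ Ns (T.U.map e), g ∈ Ns (T.El.map e) := fun g hg => by
    obtain ⟨β, h1, h2⟩ := ex_aut H.inj hg
    refine mem_normalizer_fintype ?_
    rintro _ ⟨y, hy, rfl⟩
    refine ⟨_, (X.pc.z2 _ (aut_mem h1 (EU hy))).1 fun u hu' => ?_, (h2 y (EU hy)).symm⟩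
    obtain ⟨u, hu, rfl⟩ := h1.1.surjOn hu'
    have k := (X.pc.z2 y (EU hy)).2 hy u hu
    rw [← aut_cm h1 (EU hy) hu, ← mem_map_iff_mem H.inj, ← h2 _ (Z_le_U X k)]
    exact conj_mem_of_mem_normalizer (UZ X H hg) (mem_map_of_mem e k)
  have mp : ∀ {x y z : T.X}, x * y * x⁻¹ = z → e x * e y * (e x)⁻¹ = e z := fun k => by
    rw [← k, map_mul, map_mul, map_inv]
  obtain ⟨g, hg, h, gb⟩ : ∃ g ∈ Ns (T.U.map e), g * t * g⁻¹ = t * e (T.x θ 1) ∧ g * e b * g⁻¹ = e b := by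
    obtain ⟨y, hy, k⟩ := conj_mem_of_mem_normalizer (UE g hg) (mem_map_of_mem e bE)
    have nz : y ∉ T.Z := fun hz => bZ ((mem_map_iff_mem H.inj).1
      ((mem_normalizer_iff.1 (UZ X H hg) _).2 (k ▸ mem_map_of_mem e hz)))
    rcases el y hy with rfl | rfl | rfl | rfl
    · exact absurd (one_mem _) nz
    · exact absurd (x_mem_XR D4 T.x θ 1) nz
    · exact ⟨g, hg, h, k.symm⟩
    have e1 : ∀ y, e i * g * y * (e i * g)⁻¹ = e i * (g * y * g⁻¹) * (e i)⁻¹ := fun y => by group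
    refine ⟨e i * g, mul_mem (map_Ns (le_normalizer iU)) hg, by rw [e1, h, ← conj_mul, ct X H, mp ia], ?_⟩
    rw [e1, ← k]
    exact mp (by rw [← conj_mul, ib, ia, mul_assoc, a2, mul_one])
  have gY : g ∈ Ns ((Cs T.El).map e) := by
    rw [← inf_eq_right.2 YP, map_Cs H.inj]
    exact inf_normalizer_le_normalizer_inf ⟨nP X H (UZ X H hg) h,
      normalizer_le_normalizer_centralizer _ (UE g hg)⟩
  obtain ⟨n1, n2, n3⟩ := s4 (by rw [← map_mul, b2, map_one]) (by rw [← map_mul, ab, map_mul]) (ct X H i)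
    (ct X H j) ((mp ib).trans (map_mul ..)) ((mp ja).trans (map_mul ..)) (mp jb) (fz g (UZ X H hg)) gb h rfl
  have n4 := mul_mem (map_Cm (e := e) jC)
    (H92.P2a.Cm.conj (inv_mem gY) (inv_mem (nO2 H.inj X.pc.nA gY)) (map_Cm (e := e) jC))
  generalize e j * (g⁻¹ * e j * g⁻¹⁻¹) = n at n1 n2 n3 n4
  have n5 : n ∈ Cs (T.El.map e) := by
    rintro _ ⟨y, hy, rfl⟩
    refine (mul_inv_eq_iff_eq_mul.1 ?_).symm
    rcases el y hy with rfl | rfl | rfl | rfl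
    exacts [by simp, n1, n2, by rw [map_mul, ← conj_mul, n1, n2]]
  rw [← map_mul] at n3
  have kE := sE (mul_mem hj hi)
  have n6 := conj_mem_of_mem_normalizer (normalizer_le_normalizer_centralizer _ (map_Ns (e := e) kE)) n5
  have n7 := H92.P2a.Cm.conj (map_Ns (normalizer_le_normalizer_centralizer _ kE))
    (map_Ns (sA (mul_mem hj hi))) n4
  generalize e (j * i) * n * (e (j * i))⁻¹ = n at n3 n6 n7
  obtain ⟨β, h1, h2⟩ := ex_aut H.inj (nP X H (Cs_le_Ns _ (centralizer_le (map_mono (Z_le_El X)) n6)) n3)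
  obtain ⟨v, hv, h3⟩ := X.ap2 hF β h1 (fun y hy => H.inj (by
    rw [← h2 y (EP hy), ← n6 _ (mem_map_of_mem e hy), mul_inv_cancel_right])) (of_Cm H.inj h2 YP n7)
  exact fin X H n3 one_ne_zero (Cs_le_Ns _ hv) fun p hp => by rw [h2 p hp, h3 p hp]

omit X H in
theorem jobP2a : H78.TE.JobP2a.{u} := fun F K _ _ _ _ _ _ T X G _ _ e t H => by
  by_cases hF : ∀ c : F, c = 0 ∨ c = 1
  · exact two X H hF
  · push Not at hF
    obtain ⟨l, l0, l1⟩ := hF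
    exact big X H l0 l1

end H55.TE
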