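import Cfsg.Agent.H28.TESpec

/-! Tower NF (S1308), chapter TE part 1: job EQ. -/

set_option autoImplicit false

open Cfsg Subgroup H14 H98 H1.Gold H31.S2 H14.GC H14.FE H14.NF H28.TE
open scoped commutatorElement

namespace H55.TEEQ

universe u

section

variable {G : Type u} [Group G] {F : Subgroup G} {a b g c f : G}

theorem conj_nor (hg : g ∈ nor F) (hf : f ∈ F) : g * f * g⁻¹ ∈ F :=
  (mem_normalizer_iff.1 hg f).1 hf

theorem cen_fix (hc : c ∈ cen F) (hf : f ∈ F) : c * f * c⁻¹ = f := by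
  rw [← mem_centralizer_iff.1 hc f hf, mul_inv_cancel_right]

theorem conj_cen (hg : g ∈ nor F) (hc : c ∈ cen F) : g * c * g⁻¹ ∈ cen F := by
  refine mem_centralizer_iff.2 fun f hf => ?_
  have h1 := conj_nor (inv_mem hg) hf
  have h2 := mem_centralizer_iff.1 hc _ h1
  calc f * (g * c * g⁻¹) = g * (g⁻¹ * f * g⁻¹⁻¹ * c) * g⁻¹ := by group
    _ = g * (c * (g⁻¹ * f * g⁻¹⁻¹)) * g⁻¹ := by rw [h2]
    _ = g * c * g⁻¹ * f := by group

theorem comm_eq (hb : b ∈ nor F) (h : a * b⁻¹ ∈ cen F) (hf : f ∈ F) : ⁅f, a⁆ = ⁅f, b⁆ := by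
  have h1 := cen_fix h (conj_nor hb (inv_mem hf))
  calc ⁅f, a⁆ = f * (a * b⁻¹ * (b * f⁻¹ * b⁻¹) * (a * b⁻¹)⁻¹) := by
        rw [commutatorElement_def]; group
    _ = ⁅f, b⁆ := by rw [h1, commutatorElement_def]; group

theorem vx_eq {Q Q₁ Q₂ : Subgroup G} (h : HY Q) (h1 : Vx Q Q₁) (h2 : Vx Q Q₂) (ha : a ∈ Q₁)
    (ha' : a ∈ Q₂) (hi : Inv a) : Q₁ = Q₂ := by
  by_contra hne
  exact h.ti _ _ h1 h2 hne a ⟨ha, ha'⟩ hi

end

theorem jobEQ : H28.TE.JobEQ.{u} := by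
  intro kt kp ar sw G _ _ Q Q₁ E Q₂ T ln y y' hy hy'
  have k := kt G Q Q₁ E Q₂ T ln
  obtain ⟨R, hR, -, -⟩ := ar G Q Q₂ T Q₁ E ln.symm ⊥ IsPGroup.of_bot bot_le (by
    intro a _ b hb
    rw [mem_bot.1 hb, commutatorElement_one_right]
    exact one_mem _)
  have p := kp G Q Q₂ T Q₁ E ln.symm R hR
  obtain ⟨u, hu1, hu2⟩ := SetLike.exists_of_lt p.lt
  have hu := p.tr u hu1 hu2
  obtain ⟨w, s⟩ := sw G Q Q₁ E Q₂ T ln y u hy hu
  obtain ⟨w', s'⟩ := sw G Q Q₁ E Q₂ T ln y' u hy' hu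
  have EF : E ≤ E ⊔ T := le_sup_left
  have TF : T ≤ E ⊔ T := le_sup_right
  have EQ1 : E ≤ Q₁ := ln.sE.le.trans inf_le_left
  have ec : ∀ x : G, w' * w * x * (w' * w)⁻¹ = w' * (w * x * w⁻¹) * w'⁻¹ := fun x => by group
  have hal : Al T (w' * w * y * (w' * w)⁻¹) y' := by
    intro t ht
    refine comm_eq (k.nrF y' hy') ?_ (TF ht)
    have h1 := mul_mem (mul_mem (mul_mem (conj_cen s'.nF s.yu) (conj_cen s'.nF (inv_mem s'.yu))) s'.sq)
      (conj_cen (k.nrF y' hy') (inv_mem s'.sq))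
    have e : w' * w * y * (w' * w)⁻¹ * y'⁻¹ = w' * (w * y * w⁻¹ * u⁻¹) * w'⁻¹ *
        (w' * (w' * y' * w'⁻¹ * u⁻¹)⁻¹ * w'⁻¹) * (w' * w') * (y' * (w' * w')⁻¹ * y'⁻¹) := by group
    rw [e]
    exact h1
  refine ⟨w' * w, mul_mem s'.nF s.nF, ?_, fun t ht => ?_, hal, fun t ht t1 hfix => ?_⟩
  · obtain ⟨e, he, hi⟩ := four_exists_inv ln.fE
    have h1 : w' * w * e * (w' * w)⁻¹ ∈ E := by
      rw [ec]; exact s'.te _ (s.et e he)
    have h2 : w' * w * e * (w' * w)⁻¹ ∈ cj (w' * w) Q₁ := by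
      rw [mem_cj]
      have : (w' * w)⁻¹ * (w' * w * e * (w' * w)⁻¹) * (w' * w) = e := by group
      rw [this]; exact EQ1 he
    have h3 : Inv (w' * w * e * (w' * w)⁻¹) := by
      refine ⟨fun h => hi.1 ?_, ln.elE _ h1⟩
      have : e = (w' * w)⁻¹ * (w' * w * e * (w' * w)⁻¹) * (w' * w) := by group
      rw [this, h]; group
    have h4 := vx_eq ln.hy ln.v1 (vx_cj ln.v1 (w' * w)) (EQ1 h1) h2 h3
    refine mem_normalizer_iff.2 fun x => ?_
    have h5 : w' * w * x * (w' * w)⁻¹ ∈ cj (w' * w) Q₁ ↔ x ∈ Q₁ := by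
      rw [mem_cj]
      have : (w' * w)⁻¹ * (w' * w * x * (w' * w)⁻¹) * (w' * w) = x := by group
      rw [this]
    rw [← h4] at h5
    exact h5.symm
  · rw [ec]; exact s'.et _ (s.te t ht)
  · obtain ⟨Q₃, v3, -, h3⟩ := s.home
    obtain ⟨Q₄, v4, -, h4⟩ := s'.home
    have ce : ∀ x v : G, ⁅x, v⁆ = x * (v * x * v⁻¹)⁻¹ := fun x v => by
      rw [commutatorElement_def]; group
    have e1 : w * t * w⁻¹ = w' * t * w'⁻¹ := by
      have h1 := cen_fix s'.sq (TF ht)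
      calc w * t * w⁻¹ = w'⁻¹ * (w' * w * t * (w' * w)⁻¹) * w' := by group
        _ = w'⁻¹ * (w' * w' * t * (w' * w')⁻¹) * w' := by rw [hfix, h1]
        _ = w' * t * w'⁻¹ := by group
    have hi : Inv ⁅t, w⁆ := by
      rw [ce]
      refine ⟨fun h => t1 (k.dis t ?_ ht), k.elF _ (mul_mem (TF ht) (inv_mem (EF (s.te t ht))))⟩
      rw [mul_inv_eq_one.1 h]
      exact s.te t ht
    have q34 : Q₃ = Q₄ := by
      refine vx_eq ln.hy v3 v4 (h3 t (TF ht)) ?_ hi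
      rw [ce, e1, ← ce]
      exact h4 t (TF ht)
    subst q34
    have agree : ∀ x ∈ T, w * x * w⁻¹ = w' * x * w'⁻¹ := by
      intro x hx
      by_contra hne
      have m1 : w * x * w⁻¹ * (w' * x * w'⁻¹)⁻¹ ∈ E := mul_mem (s.te x hx) (inv_mem (s'.te x hx))
      have m2 : w * x * w⁻¹ * (w' * x * w'⁻¹)⁻¹ ∈ Q₃ := by
        have := mul_mem (inv_mem (h3 x (TF hx))) (h4 x (TF hx))
        rw [ce, ce] at this
        have e : (x * (w * x * w⁻¹)⁻¹)⁻¹ * (x * (w' * x * w'⁻¹)⁻¹) =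
            w * x * w⁻¹ * (w' * x * w'⁻¹)⁻¹ := by group
        rwa [e] at this
      have q : Q₁ = Q₃ :=
        vx_eq ln.hy ln.v1 v3 (EQ1 m1) m2 ⟨fun h => hne (mul_inv_eq_one.1 h), ln.elE _ m1⟩
      have m3 := h3 t (TF ht)
      rw [← q, ce] at m3
      have m4 := mul_mem m3 (EQ1 (s.te t ht))
      rw [inv_mul_cancel_right] at m4
      exact t1 (k.dis t (k.inE t (TF ht) m4) ht)
    have dT : ∀ x ∈ T, w' * w * x * (w' * w)⁻¹ = x := by
      intro x hx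
      rw [ec, agree x hx]
      have h1 := cen_fix s'.sq (TF hx)
      calc w' * (w' * x * w'⁻¹) * w'⁻¹ = w' * w' * x * (w' * w')⁻¹ := by group
        _ = x := h1
    have dE : ∀ x ∈ E, w' * w * x * (w' * w)⁻¹ = x := by
      intro x hx
      rw [ec, ← agree _ (s.et x hx)]
      have h1 := cen_fix s.sq (EF hx)
      calc w * (w * x * w⁻¹) * w⁻¹ = w * w * x * (w * w)⁻¹ := by group
        _ = x := h1
    have dC : w' * w ∈ cen (E ⊔ T) := by
      refine mem_centralizer_iff.2 fun f hf => ?_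
      obtain ⟨e, he, x, hx, rfl⟩ := k.dec f hf
      calc e * x * (w' * w) = (w' * w * e * (w' * w)⁻¹) * (w' * w * x * (w' * w)⁻¹) * (w' * w) := by
            rw [dE e he, dT x hx]
        _ = w' * w * (e * x) := by group
    intro x hx
    rw [← hal x hx]
    refine (comm_eq (k.nrF y hy) ?_ (TF hx)).symm
    have h1 := mul_mem dC (conj_cen (k.nrF y hy) (inv_mem dC))
    have e : w' * w * y * (w' * w)⁻¹ * y⁻¹ = w' * w * (y * (w' * w)⁻¹ * y⁻¹) := by group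
    rw [e]
    exact h1

end H55.TEEQ
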