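/- Groups in which a four-group lies in a unique Sylow `2`-subgroup: two components. -/
import Cfsg.Agent.H55.RkOne4
import Cfsg.Agent.H83.SC4
import Cfsg.Agent.H24.WkC
import Cfsg.Agent.H21.CoverId

set_option autoImplicit false
set_option linter.unusedSectionVars false

namespace H55.RkOne

open Cfsg hiding pRank
open Subgroup H46 H10.W H69
open H98 (IsSyl exists_isSyl_le exists_isSyl isSyl_sylow)
open H86 (GQ)
open scoped commutatorElement MatrixGroups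

universe u

section
variable {G : Type u} [Group G] [Finite G]

theorem ti_pair [IsSimpleGroup G] (hG : ¬ IsMulCommutative G)
    (hT : ∀ P Q : Sylow 2 G, P ≠ Q → (P : Subgroup G) ⊓ Q = ⊥) (P : Sylow 2 G) :
    ∃ x ∈ (P : Subgroup G), ∃ y ∈ (P : Subgroup G), x * x = 1 ∧ y * y = 1 ∧ x ≠ 1 ∧ y ≠ 1 ∧ x ≠ y ∧
      x ∈ Cent (P : Subgroup G) ∧ y ∈ Cent (P : Subgroup G) := by
  have key : ∀ (S T : Sylow 2 G) (y : G), y ≠ 1 → y ∈ (S : Subgroup G) → y ∈ (T : Subgroup G) → S = T :=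
    fun S T y y1 h1 h2 => by_contra fun e => y1 (mem_bot.1 (hT S T e ▸ mem_inf.2 ⟨h1, h2⟩))
  have hU : H51.UF G := fun S T _ z _ h1 _ _ _ h5 h6 _ _ _ _ => key S T z (H48.ne_one_of_two h1) h5 h6
  obtain ⟨M, hM⟩ := (hU.dich H51.st1169 hG).elim (fun e => se_of_ti hG e hT) id
  obtain ⟨z, hz, z2, zc⟩ := H14.exists_central_involution P.isPGroup'
    (P.ne_bot_of_dvd_card (H24.even_card_of_nonabelian hG).two_dvd)
  have hc : ∀ y ∈ (P : Subgroup G), y * y = 1 → y ≠ 1 → y ∈ Cent (P : Subgroup G) := fun y hy y2 y1 => by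
    obtain ⟨g, rfl⟩ := isConj_iff.1 (H88.se_isConj hM z2 (H48.orderOf_two y2 y1))
    obtain ⟨Q, h1, h2⟩ := H51.exists_sylow_cent_conj P zc g
    exact le_cent1_iff.1 (key P Q _ y1 hy (h1 ⟨hy, self_mem_cent1 _⟩) ▸ h2)
  obtain ⟨x, y, x1, y1, xy, x2, y2, hxy⟩ := H99.se_twoRank_of_simple hM
  obtain ⟨g, -, e⟩ := (isSyl_sylow P).exists_cj_le (H48.e2_four x2 y2 hxy).isPGroup le_top
  have h1 := e (conj_mem_cj.2 (H48.left_mem_four x y))
  have h2 := e (conj_mem_cj.2 (H48.right_mem_four x y))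
  have h3 : g * x * g⁻¹ * (g * x * g⁻¹) = 1 := by rw [conj_mul, x2, mul_one, mul_inv_cancel]
  have h4 : g * y * g⁻¹ * (g * y * g⁻¹) = 1 := by rw [conj_mul, y2, mul_one, mul_inv_cancel]
  exact ⟨_, h1, _, h2, h3, h4, by simpa using x1, by simpa using y1, by simpa using xy,
    hc _ h1 h3 (by simpa using x1), hc _ h2 h4 (by simpa using y1)⟩

theorem alt5_of_ti [IsSimpleGroup G] (hG : ¬ IsMulCommutative G)
    (hT : ∀ P Q : Sylow 2 G, P ≠ Q → (P : Subgroup G) ⊓ Q = ⊥) (P : Sylow 2 G) {x y : G} (x2 : x * x = 1)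
    (y2 : y * y = 1) (x1 : x ≠ 1) (y1 : y ≠ 1) (xy : x ≠ y) (hc : x * y = y * x)
    (hP : (P : Subgroup G) = H48.four x y) : Ab2 G ∧ Nonempty (G ≃* alternatingGroup (Fin 5)) := by
  have hE : H85.E2 (P : Subgroup G) := hP ▸ H48.e2_four x2 y2 hc
  have hA := ab2_of_sylow P ⟨⟨fun a b => Subtype.ext (hE.comm a.2 b.2)⟩⟩
  have h4 : Nat.card (P : Subgroup G) = 4 := hP ▸ H48.card_four x2 y2 hc x1 y1 xy.symm
  have hC := ((H24.walterA G hG hA).facts H24.jobL2 H24.jobJR').four P h4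
  have hx : x ∈ (P : Subgroup G) := hP ▸ H48.left_mem_four x y
  have hy : y ∈ (P : Subgroup G) := hP ▸ H48.right_mem_four x y
  have h1 : centralizer {x} = (P : Subgroup G) := by
    refine le_antisymm (fun c hc' => ?_) (H48.e2_le_cent1 hE hx)
    have h2 := mem_centralizer_singleton_iff.1 hc'
    have h3 : c ∈ Nrm (P : Subgroup G) := Sylow.smul_eq_iff_mem_normalizer.1 (by_contra fun e1 =>
      x1 (mem_bot.1 (hT _ _ e1 ▸ mem_inf.2 ⟨⟨x, hx, by simp [h2]⟩, hx⟩)))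
    have h5 : c * c * y = y * (c * c) := by
      have h6 : c * x * c⁻¹ = x := mul_inv_eq_iff_eq_mul.2 h2
      refine mul_inv_eq_iff_eq_mul.1 ?_
      rw [show c * c * y * (c * c)⁻¹ = c * (c * y * c⁻¹) * c⁻¹ by group]
      rcases (H48.mem_four x2 y2 hc).1 (hP ▸ conj_mem_of_mem_nrm h3 hy) with e | e | e | e
      · exact absurd (by simpa using e) y1
      · exact absurd ((MulAut.conj c).injective (h6.trans e.symm)) xy
      · rw [e, e]
      · rw [e, ← conj_mul, e, h6, mul_assoc, x2, mul_one]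
    have h6 : c * c ∈ (P : Subgroup G) := hC (by
      rw [hP]
      change c * c ∈ Cent _
      rw [H48.cent_four]
      exact ⟨mul_mem hc' hc', mem_cent1.2 h5⟩)
    exact (isSyl_sylow P).le_of_le_normalizer' (H98.isPGroup_zpowers (k := 2) (by
      rw [← hE _ h6]; simp [pow_succ, mul_assoc])) le_top (zpowers_le.2 h3) (mem_zpowers c)
  exact ⟨hA, H83.alt5_of_cent_four hG x1 (h1 ▸ hE.isKleinFour h4)⟩

theorem exists_z (hO : pPrimeCore 2 G = ⊥) {L : Subgroup G} (hL : IsComponent L) (h4 : ¬ Four L) :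
    ∃ z ∈ L, z * z = 1 ∧ z ≠ 1 ∧ z ∈ Cent L ∧ ∀ a ∈ L, a ∈ Cent L → a = 1 ∨ a = z := by
  obtain ⟨P⟩ : Nonempty (Sylow 2 L) := inferInstance
  obtain ⟨k, a, b, hQ⟩ := gq_of_not_four P.isPGroup' (fun e => h4 ((e.map L.subtype fun x _ e =>
    Subtype.ext e).mono (map_subtype_le _))) fun e =>
      H14.quasi_not_solvable hL.2 (H24.solvable_of_cyclic P e)
  obtain ⟨e⟩ := hQ.nonempty_equiv
  obtain ⟨z, z2, h1, -⟩ := H7.GW.gq_data (by
    rw [oddCore, H2.pPrimeCore_eq_subgroupOf_of_isSubnormal hL.1, hO, bot_subgroupOf]) P e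
  have h2 := H48.mul_self_of_two z2
  refine ⟨z, z.2, congrArg Subtype.val h2, fun e => H48.ne_one_of_two z2 (Subtype.ext e), fun g hg =>
    congrArg Subtype.val (mem_center_iff.1 (h1 ▸ mem_zpowers z) ⟨g, hg⟩), fun a ha hc => ?_⟩
  exact ((H48.mem_zp2 h2).1 (h1 ▸ mem_center_iff.2 fun g => Subtype.ext (hc g g.2) :
    (⟨a, ha⟩ : L) ∈ zpowers z)).imp (congrArg Subtype.val) (congrArg Subtype.val)

theorem cent_lift {H : Type u} [Group H] {L : Subgroup G} (hL : IsComponent L) {f : G →* H}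
    (hk : ∀ g, f g = 1 → g ∈ Cent L) {g : G} (hx : f g ∈ Cent (L.map f)) : g ∈ Cent L := by
  rcases H14.comp_le_commutator_self_or hL (zpowers g) with e | e
  · refine absurd (e.trans (commutator_le.2 fun l hl y hy => hk _ ?_)) (H14.comp_not_le_centralizer hL)
    rw [map_commutatorElement, commutatorElement_eq_one_iff_mul_comm]
    exact (zpowers_le.2 hx : zpowers (f g) ≤ _) (MonoidHom.map_zpowers f g ▸ ⟨y, hy, rfl⟩) _ ⟨l, hl, rfl⟩
  · exact commutator_eq_bot_iff'.1 e (mem_zpowers g)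

theorem four_comp {L K : Subgroup G} (hL : IsComponent L) (hK : IsComponent K) (hne : L ≠ K)
    {T U : Subgroup G} (hT : IsSyl 2 T L) (hU : IsSyl 2 U K) : IsPGroup 2 ↥(T ⊔ U) ∧ Four (T ⊔ U) := by
  have hc : T ≤ Cent U := le_cent_mono (commutator_eq_bot_iff.1 (H14.comp_commute_of_ne hL hK hne)) hT.le hU.le
  have hp := hT.isPGroup.to_sup_of_normal_right' hU.isPGroup (nrm_of_le_cent hc)
  exact ⟨hp, four_sup hp (H51.not_cyclic_syl (H14.quasi_not_solvable hL.2) hT)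
    (H51.not_cyclic_syl (H14.quasi_not_solvable hK.2) hU) hc⟩

theorem U4.comp_cases (h : U4 G) {L K J : Subgroup G} (hL : IsComponent L) (hK : IsComponent K)
    (hne : L ≠ K) (hJ : IsComponent J) : J = L ∨ J = K := by
  by_contra h1
  push Not at h1
  obtain ⟨T, hT⟩ := exists_isSyl 2 L
  obtain ⟨U, hU⟩ := exists_isSyl 2 K
  exact h.not_four_cent (H14.quasi_not_solvable hJ.2) ((four_comp hL hK hne hT hU).2.mono (sup_le
    (hT.le.trans (commutator_eq_bot_iff'.1 (H14.comp_commute_of_ne hJ hL h1.1)))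
    (hU.le.trans (commutator_eq_bot_iff'.1 (H14.comp_commute_of_ne hJ hK h1.2)))))

end

/-- Two components `L`, `K` with the common involution `z`; `f` is the quotient map by `z`. -/
structure Two {G H : Type u} [Group G] [Group H] (L K : Subgroup G) (z : G) (f : G →* H) : Prop where
  u4 : U4 G
  cL : IsComponent L
  cK : IsComponent K
  ne : L ≠ K
  z2 : z * z = 1
  z1 : z ≠ 1
  zL : z ∈ L
  zK : z ∈ K
  cen : ∀ g, g ∈ Cent L ⊓ Cent K ↔ g = 1 ∨ g = z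
  surj : Function.Surjective f
  ker : ∀ g, f g = 1 ↔ g = 1 ∨ g = z

theorem exists_two {G : Type u} [Group G] [Finite G] (h : U4 G) (hO : pPrimeCore 2 G = ⊥) {L K : Subgroup G}
    (hL : IsComponent L) (hK : IsComponent K) (hne : L ≠ K) :
    ∃ z, Two L K z (QuotientGroup.mk' (Cent (layer G))) := by
  have hc : L ≤ Cent K := commutator_eq_bot_iff.1 (H14.comp_commute_of_ne hL hK hne)
  have h1 := h.not_four_cent (H14.quasi_not_solvable hL.2)
  have h2 := h.not_four_cent (H14.quasi_not_solvable hK.2)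
  obtain ⟨z, zL, z2, z1, zc, -⟩ := exists_z hO hL fun e => h2 (e.mono hc)
  obtain ⟨w, wK, w2, w1, wc, -⟩ := exists_z hO hK fun e => h1 (e.mono (le_cent_symm hc))
  obtain rfl : z = w := by_contra fun e => h2 ⟨z, hc zL, w, wc, z2, w2, z1, w1, e, (hc zL w wK).symm⟩
  have hE : Cent (layer G) = Cent L ⊓ Cent K := by
    rw [← cent_sup]
    congr 2
    exact le_antisymm (H14.layer_le fun J hJ => (h.comp_cases hL hK hne hJ).elim (· ▸ le_sup_left)
      (· ▸ le_sup_right)) (sup_le (H14.comp_le_layer hL) (H14.comp_le_layer hK))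
  have hR : ∀ r ∈ pCore 2 G, r = 1 ∨ r = z := fun r hr => by
    obtain ⟨T, hT, hz⟩ := exists_isSyl_le (H85.e2_zpowers z2).isPGroup (zpowers_le.2 zL)
    have h3 := H51.not_cyclic_syl (H14.quasi_not_solvable hL.2) hT
    obtain ⟨k, a, b, hQ⟩ := gq_of_not_four (hT.isPGroup.to_sup_of_normal_right (H2.pCore_isPGroup 2 G))
      (fun e => h2 (e.mono (sup_le (hT.le.trans hc)
        (commutator_eq_bot_iff'.1 (H14.comp_commutator_pCore hK 2))))) fun e => h3 (cyclic_of_le e le_sup_left)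
    rw [(hQ.eq_of_sq (by positivity) (mem_sup_left (hz (mem_zpowers z))) z2).resolve_left z1]
    exact gq_cent_nc hQ le_sup_left h3 (mem_sup_right hr)
      (cent_anti hT.le (commutator_eq_bot_iff'.1 (H14.comp_commutator_pCore hL 2) hr))
  have hcen : ∀ g, g ∈ Cent L ⊓ Cent K ↔ g = 1 ∨ g = z := fun g =>
    ⟨fun e => hR g (cent_le_core hO (cyclic_of_le inferInstance
      (fun r hr => (H48.mem_zp2 z2).2 (hR r hr) : _ ≤ zpowers z)) (hE ▸ e)), by
      rintro (rfl | rfl)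
      · exact one_mem _
      · exact ⟨zc, wc⟩⟩
  exact ⟨z, h, hL, hK, hne, z2, z1, zL, wK, hcen, QuotientGroup.mk'_surjective _, fun g => by
    rw [QuotientGroup.mk'_apply, QuotientGroup.eq_one_iff, hE, hcen]⟩

namespace Two

variable {G H : Type u} [Group G] [Group H] [Finite G] [Finite H] {L K S T U : Subgroup G} {z : G}
  {f : G →* H} (h : Two L K z f)
include h

theorem symm : Two K L z f :=
  ⟨h.u4, h.cK, h.cL, h.ne.symm, h.z2, h.z1, h.zK, h.zL, fun g => inf_comm (Cent L) _ ▸ h.cen g, h.surj, h.ker⟩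

theorem comm : L ≤ Cent K := commutator_eq_bot_iff.1 (H14.comp_commute_of_ne h.cL h.cK h.ne)

theorem nf : ¬ Four (Cent K) := h.u4.not_four_cent (H14.quasi_not_solvable h.cK.2)

theorem kc {g : G} (e : f g = 1) : g ∈ Cent L := ((h.cen g).2 ((h.ker g).1 e)).1

theorem fz : f z = 1 := (h.ker z).2 (Or.inr rfl)

theorem inv_eq {a : G} (ha : a ∈ L) (a2 : a * a = 1) : a = 1 ∨ a = z := by
  by_contra h1
  push Not at h1
  exact h.nf ⟨a, h.comm ha, z, h.comm h.zL, a2, h.z2, h1.1, h.z1, h1.2, h.kc h.fz a ha⟩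

theorem z_mem (hT : IsSyl 2 T L) : z ∈ T :=
  hT.le_of_le_normalizer' (H85.e2_zpowers h.z2).isPGroup (zpowers_le.2 h.zL)
    (zpowers_le.2 (cent_le_nrm _ (cent_anti hT.le (h.kc h.fz)))) (mem_zpowers z)

theorem mem_of_map (hz : z ∈ T) {g : G} (hg : f g ∈ T.map f) : g ∈ T := by
  obtain ⟨t, ht, e⟩ := hg
  rw [← mul_inv_cancel_left t g]
  rcases (h.ker (t⁻¹ * g)).1 (by rw [map_mul, map_inv, e, inv_mul_cancel]) with e | e
  · exact mul_mem ht (e ▸ one_mem _)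
  · exact mul_mem ht (e ▸ hz)

theorem mquasi : IsQuasisimple (L.map f) := H14.quasi_map h.cL.2 f fun e =>
  H14.comp_not_le_centralizer h.cL fun _ hl => h.kc (mem_bot.1 (e ▸ mem_map_of_mem f hl))

theorem msimple : IsSimpleGroup (L.map f) := H14.simple_of_quasi h.mquasi (eq_bot_iff.2 (by
  rintro ⟨_, l, hl, rfl⟩ hx
  exact Subtype.ext ((h.ker l).2 ((h.cen l).1 ⟨cent_lift h.cL (fun _ => h.kc)
    fun y hy => congrArg Subtype.val (mem_center_iff.1 hx ⟨y, hy⟩), h.comm hl⟩))))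

theorem gq (hT : IsSyl 2 T L) : ∃ (k : ℕ) (a b : G), GQ T (2 ^ (k + 1)) a b :=
  gq_of_not_four hT.isPGroup (fun e => h.nf (e.mono (hT.le.trans h.comm)))
    (H51.not_cyclic_syl (H14.quasi_not_solvable h.cL.2) hT)

theorem lift (P : Sylow 2 (L.map f)) :
    ∃ T, IsSyl 2 T L ∧ T.map f = (P : Subgroup _).map (L.map f).subtype := by
  obtain ⟨T, hT, e⟩ := lift_two h.surj (H98.isSyl_map_subtype P).isPGroup
  obtain ⟨U, hU, h1⟩ := exists_isSyl_le hT.isPGroup (fun g hg => h.mem_of_map h.zL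
    (map_subtype_le _ (hT.le hg)) : T ≤ L)
  exact ⟨U, hU, (H98.isSyl_map_subtype P).eq_of_le (hU.isPGroup.map f) (e ▸ map_mono h1) (map_mono hU.le)⟩

theorem ti (P Q : Sylow 2 (L.map f)) (hne : P ≠ Q) : (P : Subgroup (L.map f)) ⊓ Q = ⊥ := by
  by_contra h1
  obtain ⟨⟨_, d, hd, rfl⟩, h2, h3, -⟩ := H14.exists_central_involution P.isPGroup'.to_inf_left h1
  obtain ⟨T, hT, e1⟩ := h.lift P
  obtain ⟨T', hT', e2⟩ := h.lift Q
  have hdT : d ∈ T := h.mem_of_map (h.z_mem hT) (e1 ▸ ⟨_, h2.1, rfl⟩)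
  have hdT' : d ∈ T' := h.mem_of_map (h.z_mem hT') (e2 ▸ ⟨_, h2.2, rfl⟩)
  have d1 : f d ≠ 1 := fun e => H48.ne_one_of_two h3 (Subtype.ext e)
  have d2 : d * d = z := ((h.ker _).1 (by
    rw [map_mul]; exact congrArg Subtype.val (H48.mul_self_of_two h3))).resolve_left
      fun e => d1 ((h.ker d).2 (h.inv_eq hd e))
  obtain ⟨U, hU⟩ := exists_isSyl 2 K
  obtain ⟨k, a, b, hQ⟩ := h.symm.gq hU
  have hb := hU.le hQ.b_mem
  have b2 : b * b = z := (h.symm.inv_eq (mul_mem hb hb) (hQ.bb ▸ hQ.z_mul_z)).resolve_left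
    (hQ.bb ▸ hQ.z_ne_one (by positivity))
  have hdK : d ∉ K := fun e => d1 ((h.ker d).2 ((h.cen d).1 ⟨h.symm.comm e, h.comm hd⟩))
  have key : ∀ V, IsSyl 2 V L → ∃ S, IsSyl 2 S ⊤ ∧ V ⊔ U ≤ S ∧ S ⊓ L = V := fun V hV => by
    obtain ⟨S, hS, h4⟩ := exists_isSyl_le (four_comp h.cL h.cK h.ne hV hU).1 le_top
    exact ⟨S, hS, h4, hV.eq_of_le hS.isPGroup.to_inf_left (le_inf (le_sup_left.trans h4) hV.le) inf_le_right⟩
  obtain ⟨S, hS, h4, h5⟩ := key T hT
  obtain ⟨S', hS', h6, h7⟩ := key T' hT'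
  obtain rfl : S = S' := h.u4 _ S S' hS hS' inf_le_left inf_le_right
    ⟨d * b, ⟨h4 (mul_mem_sup hdT hQ.b_mem), h6 (mul_mem_sup hdT' hQ.b_mem)⟩, z,
      ⟨h4 (mem_sup_left (h.z_mem hT)), h6 (mem_sup_left (h.z_mem hT'))⟩, by
        rw [mul_assoc, ← mul_assoc b, h.comm hd b hb, mul_assoc, b2, ← mul_assoc, d2, h.z2], h.z2,
      fun e => hdK ((mul_mem_cancel_right hb).1 (e ▸ one_mem _)), h.z1,
      fun e => hdK ((mul_mem_cancel_right hb).1 (e ▸ h.zK)), by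
        rw [mul_assoc, h.symm.kc h.fz b hb, ← mul_assoc, h.kc h.fz d hd, mul_assoc]⟩
  exact hne (Sylow.ext (map_injective (L.map f).subtype_injective (by rw [← e1, ← e2, ← h5, h7])))

theorem alt5 : Ab2 (L.map f) ∧ Nonempty (L.map f ≃* alternatingGroup (Fin 5)) := by
  have := h.msimple
  have hna := H14.quasi_not_comm h.mquasi
  obtain ⟨P⟩ : Nonempty (Sylow 2 (L.map f)) := inferInstance
  obtain ⟨T, hT, e⟩ := h.lift P
  obtain ⟨k, a, b, hQ⟩ := h.gq hT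
  obtain ⟨⟨_, x, hx, rfl⟩, h1, ⟨_, y, hy, rfl⟩, h2, x2, y2, x1, y1, xy, xc, yc⟩ := ti_pair hna h.ti P
  have hc : ∀ w : L.map f, w ∈ Cent (P : Subgroup (L.map f)) → ∀ s ∈ T, f s * w = w * f s := fun w hw s hs => by
    obtain ⟨s', hs', e1⟩ := e.le ⟨s, hs, rfl⟩
    exact e1 ▸ congrArg Subtype.val (hw s' hs')
  obtain ⟨-, -, -, -, -, h5⟩ := gq_core hQ f (h.mem_of_map (h.z_mem hT) (e ▸ ⟨_, h1, rfl⟩))
    (h.mem_of_map (h.z_mem hT) (e ▸ ⟨_, h2, rfl⟩)) (congrArg Subtype.val x2) (congrArg Subtype.val y2)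
    (fun e => x1 (Subtype.ext e)) (fun e => y1 (Subtype.ext e)) (fun e => xy (Subtype.ext e)) (hc _ xc) (hc _ yc)
    (fun r _ e => (h.kc e x hx).symm) (fun r _ e => (h.kc e y hy).symm)
  refine alt5_of_ti hna h.ti P x2 y2 x1 y1 xy (yc _ h1) (le_antisymm (fun s hs => ?_) (H48.four_le h1 h2))
  refine (H48.mem_four x2 y2 (yc _ h1)).2 ?_
  exact ((H48.mem_four (congrArg Subtype.val x2) (congrArg Subtype.val y2)
    (congrArg Subtype.val (yc _ h1))).1 (h5 (e.ge ⟨s, hs, rfl⟩))).imp Subtype.ext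
      (Or.imp Subtype.ext (Or.imp Subtype.ext Subtype.ext))

theorem sl25 : Nonempty (L ≃* SL(2, ZMod 5)) := by
  have : Fact (Nat.Prime 5) := ⟨by norm_num⟩
  obtain ⟨e1⟩ := h.alt5.2
  obtain ⟨e2⟩ := Cfsg.Agent.S0253.result (F := ZMod 5) (ZMod.card 5)
  have hk : center L = (f.subgroupMap L).ker := by
    ext x
    rw [MonoidHom.mem_ker, Subtype.ext_iff]
    exact ⟨fun e => (h.ker x).2 ((h.cen x).1 ⟨fun y hy => congrArg Subtype.val (mem_center_iff.1 e ⟨y, hy⟩),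
      h.comm x.2⟩), fun e => mem_center_iff.2 fun y => Subtype.ext (h.kc e y y.2)⟩
  refine (H21.equiv_or_equiv (Γ := SL(2, ZMod 5))
    (H57.sl_commutator_eq_top_of_sq_ne_one (x := (2 : ZMod 5)) (by decide +revert) (by decide +revert))
    (H21.sl2_multCard (by simp) (by simp)) (Or.inr ?_) h.cL.2.1.commutator_eq_top
    ((QuotientGroup.quotientMulEquivOfEq hk).trans ((QuotientGroup.quotientKerEquivOfSurjective _
      (f.subgroupMap_surjective L)).trans (e1.trans e2.symm)))).resolve_left fun e => h.z1 ?_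
  · rw [H57.card_center_sl, Nat.card_zmod]
    exact Nat.prime_two
  · have h1 : (⟨z, h.zL⟩ : L) ∈ center L := mem_center_iff.2 fun y => Subtype.ext (h.kc h.fz y y.2)
    rw [e.1] at h1
    exact congrArg Subtype.val (mem_bot.1 h1)

theorem lay : layer G = L ⊔ K :=
  le_antisymm (H14.layer_le fun _ hJ => (h.u4.comp_cases h.cL h.cK h.ne hJ).elim (· ▸ le_sup_left)
    (· ▸ le_sup_right)) (sup_le (H14.comp_le_layer h.cL) (H14.comp_le_layer h.cK))

theorem sylL (hS : IsSyl 2 S ⊤) : IsSyl 2 (S ⊓ L) L := by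
  have h1 := (hS.inf_of_le_normalizer le_top (top_nrm (layer G) S)).inf_of_le_normalizer
    (H14.comp_le_layer h.cL) (inf_le_right.trans (H14.layer_le_normalizer_comp h.cL))
  rwa [inf_assoc, inf_eq_right.2 (H14.comp_le_layer h.cL)] at h1

theorem inner (hS : IsSyl 2 S ⊤) {s : G} (hs : s ∈ S) : ∃ l ∈ L, l⁻¹ * s ∈ Cent L := by
  have := h.msimple
  obtain ⟨hA, ⟨e5⟩⟩ := h.alt5
  have hT := h.sylL hS
  have hN : L ⊓ Nrm (S ⊓ L) ≤ Nrm S := (nrm_sup inf_le_right (nrm_of_le_cent (inf_le_left.trans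
    (h.comm.trans (cent_anti inf_le_right))))).trans (h.u4.nrm_le hS (sup_le inf_le_left inf_le_left)
      (four_comp h.cL h.cK h.ne hT (h.symm.sylL hS)).2)
  obtain ⟨P, hP⟩ := (hT.map f).exists_sylow
  obtain ⟨hE, h4, ⟨_, d, hd, rfl⟩, hdN, htr⟩ :=
    ((H24.walterA _ (H14.quasi_not_comm h.mquasi) hA).facts H24.jobL2 H24.jobJR').singer P
  have hm : ∀ x : L.map f, x ∈ (P : Subgroup (L.map f)) ↔ (x : H) ∈ (S ⊓ L).map f := fun x => by
    rw [hP, mem_subgroupOf]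
  have hdT : d ∈ Nrm (S ⊓ L) := mem_nrm_of_cj_le (by
    rintro _ ⟨t, ht, rfl⟩
    refine h.mem_of_map (h.z_mem hT) ?_
    simpa using (hm _).1 (conj_mem_of_mem_nrm hdN ((hm ⟨f t, t, ht.2, rfl⟩).2 ⟨t, ht, rfl⟩)))
  have hdS := hN ⟨hd, hdT⟩
  have hdn : d ∉ S ⊓ L := fun e => by
    obtain ⟨x, hx, y, hy, -, -, x1, y1, xy, -⟩ := ti_pair (H14.quasi_not_comm h.mquasi) h.ti P
    obtain ⟨k, e1⟩ := htr x hx y hy x1 y1
    rw [hA.comm_sylow P (pow_mem ((hm _).2 ⟨d, e, rfl⟩) k) hx, mul_inv_cancel_right] at e1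
    exact xy e1
  have hSL : S ≤ Nrm L := fun s hs => by
    refine mem_nrm_iff_cj.2 ((h.u4.comp_cases h.cL h.cK h.ne (H14.comp_map_conj h.cL s)).resolve_right
      fun e => hdn ?_)
    have h1 : s * d⁻¹ * s⁻¹ ∈ K := e ▸ conj_mem_cj.2 (inv_mem hd)
    have h2 : d * (s * d⁻¹ * s⁻¹) ∈ S := by
      simpa only [mul_assoc] using mul_mem (conj_mem_of_mem_nrm hdS hs) (inv_mem hs)
    obtain ⟨k, hk⟩ := hS.isPGroup ⟨_, h2⟩
    have h3 : d ^ 2 ^ k * (s * d⁻¹ * s⁻¹) ^ 2 ^ k = 1 := by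
      rw [← Commute.mul_pow (h.comm hd _ h1).symm]; exact congrArg Subtype.val hk
    have h5 := (h.cen _).1 ⟨h.symm.comm (eq_inv_of_mul_eq_one_left h3 ▸ inv_mem (pow_mem h1 _)),
      h.comm (pow_mem hd (2 ^ k))⟩
    exact hT.le_of_le_normalizer' (H98.isPGroup_zpowers (k := k + 1) (by
      rw [pow_succ, pow_mul, pow_two]
      rcases h5 with e | e
      · rw [e, mul_one]
      · rw [e, h.z2])) (zpowers_le.2 hd) (zpowers_le.2 hdT) (mem_zpowers d)
  have hS' : IsSyl 2 (S.map f) ⊤ := map_top_of_surjective f h.surj ▸ hS.map f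
  have hn : S.map f ≤ Nrm (L.map f) := (map_mono hSL).trans (le_normalizer_map f)
  have hi : S.map f ⊓ L.map f = (S ⊓ L).map f := (hT.map f).eq_of_le hS'.isPGroup.to_inf_left
    (le_inf (map_mono inf_le_left) (map_mono inf_le_right)) inf_le_right
  obtain ⟨x, hx, x2, xc⟩ := H84.exists_central_orderOf_mem hS'.isPGroup
    (inf_le_left : S.map f ⊓ L.map f ≤ _) (nrm_inf le_nrm_self hn) fun e =>
      H51.not_cyclic_syl (H14.quasi_not_solvable h.mquasi) (hT.map f) (hi ▸ e ▸ inferInstance)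
  have h5 := H24.le_sup_cent_alt5 e5 le_rfl le_nrm_self (hS'.of_le hn le_top) (fun u hu y hy => by
    by_cases y1 : y = 1
    · rw [y1, mul_one, one_mul]
    obtain ⟨k, e1⟩ := htr ⟨x, hx.2⟩ ((hm _).2 (hi ▸ hx)) ⟨y, hy.2⟩ ((hm _).2 (hi ▸ hy))
      (fun e => H48.ne_one_of_two x2 (congrArg Subtype.val e)) fun e => y1 (congrArg Subtype.val e)
    have e2 : f d ^ k * x * (f d ^ k)⁻¹ = y := congrArg Subtype.val e1
    have := (xc _ (conj_mem_of_mem_nrm' (pow_mem (le_normalizer_map f ⟨d, hdS, rfl⟩) k) hu)).eq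
    calc y * u = f d ^ k * (x * ((f d ^ k)⁻¹ * u * f d ^ k)) * (f d ^ k)⁻¹ := by rw [← e2]; group
      _ = u * y := by rw [← this, ← e2]; group) (hn ⟨s, hs, rfl⟩)
  obtain ⟨_, ⟨l, hl, rfl⟩, c, hc, e⟩ := H14.mem_sup_of_commutator_eq_bot (commutator_eq_bot_iff'.2 le_rfl) h5
  exact ⟨l, hl, cent_lift h.cL (fun _ => h.kc) (by rwa [map_mul, map_inv, ← e, inv_mul_cancel_left])⟩

theorem le (hS : IsSyl 2 S ⊤) : S ≤ L ⊔ K := fun s hs => by
  obtain ⟨l, hl, h1⟩ := h.inner hS hs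
  obtain ⟨k, hk, h2⟩ := h.symm.inner hS hs
  have h3 : k⁻¹ * (l⁻¹ * s) ∈ L ⊔ K := by
    rcases (h.cen _).1 ⟨mul_mem (h.symm.comm (inv_mem hk)) h1, by
      rw [← mul_assoc, h.comm (inv_mem hl) _ (inv_mem hk), mul_assoc]
      exact mul_mem (h.comm (inv_mem hl)) h2⟩ with e | e
    · exact e ▸ one_mem _
    · exact e ▸ mem_sup_left h.zL
  simpa using mul_mem (mem_sup_left hl) (mul_mem (mem_sup_right hk) h3)

theorem equiv : ∃ (Z : Subgroup (SL(2, ZMod 5) × SL(2, ZMod 5))) (_ : Z.Normal),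
    Z = zpowers ((-1 : SL(2, ZMod 5)), (-1 : SL(2, ZMod 5))) ∧
      Nonempty (↥(L ⊔ K) ≃* (SL(2, ZMod 5) × SL(2, ZMod 5)) ⧸ Z) := by
  obtain ⟨e1⟩ := h.sl25
  obtain ⟨e2⟩ := h.symm.sl25
  let φ := MonoidHom.noncommCoprod (L.subtype.comp e1.symm.toMonoidHom) (K.subtype.comp e2.symm.toMonoidHom)
    fun a b => (h.comm (e1.symm a).2 _ (e2.symm b).2).symm
  have hφ : ∀ a b, φ (a, b) = (e1.symm a : G) * e2.symm b := fun _ _ => rfl
  have n1 : (-1 : SL(2, ZMod 5)) ≠ 1 := by decide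
  have key : ∀ {L K : Subgroup G} (_ : Two L K z f) (e : L ≃* SL(2, ZMod 5)), (e.symm (-1) : G) = z :=
    fun h e => (h.inv_eq (e.symm (-1)).2 (by rw [← coe_mul, ← map_mul]; simp)).resolve_left
      fun e1 => n1 ((map_eq_one_iff _ e.symm.injective).1 (Subtype.ext e1))
  have hr : φ.range = L ⊔ K := by
    refine (MonoidHom.noncommCoprod_range _ _ _).trans ?_
    rw [MonoidHom.range_comp, MonoidHom.range_comp,
      MonoidHom.range_eq_top.2 e1.symm.surjective, MonoidHom.range_eq_top.2 e2.symm.surjective]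
    simp only [← MonoidHom.range_eq_map, range_subtype]
  refine ⟨φ.ker, inferInstance, le_antisymm ?_ (zpowers_le.2 ?_),
    ⟨((QuotientGroup.quotientKerEquivRange φ).trans (MulEquiv.subgroupCongr hr)).symm⟩⟩
  · rintro ⟨a, b⟩ hab
    rw [MonoidHom.mem_ker, hφ] at hab
    rcases (h.cen _).1 ⟨h.symm.comm (eq_inv_of_mul_eq_one_left hab ▸ inv_mem (e2.symm b).2),
      h.comm (e1.symm a).2⟩ with e | e
    · rw [e, one_mul] at hab
      rw [(map_eq_one_iff _ e1.symm.injective).1 (Subtype.ext e),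
        (map_eq_one_iff _ e2.symm.injective).1 (Subtype.ext hab)]
      exact one_mem _
    · rw [e, ← h.z2, mul_right_inj] at hab
      rw [e1.symm.injective (Subtype.ext (e.trans (key h e1).symm)),
        e2.symm.injective (Subtype.ext (hab.trans (key h.symm e2).symm))]
      exact mem_zpowers _
  · rw [MonoidHom.mem_ker, hφ, key h e1, key h.symm e2, h.z2]

end Two

end H55.RkOne
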