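/- Groups in which Sylow `2`-intersections have rank at most one (row S3310). -/
import Cfsg.Agent.H55.RkOne5
import Cfsg.Agent.H84.GWC1
import Cfsg.Agent.H54.Schreier
import Cfsg.Agent.S4208
import Cfsg.Agent.S0014

set_option autoImplicit false
set_option linter.unusedSectionVars false

namespace H55.RkOne

open Cfsg hiding pRank
open Subgroup H46 H10.W H69
open H98 (IsSyl exists_isSyl_le exists_isSyl isSyl_sylow)
open H86 (GQ)
open scoped MatrixGroups

universe u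

variable {G : Type u} [Group G] [Finite G]

theorem aut_solvable {P : Type*} [Group P] [Finite P] (hP : IsPGroup 2 P) {a b : P}
    (h : closure ({a, b} : Set P) = ⊤) : Group.IsSolvable (MulAut P) := by
  classical
  obtain ⟨n, hn⟩ := IsPGroup.iff_card.1 hP
  obtain ⟨r, hr⟩ := hP.index (frattini P)
  have h1 := (Cfsg.Agent.S0014.result 2 r hP hr).2 {a, b} (by simpa using h)
  have h2 : r ≤ 2 := h1.trans Finset.card_le_two
  have h3 := Cfsg.Agent.S4208.result hn hr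
  refine H54.isSolvable_of_index_dvd (⊥ : Subgroup (MulAut P)) inferInstance
    (a := r * (n - r) + 1) (b := 1) ?_
  rw [index_bot, pow_succ, mul_assoc]
  refine h3.trans (Nat.mul_dvd_mul_left _ ?_)
  interval_cases r <;> simp [Finset.prod_range_succ]

theorem U4.not_four_core (h : U4 G) (hns : ¬ Group.IsSolvable G) : ¬ Four (pCore 2 G) := fun e => by
  obtain ⟨S, hS⟩ := exists_isSyl 2 (⊤ : Subgroup G)
  have := solvable_of_le_nrm hS ((top_nrm _ ⊤).trans (h.nrm_le hS (core_le hS) e))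
  exact hns (Group.isSolvable_of_isSolvable_injective (f := (topEquiv (G := G)).symm.toMonoidHom)
    (topEquiv (G := G)).symm.injective)

theorem U4.exists_comp (h : U4 G) (hO : pPrimeCore 2 G = ⊥) (hns : ¬ Group.IsSolvable G) :
    ∃ L : Subgroup G, IsComponent L := by
  by_contra h1
  push Not at h1
  have h2 := le_core hO (U := Cent (pCore 2 G)) (by rw [H14.layer_eq_bot_iff.2 h1]; exact le_cent_symm bot_le) le_rfl
  have hp := H2.pCore_isPGroup 2 G
  obtain ⟨a, b, e⟩ : ∃ a b : G, pCore 2 G = closure {a, b} := by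
    by_cases hc : IsCyclic (pCore 2 G)
    · obtain ⟨a, e⟩ := cyclic_iff_exists_zpowers.1 hc
      exact ⟨a, a, by rw [← e, Set.pair_eq_singleton, zpowers_eq_closure]⟩
    · obtain ⟨k, a, b, hQ⟩ := gq_of_not_four hp (h.not_four_core hns) hc
      exact ⟨a, b, hQ.eq_closure⟩
  have := aut_solvable hp (a := ⟨a, e ▸ subset_closure (by simp)⟩) (b := ⟨b, e ▸ subset_closure (by simp)⟩)
    (map_injective (pCore 2 G).subtype_injective (by
      rw [MonoidHom.map_closure, Set.image_pair, ← MonoidHom.range_eq_map, range_subtype]; exact e.symm))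
  have := hp.isNilpotent
  refine hns (Group.isSolvable_of_ker_le_range (pCore 2 G).subtype
    (MulAut.conjNormal : G →* MulAut (pCore 2 G)) fun g hg => ?_)
  rw [range_subtype]
  refine h2 fun x hx => ?_
  have h3 : g * x * g⁻¹ = x := congrArg Subtype.val (DFunLike.congr_fun hg (⟨x, hx⟩ : pCore 2 G))
  exact (mul_inv_eq_iff_eq_mul.1 h3).symm

theorem U4.odd_le (h : U4 G) {S E O : Subgroup G} (hS : IsSyl 2 S ⊤) (hE : H48.E8 E) (hle : E ≤ S) [O.Normal]
    (hO : Odd (Nat.card O)) : O ≤ Nrm S := by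
  have hc : ∀ A ≤ E, ∀ K ≤ O, (Nat.card A).Coprime (Nat.card K) := fun A hA K hK => by
    obtain ⟨k, hk⟩ := IsPGroup.iff_card.1 (hS.isPGroup.to_le (hA.trans hle))
    exact hk ▸ Nat.Coprime.pow_left k (Nat.coprime_two_left.2 (H82.odd_of_le hO hK))
  have hm : ∀ A ≤ E, IsMulCommutative A := fun A hA => ⟨⟨fun a b => Subtype.ext (hE.1.comm (hA a.2) (hA b.2))⟩⟩
  refine coprime_abelian_gen_cent1 (hm E le_rfl) (fun e => ?_) (top_nrm _ _) (hc E le_rfl O le_rfl)
    fun a ha a1 => ?_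
  · have := hE.1.card_le_two_of_isCyclic e
    have := hE.2
    omega
  obtain ⟨b, hb, b1, ba⟩ := hE.e4.exists_ne a
  obtain ⟨c, hc', hcn⟩ := hE.exists_notMem (H48.card_four (hE.1 a ha) (hE.1 b hb) (hE.1.comm ha hb) a1 b1 ba).le
  have hA := H48.four_le hb hc'
  refine coprime_abelian_gen_cent1 (hm _ hA) (Four.not_cyclic ⟨b, H48.left_mem_four _ _, c,
    H48.right_mem_four _ _, hE.1 b hb, hE.1 c hc', b1, fun e => hcn (e ▸ one_mem _),
    fun e => hcn (e ▸ H48.right_mem_four _ _), hE.1.comm hb hc'⟩)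
    (nrm_inf (top_nrm _ _) (nrm_cent1 (hA.trans (H48.e2_le_cent1 hE.1 ha)))) (hc _ hA _ inf_le_left)
    fun y hy y1 => (nrm_of_le_cent ?_).trans (h.nrm_le hS ((H48.four_le ha (hA hy)).trans hle)
      ⟨a, H48.left_mem_four _ _, y, H48.right_mem_four _ _, hE.1 a ha, hE.1 y (hA hy), a1, y1, fun e => ?_,
        hE.1.comm ha (hA hy)⟩)
  · rw [H48.cent_four]
    exact inf_le_inf_right _ inf_le_right
  · rcases (H48.mem_four (hE.1 b hb) (hE.1 c hc') (hE.1.comm hb hc')).1 (e ▸ hy) with e | e | e | e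
    · exact a1 e
    · exact ba e.symm
    · exact hcn (e ▸ H48.left_mem_four _ _)
    · exact hcn ((mul_mem_cancel_right (H48.right_mem_four a b)).1 (e ▸ H48.left_mem_four _ _))

theorem odd_index {S N : Subgroup G} (hS : IsSyl 2 S ⊤) (h : S ≤ N) : Odd N.index := by
  have h1 := hS.not_dvd_relIndex
  rw [relIndex_top_right] at h1
  exact Nat.not_even_iff_odd.1 fun e => h1 (e.two_dvd.trans (index_dvd_of_le h))

theorem s3310 (hns : ¬ Group.IsSolvable G)
    (hI : ∀ S T : Sylow 2 G, S ≠ T → Cfsg.PRankLE 2 1 ↥((S : Subgroup G) ⊓ (T : Subgroup G)))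
    (hnC : ∃ S T : Sylow 2 (G ⧸ Cfsg.oddCore G), S ≠ T ∧
      ¬ IsCyclic ↥((S : Subgroup (G ⧸ Cfsg.oddCore G)) ⊓ (T : Subgroup (G ⧸ Cfsg.oddCore G))))
    (hnQ : ∀ S : Sylow 2 G, ∀ n : ℕ, IsEmpty (↥(S : Subgroup G) ≃* QuaternionGroup (2 ^ (n + 1)))) :
    (∃ (G₁ : Subgroup G) (_ : G₁.Normal) (_ : ((Cfsg.pCore 2 G ⊔ Cfsg.oddCore G).subgroupOf G₁).Normal),
      Odd G₁.index ∧ Cfsg.pCore 2 G ⊔ Cfsg.oddCore G ≤ G₁ ∧
      (∃ n : ℕ, Nonempty (↥(Cfsg.pCore 2 G) ≃* QuaternionGroup (2 ^ (n + 1)))) ∧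
      H99.BenderGroup (↥G₁ ⧸ (Cfsg.pCore 2 G ⊔ Cfsg.oddCore G).subgroupOf G₁)) ∨
    (∃ (G₁ : Subgroup G) (_ : G₁.Normal) (_ : ((Cfsg.oddCore G).subgroupOf G₁).Normal),
      Odd G₁.index ∧ Cfsg.oddCore G ≤ G₁ ∧
      ∃ (Z : Subgroup (SL(2, ZMod 5) × SL(2, ZMod 5))) (_ : Z.Normal),
        Z = Subgroup.zpowers ((-1 : SL(2, ZMod 5)), (-1 : SL(2, ZMod 5))) ∧
        Nonempty (↥G₁ ⧸ (Cfsg.oddCore G).subgroupOf G₁ ≃* (SL(2, ZMod 5) × SL(2, ZMod 5)) ⧸ Z)) := by
  have hU : U4 G := fun A S T hS hT h1 h2 ⟨a, ha, b, hb, a2, b2, a1, b1, hab, hc⟩ => by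
    obtain ⟨S, rfl⟩ := H98.isSyl_top_iff.1 hS
    obtain ⟨T, rfl⟩ := H98.isSyl_top_iff.1 hT
    by_contra e
    exact hab (H14.eq_of_prank_one (hI S T fun e' => e (by rw [e'])) (H48.orderOf_two a2 a1)
      (H48.orderOf_two b2 b1) ⟨h1 ha, h2 ha⟩ ⟨h1 hb, h2 hb⟩ hc)
  set π := QuotientGroup.mk' (oddCore G) with hπ
  have hs : Function.Surjective π := QuotientGroup.mk'_surjective _
  have hker : ∀ g, π g = 1 ↔ g ∈ oddCore G := fun g => QuotientGroup.eq_one_iff g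
  have hodd := H2.odd_card_oddCore G
  have ho : Odd (Nat.card π.ker) := by rwa [hπ, QuotientGroup.ker_mk']
  have hX := hU.map hs ho
  have hO := H2.pPrimeCore_quotient_pPrimeCore 2 G
  have hnX : ¬ Group.IsSolvable (G ⧸ oddCore G) := fun e =>
    hns (H24.solvable_of_normal _ (H82.sol_of_odd hodd) e)
  have hOle : ∀ N : Subgroup (G ⧸ oddCore G), oddCore G ≤ N.comap π := fun N g hg =>
    mem_comap.2 ((hker g).2 hg ▸ one_mem _)
  obtain ⟨S, hS⟩ := exists_isSyl 2 (⊤ : Subgroup G)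
  have hS' : IsSyl 2 (S.map π) ⊤ := map_top_of_surjective π hs ▸ hS.map π
  obtain ⟨L, hL⟩ := hX.exists_comp hO hnX
  by_cases h2 : ∃ K, IsComponent K ∧ L ≠ K
  · obtain ⟨K, hK, hne⟩ := h2
    obtain ⟨z, h⟩ := exists_two hX hO hL hK hne
    obtain ⟨Z, _, h1, ⟨e⟩⟩ := h.equiv
    have : (L ⊔ K).Normal := h.lay ▸ inferInstance
    exact Or.inr ⟨(L ⊔ K).comap π, inferInstance, inferInstance,
      by rw [index_comap_of_surjective _ hs]; exact odd_index hS' (h.le hS'), hOle _, Z, _, h1,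
      H84.GWC.quot_comap_equiv _ _ e⟩
  push Not at h2
  have hlay : layer (G ⧸ oddCore G) = L := le_antisymm (H14.layer_le fun K hK => (h2 K hK).ge)
    (H14.comp_le_layer hL)
  have : L.Normal := hlay ▸ inferInstance
  have h : One L (QuotientGroup.mk' (Cent L)) := ⟨hX, hO, hL, hlay, fun U hU => by
    obtain ⟨V, hV, -, rfl⟩ := lift_syl hs (P := ⊥) IsPGroup.of_bot hU (by simp)
    refine Four.map (by_contra fun e => ?_) π (eq_one_of_odd_ker ho hV.isPGroup)
    obtain ⟨V, rfl⟩ := H98.isSyl_top_iff.1 hV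
    obtain ⟨k, a, b, hQ⟩ := gq_of_not_four V.isPGroup' e fun e => hns (H24.solvable_of_cyclic V e)
    exact (hnQ V k).false hQ.nonempty_equiv.some, QuotientGroup.mk'_surjective _,
    fun g => QuotientGroup.eq_one_iff g⟩
  set f := QuotientGroup.mk' (Cent L) with hf
  set R := pCore 2 (G ⧸ oddCore G) with hR
  have hc : ¬ IsCyclic R := fun e => by
    obtain ⟨U, V, h3, h4⟩ := hnC
    exact h4 (h.cyc e (isSyl_sylow U) (isSyl_sylow V) fun e => h3 (Sylow.ext e))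
  obtain ⟨E, hE, hES⟩ := h.e8 hc hS'
  have hON : oddCore G ≤ Nrm S := hU.odd_le hS (E := S ⊓ E.comap π) ⟨fun x hx =>
    eq_one_of_odd_ker ho hS.isPGroup _ (mul_mem hx.1 hx.1) (by rw [map_mul]; exact hE.1 _ hx.2),
    hE.2.trans (Nat.card_le_card_of_surjective (fun x : ↥(S ⊓ E.comap π) => (⟨π x, x.2.2⟩ : E)) fun y => by
      obtain ⟨s, hs, e⟩ := hES y.2
      exact ⟨⟨s, hs, mem_comap.2 (e ▸ y.2)⟩, Subtype.ext e⟩)⟩ inf_le_left hodd
  have hsp : ∀ g ∈ R.comap π, ∃ s ∈ S ⊓ R.comap π, s⁻¹ * g ∈ oddCore G := fun g hg => by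
    obtain ⟨s, hs, e⟩ := core_le hS' hg
    exact ⟨s, ⟨hs, mem_comap.2 (e ▸ hg)⟩, (hker _).1 (by rw [map_mul, map_inv, e, inv_mul_cancel])⟩
  have hP : S ⊓ R.comap π ≤ pCore 2 G := H2.le_pCore_of_isSubnormal (H14.subnormal_of_le_normalizer
    (inferInstance : (R.comap π).Normal).isSubnormal inf_le_right fun g hg => by
      obtain ⟨s, hs, e⟩ := hsp g hg
      rw [← mul_inv_cancel_left s g]
      exact mul_mem (le_nrm_self hs) (nrm_inf hON (top_nrm _ _) e)) hS.isPGroup.to_inf_left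
  have hPR : (pCore 2 G).map π ≤ R :=
    have := Normal.map (inferInstance : (pCore 2 G).Normal) π hs
    H2.le_pCore ((H2.pCore_isPGroup 2 G).map π)
  have hY : pCore 2 G ⊔ oddCore G = R.comap π := le_antisymm
    (sup_le (map_le_iff_le_comap.1 hPR) (hOle R)) fun g hg => by
      obtain ⟨s, hs, e⟩ := hsp g hg
      rw [← mul_inv_cancel_left s g]
      exact mul_mem_sup (hP hs) e
  obtain ⟨k, a, b, hQ⟩ := gq_of_not_four (H2.pCore_isPGroup 2 G) (hU.not_four_core hns) fun e => hc (by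
    refine cyclic_of_le (isCyclic_of_surjective _ (π.subgroupMap_surjective (pCore 2 G))) fun x hx => ?_
    obtain ⟨s, hs, rfl⟩ := core_le hS' hx
    exact ⟨s, hP ⟨hs, hx⟩, rfl⟩)
  have hcm := commutator_eq_bot_iff'.2 h.core_cent
  have fR : ∀ r ∈ R, f r = 1 := fun r hr => (h.ker r).2 (h.core_cent hr)
  let ψ : (L ⊔ R).comap π →* L.map f := ((f.comp π).comp ((L ⊔ R).comap π).subtype).codRestrict _ fun g => by
    obtain ⟨l, hl, r, hr, e⟩ := H14.mem_sup_of_commutator_eq_bot hcm g.2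
    exact ⟨l, hl, show f l = f (π g) by rw [← e, map_mul, fR r hr, mul_one]⟩
  have hψ : Function.Surjective ψ := by
    rintro ⟨_, l, hl, rfl⟩
    obtain ⟨g, rfl⟩ := hs l
    exact ⟨⟨g, mem_sup_left hl⟩, rfl⟩
  have hk : (pCore 2 G ⊔ oddCore G).subgroupOf ((L ⊔ R).comap π) = ψ.ker := by
    ext g
    rw [hY, mem_subgroupOf, MonoidHom.mem_ker, Subtype.ext_iff]
    refine ⟨fR _, fun e => ?_⟩
    obtain ⟨l, hl, r, hr, e1⟩ := H14.mem_sup_of_commutator_eq_bot hcm g.2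
    have e2 : f (π g) = 1 := e
    rw [mem_comap, ← e1]
    rw [← e1, map_mul, fR r hr, mul_one] at e2
    exact mul_mem (h.z_le hl e2) hr
  have := h.msimple
  obtain ⟨M, hM⟩ := h.se hc
  refine Or.inl ⟨(L ⊔ R).comap π, inferInstance, inferInstance, ?_, hY ▸ comap_mono le_sup_right,
    ⟨k, hQ.nonempty_equiv⟩, (H99.bender_simple H82.hub hM).of_equiv
      ((QuotientGroup.quotientMulEquivOfEq hk).trans (QuotientGroup.quotientKerEquivOfSurjective ψ hψ))⟩
  rw [index_comap_of_surjective _ hs]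
  refine odd_index hS' fun s hs => ?_
  obtain ⟨t, ht, -, e⟩ := h.split hS' hs
  rw [← mul_inv_cancel_left t s]
  exact mul_mem_sup ht.2 e

end H55.RkOne
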