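import Cfsg.Agent.H44.DP0EPSpec
import Cfsg.Agent.H52.DP3Inv
import Cfsg.Agent.H33.DPSec
import Cfsg.Agent.H33.DPStr
import Cfsg.Agent.H76.DPSA
import Cfsg.Agent.H76.DPLb
import Cfsg.Agent.H45.DP3SB
import Cfsg.Agent.H98.Dp3LT
import Cfsg.Agent.H88.DPN

/-! # S3275, chapter EP: proper subgroups with cyclic Sylow 3-subgroups -/

set_option autoImplicit false

namespace H55.EPST

open Subgroup Cfsg H98 H97 H48.DP H33.DPS H33.DPT
open scoped commutatorElement

universe u

theorem sec {G : Type u} [Group G] [Finite G] (h : Hyp G) {N : Subgroup G} (hN : N ≠ ⊤)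
    (h3 : H48.DP.C3 N) :
    ND (N ⧸ pCore 2 N) ∧ H48.DP.C3 (N ⧸ pCore 2 N) ∧ K168 (N ⧸ pCore 2 N) := by
  have c3 : H48.DP.C3 (N ⧸ pCore 2 N) := c3_surj h3 _ (QuotientGroup.mk'_surjective _)
  refine ⟨fun p hp h3 H K _ => ⟨fun e => ?_⟩, c3, fun H K _ hs hc => ?_⟩
  · obtain ⟨H', -, f, hf⟩ := sect N _ (QuotientGroup.mk'_surjective _) H
      (e.toMonoidHom.comp (QuotientGroup.mk' K)) (e.surjective.comp (QuotientGroup.mk'_surjective K))
    exact (h.nd p hp h3 H' f.ker).false (QuotientGroup.quotientKerEquivOfSurjective f hf)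
  · obtain ⟨H', hH', f, hf⟩ := sect N _ (QuotientGroup.mk'_surjective _) H
      (QuotientGroup.mk' K) (QuotientGroup.mk'_surjective K)
    have e := QuotientGroup.quotientKerEquivOfSurjective f hf
    rcases (H88.DPN.jobKN _ (h.k H' (fun e1 => hN (top_le_iff.1 (e1 ▸ hH'))) f.ker e.isSimpleGroup
      (fun hc' => hc ⟨⟨fun a b => e.symm.injective (by
        rw [map_mul, map_mul]; exact hc'.1.1 _ _)⟩⟩))).2.2.2.1 with k | k
    · rw [← k]; exact Nat.card_congr e.symm.toEquiv
    · exact absurd (rank_of_c3 (c3_surj (c3_of_le (rank_of_c3 h3) hH') _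
        (QuotientGroup.mk'_surjective _))) k

theorem jobST : H44.EP.ST.{u} := by
  intro G _ _ h S N hN h3 hS
  have hInv := H52.DP3Inv.jobInv.{u}
  have hSA := H76.DPS.jobSA.{u}
  have hSB := H45.DPB.jobSB.{u}
  have hLT : JobLT.{u} := H98.DpLT.jobLT H76.DPL.jobLTm
  obtain ⟨k1, k2, k3⟩ := sec h hN h3
  have hπ := QuotientGroup.mk'_surjective (pCore 2 N)
  have hker := QuotientGroup.ker_mk' (pCore 2 N)
  set π := QuotientGroup.mk' (pCore 2 N)
  have hk2 : IsPGroup 2 π.ker := hker.symm ▸ isPGroup_pCore 2 N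
  have hS' := hS.subgroupOf_top
  have hT := hS'.map π
  rw [← MonoidHom.range_eq_map, MonoidHom.range_eq_top.2 hπ] at hT
  have hb := H2.pCore_quotient_pCore 2 N
  by_cases hs : Group.IsSolvable N
  · rcases hSA _ hb (hInv _ k1) k2 (Group.isSolvable_of_surjective hπ) _ hT with
      e | ⟨t, yb, a, e1, e2, e3, e4, e5, e6, e7⟩
    · left
      rw [Subgroup.map_eq_bot_iff, hker, ← pCoreOf_subgroupOf] at e
      have : S = O2 N := le_antisymm (fun s hs => e (x := ⟨s, hS.le hs⟩) hs) hS.pCoreOf_le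
      exact this ▸ self_le_normalizer_pCoreOf N
    · right; left
      obtain ⟨y, k, h1, h2, h3⟩ := exists_lift π hπ hk2 e3
      have hz : zpowers (π y) = zpowers yb :=
        eq_of_le_of_card_ge ((zpowers_le (G := N ⧸ pCore 2 N)).2 (h3 ▸ pow_mem (mem_zpowers _) _))
          (by rw [Nat.card_zpowers, Nat.card_zpowers, h2, e3])
      have := dt_map N.subtype_injective (dt_top π (hker.trans pCoreOf_top.symm) hS' e1 e2 h1 h2
        (hz ▸ e4) (by rw [h3, ← conj_pow, e5, inv_pow]) (hz ▸ e6) (hz ▸ e7))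
      rw [map_subgroupOf_eq_of_le hS.le, map_subtype_top] at this
      exact ⟨_, _, this⟩
  · right; right
    have hs' : ¬ Group.IsSolvable (N ⧸ pCore 2 N) := fun h' => by
      have := (isPGroup_pCore 2 N).isNilpotent
      exact hs (Group.isSolvable_of_ker_le_range (pCore 2 N).subtype π (by simp [hker]))
    obtain ⟨Lb, l1, l2, l3, l4⟩ := hSB _ hb (hInv _ k1) k2 k3 hs'
    have hSL : S ≤ (Lb.comap π).map N.subtype := fun s hs => by
      refine ⟨⟨s, hS.le hs⟩, mem_comap.2 (mem_of_pow_mem_of_coprime (Lb.pow_index_mem _) ?_), rfl⟩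
      obtain ⟨k, hk⟩ := isPGroup_iff_forall.1 hT.isPGroup _ (mem_map_of_mem π (x := ⟨s, hS.le hs⟩) hs)
      exact Nat.Coprime.coprime_dvd_left (orderOf_dvd_of_pow_eq_one hk)
        (Nat.Coprime.pow_left _ (Nat.coprime_two_left.2 l4))
    let e := (equivMapOfInjective (Lb.comap π) N.subtype N.subtype_injective).symm
    let φ := (π.subgroupComap Lb).comp e.toMonoidHom
    have hφ : Function.Surjective φ :=
      (π.subgroupComap_surjective_of_surjective Lb hπ).comp e.surjective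
    have hk : IsPGroup 2 φ.ker := isPGroup_iff_forall.2 fun x hx => by
      obtain ⟨k, hk⟩ := isPGroup_iff_forall.1 hk2 (e x).1 (congrArg Subtype.val hx)
      exact ⟨k, e.injective (Subtype.ext (by rw [map_pow, map_one]; exact hk))⟩
    have f := (QuotientGroup.quotientMulEquivOfEq (ker_eq_pCore φ hφ hk l2 l3)).trans
      (QuotientGroup.quotientKerEquivOfSurjective φ hφ)
    obtain ⟨P, R, hl⟩ := hLT G S _ (hS.of_le hSL (map_subtype_le _)) f.isSimpleGroup
      ((Nat.card_congr f.toEquiv).trans l3)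
    exact ⟨P, R, _, hl, map_subtype_le _, le_normalizer_map_subtype _⟩

end H55.EPST
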