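import Cfsg.Agent.H73.GSSpec
import Cfsg.Agent.H14.FStar
import Cfsg.Agent.H2.Fitting
import Cfsg.Agent.H98.Core
import Cfsg.Agent.H48.DP3Kit

/-! # S3275, chapter C4 part II, slot NF -/

set_option autoImplicit false
set_option linter.unusedSectionVars false

namespace H55.GSNF

open Subgroup Cfsg H98 H48.DP H57.DPC H48.DP2 H98.DP0C H73.GS
open scoped commutatorElement

universe u

variable {X : Type u} [Group X] [Finite X]

theorem zp_symm {a b : X} (ha : orderOf a = 3) (hb : orderOf b = 3) (h : a ∈ zpowers b) :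
    b ∈ zpowers a := by
  have e : zpowers a = zpowers b := eq_of_le_of_card_ge ((zpowers_le (G := X)).2 h)
    (by rw [Nat.card_zpowers, Nat.card_zpowers, ha, hb])
  rw [e]; exact mem_zpowers b

theorem ord_cj (g a : X) : orderOf (g * a * g⁻¹) = orderOf a :=
  orderOf_injective (MulAut.conj g).toMonoidHom (MulAut.conj g).injective a

theorem zp_cj {g a b : X} (h : a ∈ zpowers b) : g * a * g⁻¹ ∈ zpowers (g * b * g⁻¹) := by
  obtain ⟨n, rfl⟩ := mem_zpowers_iff.1 h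
  exact mem_zpowers_iff.2 ⟨n, by rw [conj_zpow]⟩

theorem n33 (hF : F33.{u}) : N33.{u} := by
  intro X _ _ N K x hS hK hx
  have : Fact (Nat.Prime 3) := ⟨Nat.prime_three⟩
  obtain ⟨D, c, v, w, hD, c3, cD, Dc, hZ, vK, vD, vn, wD, hgen⟩ := hF X K hK
  obtain ⟨h, hh, h1, h2⟩ : ∃ h ∈ K, h * x * h⁻¹ ∈ D ∧ h * x * h⁻¹ ∉ zpowers c := by
    obtain ⟨g, hg, e⟩ := hD.exists_cj_le (isPGroup_zpowers (k := 1) (x := x)
      (by simpa using pow_three_of hS.x3)) ((zpowers_le (G := X)).2 hx)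
    have e1 : g * x * g⁻¹ ∈ D := e (conj_mem_cj (mem_zpowers x))
    by_cases e2 : g * x * g⁻¹ ∈ zpowers c
    · have e3 : v * g * x * (v * g)⁻¹ = v * (g * x * g⁻¹) * v⁻¹ := by group
      refine ⟨v * g, mul_mem vK hg, ?_, fun e4 => vn ?_⟩
      · rw [e3]; exact (zpowers_le (G := X)).2 vD (zp_cj e2)
      · rw [e3] at e4
        exact (zpowers_le (G := X)).2 e4 (zp_cj (zp_symm (by rw [ord_cj, hS.x3]) c3 e2))
    · exact ⟨g, hg, e1, e2⟩
  have hxD : x ∈ cj h⁻¹ D := mem_cj.2 (by rwa [inv_inv])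
  have hDc : cj h⁻¹ D ≤ C1 (h⁻¹ * c * h⁻¹⁻¹) := fun y hy => mem_C1.2 (by
    have := mem_C1.1 (Dc (mem_cj.1 hy))
    calc h⁻¹ * c * h⁻¹⁻¹ * y = h⁻¹ * (c * (h⁻¹⁻¹ * y * h⁻¹)) * h := by group
      _ = _ := by rw [this]; group)
  have hD3 : IsPGroup 3 (cj h⁻¹ D) := isPGroup_cj _ hD.isPGroup
  rcases hS.alt (h⁻¹ * c * h⁻¹⁻¹) (by rw [ord_cj, c3]) (mem_C1.1 (hDc hxD)) (fun e => h2 (by
    have := zp_cj (g := h) (zp_symm (by rw [ord_cj, c3]) hS.x3 e)
    rwa [show h * (h⁻¹ * c * h⁻¹⁻¹) * h⁻¹ = c by group] at this)) with ⟨g1, g2⟩ | ⟨-, b⟩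
  · have hDN := g1 _ hD3 hxD
    have key : ∀ t : X, t * c * t⁻¹ ∈ D → t ∈ cj h N := fun t ht => mem_cj.2 (g2 _ (hDN (by
      have := conj_mem_cj (g := h⁻¹) ht
      convert this using 1
      group)))
    intro k hk
    have := (sup_le (sup_le (cj_le_iff.1 hDN |>.trans (by rw [inv_inv])) ((zpowers_le (G := X)).2 (key v vD)))
      ((zpowers_le (G := X)).2 (key w wD)) : D ⊔ zpowers v ⊔ zpowers w ≤ cj h N)
      (hgen (mul_mem (mul_mem hh hk) (inv_mem hh)))
    exact conj_mem_cj_iff.1 this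
  · refine absurd (hZ _ h1 fun d hd => mem_C1.2 ?_) h2
    have := mem_C1.1 (b _ hD3 hxD hDc (conj_mem_cj (g := h⁻¹) hd))
    calc h * x * h⁻¹ * d = h * (x * (h⁻¹ * d * h⁻¹⁻¹)) * h⁻¹ := by group
      _ = _ := by rw [this]; group

theorem fx : FX.{u} := by
  intro X _ _ x s hS x3 s2 sx h3 hK
  have : Fact (Nat.Prime 3) := ⟨Nat.prime_three⟩
  have hx : IsPGroup 3 (zpowers x) := isPGroup_zpowers (k := 1) (by simpa using pow_three_of x3)
  have hF : zpowers x ≤ fittingSubgroup X := by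
    refine H14.le_fitting_of_commutator_fstar (commutator_eq_bot_iff_le_centralizer.2
      (le_centralizer_iff.2 (sSup_le fun L hL => le_centralizer_iff.1 ((zpowers_le (G := X)).2
        (hK L ⟨le_top, hL.1.comap _, H14.quasi_of_mulEquiv hL.2 (subgroupOfEquivOfLe le_top).symm⟩)))))
      (commutator_eq_bot_iff_le_centralizer.2 (le_centralizer_iff.2 ?_))
    rw [H2.fitting_eq_iSup_pCore]
    refine iSup_le fun p => le_centralizer_iff.1 ((zpowers_le (G := X)).2 ?_)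
    obtain ⟨p, pp⟩ := p
    change x ∈ Ce (pCore p X)
    rw [← pCoreOf_top]
    rcases (show p = 2 ∨ p = 3 ∨ 3 < p by have := pp.two_le; omega) with rfl | rfl | h
    · rw [show pCoreOf 2 (⊤ : Subgroup X) = ⊥ from hS.o2]
      exact fun n hn => by rw [mem_bot.1 hn, one_mul, mul_one]
    · exact h3
    · have h1 : s ∈ Ce (pCoreOf p ⊤) := hS.nd.inv p pp h _ _ s2 (isPGroup_pCoreOf ⊤)
        (le_normalizer_pCoreOf_of_le le_top) (mem_zpowers s)
      have h2 : x * s * x⁻¹ ∈ Ce (pCoreOf p ⊤) := conj_mem_of_mem_normalizer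
        (le_normalizer_centralizer (self_le_normalizer_pCoreOf ⊤) (mem_top x)) h1
      have e : x = (x * s * x⁻¹ * s⁻¹) * (x * s * x⁻¹ * s⁻¹) := by
        have e1 : x * s * x⁻¹ * s⁻¹ = x * x := by
          calc x * s * x⁻¹ * s⁻¹ = x * (s * x * s⁻¹)⁻¹ := by group
            _ = x * x := by rw [sx, inv_inv]
        rw [e1]
        calc x = x ^ 3 * x := by rw [pow_three_of x3, one_mul]
          _ = _ := by rw [pow_succ, pow_two]; group
      rw [e]
      exact mul_mem (mul_mem h2 (inv_mem h1)) (mul_mem h2 (inv_mem h1))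
  rw [pCoreOf_top]
  exact H2.le_pCore_of_le_fitting hx hF (mem_zpowers x)

theorem jobNF : H73.GS.JobNF.{u} := ⟨n33, fx⟩

end H55.GSNF
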