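/- Parrott's characterisation: the basic consequences `BH` of the hypothesis. -/
import Cfsg.Agent.H55.OcA
import Cfsg.Agent.H2.PrimeCore

set_option autoImplicit false
set_option linter.unusedSectionVars false
set_option linter.unusedVariables false
set_option linter.unusedSimpArgs false

namespace H55.Oc
open H63.Oc Subgroup

universe u v

section Abstract
variable {G : Type*} [Group G] [Finite G]

theorem odd_card_of_pow {M : ℕ} (hM : Odd M) (h : ∀ x : G, x ^ M = 1) : Odd (Nat.card G) := by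
  by_contra hc
  rw [Nat.not_odd_iff_even, even_iff_two_dvd] at hc
  obtain ⟨x, hx⟩ := exists_prime_orderOf_dvd_card' 2 hc
  have := orderOf_dvd_of_pow_eq_one (h x)
  rw [hx] at this
  exact (Nat.not_even_iff_odd.2 hM) (even_iff_two_dvd.2 this)

theorem exists_odd_pow {C : Subgroup G} (hC : Odd C.index) :
    ∃ M, Odd M ∧ ∀ g ∈ normalizer (C : Set G), g ^ M ∈ C := by
  refine ⟨C.relIndex (normalizer (C : Set G)), ?_, fun g hg => ?_⟩
  · exact Odd.of_dvd_nat hC (Dvd.intro _ (relIndex_mul_index le_normalizer))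
  · exact pow_index_mem (C.subgroupOf (normalizer (C : Set G))) ⟨g, hg⟩

theorem mem_of_pow_two_pow {C : Subgroup G} (hC : Odd C.index) {g : G}
    (hg : g ∈ normalizer (C : Set G)) {k : ℕ} (hk : g ^ 2 ^ k ∈ C) : g ∈ C := by
  obtain ⟨M, hM, h⟩ := exists_odd_pow hC
  have hco : Nat.Coprime (2 ^ k) M := Nat.Coprime.pow_left _ (Nat.coprime_two_left.2 hM)
  have e : (1 : ℤ) = (2 ^ k : ℕ) * Nat.gcdA (2 ^ k) M + M * Nat.gcdB (2 ^ k) M := by
    rw [← Nat.gcd_eq_gcd_ab, hco.gcd_eq_one]; rfl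
  have : g = (g ^ 2 ^ k) ^ Nat.gcdA (2 ^ k) M * (g ^ M) ^ Nat.gcdB (2 ^ k) M := by
    rw [← zpow_natCast, ← zpow_natCast, ← zpow_mul, ← zpow_mul, ← zpow_add, ← e, zpow_one]
  rw [this]
  exact mul_mem (zpow_mem hk _) (zpow_mem (h g hg) _)

theorem conj_le_of_odd {C : Subgroup G} (hC : Odd C.index) (P : Subgroup G) (hP : IsPGroup 2 P) :
    ∃ g : G, ∃ P' : Subgroup G, P' ≤ C ∧ IsPGroup 2 P' ∧ ∀ x ∈ P, g * x * g⁻¹ ∈ P' := by
  obtain ⟨P0⟩ : Nonempty (Sylow 2 C) := inferInstance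
  have h1 : IsPGroup 2 ((P0 : Subgroup C).map C.subtype) := P0.isPGroup'.map _
  have h2 : ¬ 2 ∣ ((P0 : Subgroup C).map C.subtype).index := by
    rw [index_map_subtype]
    intro h
    rcases (Nat.prime_two.dvd_mul).1 h with h | h
    · exact P0.not_dvd_index h
    · exact (Nat.not_even_iff_odd.2 hC) (even_iff_two_dvd.2 h)
  obtain ⟨Q, hQ⟩ := hP.exists_le_sylow
  obtain ⟨g, hg⟩ := MulAction.exists_smul_eq G Q (h1.toSylow h2)
  refine ⟨g, _, map_subtype_le _, h1, fun x hx => ?_⟩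
  have : g * x * g⁻¹ ∈ g • Q := by
    rw [Sylow.smul_def]
    exact smul_mem_pointwise_smul x (MulAut.conj g) _ (hQ hx)
  rw [hg] at this
  exact this

/-- a normal subgroup of a group without odd core which has odd exponent modulo a central
elementary abelian subgroup -/
theorem sq_eq_one_of_core {X H : Subgroup G} (hX : X ≤ H) (hn : ∀ c ∈ H, ∀ x ∈ X, c * x * c⁻¹ ∈ X)
    {M : ℕ} (hM : Odd M) (h1 : ∀ x ∈ X, (x ^ M) ^ 2 = 1) (h2 : ∀ x ∈ X, ∀ y ∈ X, y * x ^ M = x ^ M * y)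
    (hc : Cfsg.oddCore H = ⊥) : ∀ x ∈ X, x ^ 2 = 1 := by
  have hn1 : Odd (center X).index := by
    refine odd_card_of_pow (G := X ⧸ center X) hM fun x => ?_
    induction x using QuotientGroup.induction_on with
    | H x =>
      rw [← QuotientGroup.mk_pow, QuotientGroup.eq_one_iff, mem_center_iff]
      exact fun y => Subtype.ext (h2 x x.2 y y.2)
  have hmul : ∀ x ∈ X, ∀ y ∈ X, x ^ M = 1 → y ^ M = 1 → (x * y) ^ M = 1 := by
    intro x hx y hy ex ey
    set n := (center X).index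
    have e := congrArg (fun t : center X => ((t : X) : G))
      (map_mul (MonoidHom.transferCenterPow X) ⟨x, hx⟩ ⟨y, hy⟩)
    have e' : (x * y) ^ n = x ^ n * y ^ n := e
    have hc : Commute (x ^ n) (y ^ n) := by
      have := mem_center_iff.1 (pow_index_mem (center X) ⟨y, hy⟩) (⟨x, hx⟩ ^ n)
      exact congrArg Subtype.val this
    have e2 : ((x * y) ^ M) ^ n = 1 := by
      rw [← pow_mul, mul_comm M, pow_mul, e', hc.mul_pow, ← pow_mul, ← pow_mul, mul_comm n, pow_mul,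
        pow_mul, ex, ey, one_pow, mul_one]
    obtain ⟨k, hk⟩ := hn1
    rw [hk, pow_succ, pow_mul, h1 _ (mul_mem hx hy), one_pow, one_mul] at e2
    exact e2
  let Y : Subgroup H :=
    { carrier := {x | x.1 ∈ X ∧ x.1 ^ M = 1}
      one_mem' := ⟨one_mem _, one_pow _⟩
      mul_mem' := fun {a b} ha hb => ⟨mul_mem ha.1 hb.1, hmul _ ha.1 _ hb.1 ha.2 hb.2⟩
      inv_mem' := fun {a} ha => ⟨inv_mem ha.1, by
        show (a.1⁻¹) ^ M = 1
        rw [inv_pow, ha.2, inv_one]⟩ }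
  haveI : Y.Normal := ⟨fun a ha g => ⟨hn g g.2 a ha.1, by
    show (g.1 * a.1 * g.1⁻¹) ^ M = 1
    rw [conj_pow, ha.2, mul_one, mul_inv_cancel]⟩⟩
  have hY : Y ≤ Cfsg.oddCore H :=
    H2.le_oddCore (odd_card_of_pow hM fun y => Subtype.ext (Subtype.ext y.2.2))
  intro x hx
  have : (⟨x ^ 2, hX (pow_mem hx 2)⟩ : H) ∈ Y :=
    ⟨pow_mem hx 2, by
      show (x ^ 2) ^ M = 1
      rw [← pow_mul, mul_comm, pow_mul, h1 x hx]⟩
  have := hY this
  rw [hc, mem_bot] at this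
  exact congrArg Subtype.val this

end Abstract

variable {K : Type*} [Field K] [Finite K] [CharP K 2] {T : TF K} {G : Type*} [Group G] [Finite G]
  {D : CS T G}

/-- conjugation by `g` maps the image of `X` into the image of `Y` -/
def Mp (D : CS T G) (g : G) (X Y : Subgroup (Co T)) : Prop :=
  ∀ c ∈ X, ∃ c' ∈ Y, g * D.ι c * g⁻¹ = D.ι c'

theorem mp_of_nor {g : G} {X : Subgroup (Co T)} (h : g ∈ normalizer (D.im X : Set G)) : Mp D g X X := by
  intro c hc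
  obtain ⟨c', hc', e⟩ := (mem_normalizer_iff.1 h (D.ι c)).1 ⟨c, hc, rfl⟩
  exact ⟨c', hc', e.symm⟩

theorem nor_of_mp {g : G} {X : Subgroup (Co T)} (h : Mp D g X X) : g ∈ normalizer (D.im X : Set G) := by
  refine mem_normalizer_fintype ?_
  rintro _ ⟨c, hc, rfl⟩
  obtain ⟨c', hc', e⟩ := h c hc
  exact ⟨c', hc', e.symm⟩

theorem im_top : D.im ⊤ = D.S := (MonoidHom.range_eq_map _).symm

theorem mp_bot (g : G) : Mp D g ⊥ ⊥ := by
  intro c hc
  rw [mem_bot] at hc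
  exact ⟨1, one_mem _, by simp [hc]⟩

theorem nor_bot (g : G) : g ∈ normalizer (D.im ⊥ : Set G) := nor_of_mp (mp_bot g)

theorem nor_of_cm {g : G} {P' P X Y : Subgroup (Co T)} (hP' : g ∈ normalizer (D.im P' : Set G))
    (hP : g ∈ normalizer (D.im P : Set G)) (hX : g ∈ normalizer (D.im X : Set G))
    (hY : ∀ c, c ∈ Y ↔ c ∈ P' ∧ Cm P X c) : g ∈ normalizer (D.im Y : Set G) := by
  refine nor_of_mp fun c hc => ?_
  obtain ⟨h1, h2⟩ := (hY c).1 hc
  obtain ⟨c', hc', e⟩ := mp_of_nor hP' c h1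
  refine ⟨c', (hY c').2 ⟨hc', fun d' hd' => ?_⟩, e⟩
  obtain ⟨d, hd, f⟩ := mp_of_nor (inv_mem hP) d' hd'
  obtain ⟨x, hx, k⟩ := h2 d hd
  obtain ⟨x', hx', l⟩ := mp_of_nor hX x hx
  refine ⟨x', hx', D.inj ?_⟩
  have f' : D.ι d' = g * D.ι d * g⁻¹ := by rw [← f]; group
  rw [map_mul, map_mul, map_mul, ← e, ← l, f']
  have := congrArg D.ι k
  rw [map_mul, map_mul, map_mul] at this
  calc g * D.ι c * g⁻¹ * (g * D.ι d * g⁻¹) = g * (D.ι c * D.ι d) * g⁻¹ := by group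
    _ = _ := by rw [this]; group

theorem nor_of_cm_top {g : G} {P X Y : Subgroup (Co T)} (hS : g ∈ normalizer (D.S : Set G))
    (hP : g ∈ normalizer (D.im P : Set G)) (hX : g ∈ normalizer (D.im X : Set G))
    (hY : ∀ c, c ∈ Y ↔ Cm P X c) : g ∈ normalizer (D.im Y : Set G) :=
  nor_of_cm (P' := ⊤) (by rwa [im_top]) hP hX fun c => by simp [hY]

theorem ι_pow (c : Co T) : ∃ k : ℕ, D.ι c ^ 2 ^ k = 1 := by
  obtain ⟨k, hk⟩ := pgroup_Co (T := T) c
  exact ⟨k, by rw [← map_pow, hk, map_one]⟩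

theorem x4_mem (t : K) : x4 T t ∈ sZ T := by simp [mem_sZ, x4]

theorem eq_x4 {c : Co T} (hc : c ∈ sZ T) : c = x4 T c.a4 := by
  obtain ⟨a1, b2, a2, a3, b4, a5, b6, a6, a7, b8, a8⟩ := hc
  ext <;> simp [x4, *]

theorem cenZ' (bc : BC D) {g z : G} (hg : g ∈ D.C) (hz : z ∈ D.im (sZ T)) : g * z = z * g := by
  obtain ⟨c, hc, rfl⟩ := hz
  rw [eq_x4 hc]
  exact bc.cenZ g hg _

theorem τ_mem : D.τ ∈ D.im (sZ T) := ⟨_, x4_mem 1, rfl⟩

theorem Z_sq {z : G} (hz : z ∈ D.im (sZ T)) : z * z = 1 := by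
  obtain ⟨c, hc, rfl⟩ := hz
  rw [← map_mul, eq_x4 hc, ← map_one D.ι]
  congr 1
  ext <;> simp [x4]
  exact CharTwo.add_self_eq_zero _

theorem bh_two (hy : Hy D) {g : G} (hg : g ∈ normalizer (D.C : Set G)) (h : ∃ k : ℕ, g ^ 2 ^ k = 1) :
    g ∈ D.C := by
  obtain ⟨k, hk⟩ := h
  exact mem_of_pow_two_pow hy.odd hg (k := k) (by rw [hk]; exact one_mem _)

theorem bh_nz (bc : BC D) (hy : Hy D) {g : G} (h : g * D.τ * g⁻¹ ∈ D.im (sZ T)) :
    g ∈ normalizer (D.C : Set G) := by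
  have key : ∀ x ∈ D.C, (∃ k : ℕ, x ^ 2 ^ k = 1) → g⁻¹ * x * g⁻¹⁻¹ ∈ D.C := by
    rintro x hx ⟨k, hk⟩
    refine bh_two hy (hy.nrm _ ?_) ⟨k, by rw [conj_pow, hk]; simp⟩
    have := cenZ' bc hx h
    calc g⁻¹ * x * g⁻¹⁻¹ * D.τ = g⁻¹ * (x * (g * D.τ * g⁻¹)) * g := by group
      _ = _ := by rw [this]; group
  have : g⁻¹ ∈ normalizer (D.C : Set G) := by
    refine mem_normalizer_fintype fun x hx => ?_
    have hle : D.C ≤ D.C.comap (MulAut.conj g⁻¹).toMonoidHom := by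
      conv_lhs => rw [bc.gen]
      rw [closure_le]
      rintro _ (⟨c, rfl⟩ | rfl)
      · exact key _ (D.ι_mem c) (ι_pow c)
      · exact key _ D.n8_mem ⟨1, by rw [pow_one, pow_two, D.n8_sq]⟩
    exact hle hx
  simpa using inv_mem this

theorem bh_nC (bc : BC D) {X : Subgroup (Co T)} (hX : X ∈ [sZ T, sV T, sR T, sQ T]) :
    normalizer (D.C : Set G) ≤ normalizer (D.im X : Set G) := by
  intro g hg
  refine nor_of_mp fun c hc => ?_
  obtain ⟨c', hc', e⟩ := bc.aut (D.C.normalizerMonoidHom ⟨g, hg⟩) X hX c hc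
  exact ⟨c', hc', congrArg Subtype.val e⟩

theorem bh_nZ (bc : BC D) (hy : Hy D) :
    normalizer (D.im (sZ T) : Set G) = normalizer (D.C : Set G) :=
  le_antisymm (fun g hg => bh_nz bc hy ((mem_normalizer_iff.1 hg _).1 τ_mem)) (bh_nC bc (by simp))

theorem nS_Z {g : G} (hg : g ∈ normalizer (D.S : Set G)) : g ∈ normalizer (D.im (sZ T) : Set G) :=
  nor_of_cm_top hg (by rwa [im_top]) (nor_bot g) Z_iff

theorem nS_W {g : G} (hg : g ∈ normalizer (D.S : Set G)) : g ∈ normalizer (D.im (sW T) : Set G) :=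
  nor_of_cm_top hg (by rwa [im_top]) (nS_Z hg) W_iff

theorem nS_A {g : G} (hg : g ∈ normalizer (D.S : Set G)) : g ∈ normalizer (D.im (sA T) : Set G) :=
  nor_of_cm_top hg (by rwa [im_top]) (nS_W hg) A_iff

theorem nS_V0 {g : G} (hg : g ∈ normalizer (D.S : Set G)) : g ∈ normalizer (D.im (sV0 T) : Set G) :=
  nor_of_cm_top hg (by rwa [im_top]) (nS_A hg) V0_iff

theorem nS_Q1 {g : G} (hg : g ∈ normalizer (D.S : Set G)) : g ∈ normalizer (D.im (sQ1 T) : Set G) :=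
  nor_of_cm_top hg (nS_W hg) (nor_bot g) Q1_iff

theorem nQ1_W {g : G} (hg : g ∈ normalizer (D.im (sQ1 T) : Set G)) :
    g ∈ normalizer (D.im (sW T) : Set G) := nor_of_cm hg hg (nor_bot g) W_iff1

theorem nQ1_A {g : G} (hg : g ∈ normalizer (D.im (sQ1 T) : Set G)) :
    g ∈ normalizer (D.im (sA T) : Set G) := nor_of_cm hg hg (nQ1_W hg) A_iff1

theorem nQ1_A7 {g : G} (hg : g ∈ normalizer (D.im (sQ1 T) : Set G)) :
    g ∈ normalizer (D.im (sA7 T) : Set G) := nor_of_cm hg hg (nQ1_A hg) A7_iff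

theorem pgroup_S : IsPGroup 2 D.S := by
  rw [← im_top]
  exact (IsPGroup.of_injective pgroup_Co (⊤ : Subgroup (Co T)).subtype (subtype_injective _)).map _

theorem bh_frat (bc : BC D) {g : G} (hg : g ∈ normalizer (D.C : Set G)) :
    ∃ c ∈ D.C, c * g ∈ normalizer (D.S : Set G) := by
  obtain ⟨c, hc, h⟩ := bc.syl (D.S.map (MulAut.conj g).toMonoidHom) (by
    rintro _ ⟨_, ⟨x, rfl⟩, rfl⟩
    exact (mem_normalizer_iff.1 hg _).1 (D.ι_mem x)) (pgroup_S.map _)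
  refine ⟨c, hc, mem_normalizer_fintype fun x hx => ?_⟩
  have := h _ ⟨x, hx, rfl⟩
  have e : c * g * x * (c * g)⁻¹ = c * (MulAut.conj g).toMonoidHom x * c⁻¹ := by
    simp only [MulEquiv.coe_toMonoidHom, MulAut.conj_apply]; group
  rw [e]; exact this

theorem h0_nS (p : T0 T) : D.h0 p ∈ normalizer (D.S : Set G) := by
  refine mem_normalizer_fintype ?_
  rintro _ ⟨c, rfl⟩
  exact ⟨_, (D.h0_conj p c).symm⟩

theorem bh_nZW (bc : BC D) (ty : TY D) (hy : Hy D) {g : G} (h1 : g ∈ normalizer (D.im (sZ T) : Set G))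
    (h2 : g ∈ normalizer (D.im (sW T) : Set G)) : g ∈ normalizer (D.S : Set G) := by
  rw [bh_nZ bc hy] at h1
  obtain ⟨c, hc, hn⟩ := bh_frat bc h1
  have hcW : c ∈ normalizer (D.im (sW T) : Set G) := by
    have := mul_mem (nS_W hn) (inv_mem h2)
    rwa [mul_inv_cancel_right] at this
  have h6 : x6 T 1 ∈ sW T := by simp [mem_sW, x6]
  obtain ⟨s, p, e⟩ := ty.nW c hc (x6 T 1) h6 (by simp [mem_sZ, x6])
    ((mem_normalizer_iff.1 hcW _).1 ⟨_, h6, rfl⟩)
  have hcS : c ∈ normalizer (D.S : Set G) := by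
    rw [e]
    exact mul_mem (le_normalizer (H := D.S) ⟨s, rfl⟩) (h0_nS p)
  have := mul_mem (inv_mem hcS) hn
  rwa [inv_mul_cancel_left] at this

theorem bh_cenQ (bc : BC D) (hy : Hy D) {g : G} (hg : ∀ c ∈ sQ T, g * D.ι c = D.ι c * g) :
    g ∈ D.im (sZ T) := by
  obtain ⟨M, hM, hpow⟩ := exists_odd_pow hy.odd
  have hZQ : sZ T ≤ sQ T := fun c h => by simp_all [mem_sZ, mem_sQ]
  have hτ : D.τ ∈ D.im (sQ T) := map_mono hZQ τ_mem
  set X := centralizer (D.im (sQ T) : Set G) with hXdef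
  have hXH : X ≤ centralizer ({D.τ} : Set G) := centralizer_le (Set.singleton_subset_iff.2 hτ)
  have hH : centralizer ({D.τ} : Set G) ≤ normalizer (D.C : Set G) := fun x hx =>
    hy.nrm x (mem_centralizer_singleton_iff.1 hx)
  have hXC : ∀ x ∈ X, x ∈ D.C → x ∈ D.im (sZ T) := fun x hx hxC =>
    bc.cenQ x hxC fun c hc => (mem_centralizer_iff.1 hx _ ⟨c, hc, rfl⟩).symm
  have hZ : ∀ x ∈ X, x ^ M ∈ D.im (sZ T) := fun x hx => hXC _ (pow_mem hx M) (hpow x (hH (hXH hx)))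
  have hgX : g ∈ X := by
    rw [hXdef, mem_centralizer_iff]
    rintro _ ⟨c, hc, rfl⟩
    exact (hg c hc).symm
  have key := sq_eq_one_of_core hXH (fun c hc x hx => by
      have hcQ := bh_nC bc (X := sQ T) (by simp) (hH hc)
      rw [hXdef, mem_centralizer_iff] at hx ⊢
      intro y hy'
      have := hx _ ((mem_normalizer_iff''.1 hcQ y).1 hy')
      calc y * (c * x * c⁻¹) = c * (c⁻¹ * y * c * x) * c⁻¹ := by group
        _ = _ := by rw [this]; group) hM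
    (fun x hx => by rw [pow_two]; exact Z_sq (hZ x hx))
    (fun x hx y hy' => (mem_centralizer_iff.1 hy' _ (map_mono hZQ (hZ x hx))).symm) hy.core g hgX
  exact hXC g hgX (bh_two hy (hH (hXH hgX)) ⟨1, by rw [pow_one, key]⟩)

theorem bh_of (bc : BC D) (ty : TY D) (hy : Hy D) : BH D where
  syl := fun P hP => by
    obtain ⟨g, P', h1, h2, h3⟩ := conj_le_of_odd hy.odd P hP
    obtain ⟨c, -, h4⟩ := bc.syl P' h1 h2
    refine ⟨c * g, fun x hx => ?_⟩
    have := h4 _ (h3 x hx)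
    have e : c * g * x * (c * g)⁻¹ = c * (g * x * g⁻¹) * c⁻¹ := by group
    rwa [e]
  two := fun g hg h => bh_two hy hg h
  sq := fun g hg h => mem_of_pow_two_pow hy.odd hg (k := 1) (by rwa [pow_one, pow_two])
  nz := fun g h => bh_nz bc hy h
  nZ := bh_nZ bc hy
  nC := fun X hX => bh_nC bc (List.mem_cons_of_mem _ hX)
  nS := fun X hX g hg => by
    simp only [List.mem_cons, List.not_mem_nil, or_false] at hX
    rcases hX with rfl | rfl | rfl | rfl | rfl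
    exacts [nS_Z hg, nS_W hg, nS_A hg, nS_V0 hg, nS_Q1 hg]
  nQ1 := fun X hX g hg => by
    simp only [List.mem_cons, List.not_mem_nil, or_false] at hX
    rcases hX with rfl | rfl | rfl
    exacts [nQ1_W hg, nQ1_A hg, nQ1_A7 hg]
  frat := fun g hg => bh_frat bc hg
  nZW := fun g h1 h2 => bh_nZW bc ty hy h1 h2
  cenQ := fun g hg => bh_cenQ bc hy hg

theorem jobBH : JobBH.{u, v} := fun _ _ _ _ _ _ _ _ _ bc ty hy => bh_of bc ty hy

end H55.Oc
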