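/- Parrott's characterisation: fusion of the involution `τ`. -/
import Cfsg.Agent.H55.OcB

set_option autoImplicit false
set_option linter.unusedSectionVars false
set_option linter.unusedVariables false
set_option linter.unusedSimpArgs false

namespace H55.Oc
open H63.Oc Subgroup

universe u v

variable {K : Type*} [Field K] [Finite K] [CharP K 2] {T : TF K} {G : Type*} [Group G] [Finite G]
  {D : CS T G}

/-- the representatives of the non-central involutions of `C` with their centralizers -/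
def Ty (r : Co T) (P : Subgroup (Co T)) : Prop :=
  (r = x6 T 1 ∧ P = sQ1 T) ∨ (r = x5 T 1 ∧ P = sT5 T) ∨ (r = x7 T 1 ∧ P = sT7 T) ∨
    ∃ v, r = x4 T v * x8 T 1 ∧ P = sT8 T

theorem ty_cen (ty : TY D) {r : Co T} {P : Subgroup (Co T)} (h : Ty r P) {g : G} (hg : g ∈ D.C) :
    g * D.ι r = D.ι r * g ↔ g ∈ D.im P := by
  rcases h with ⟨rfl, rfl⟩ | ⟨rfl, rfl⟩ | ⟨rfl, rfl⟩ | ⟨v, rfl, rfl⟩
  exacts [ty.c6 g hg, ty.c5 g hg, ty.c7 g hg, ty.c8 v g hg]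

theorem ty_not_Z {r : Co T} {P : Subgroup (Co T)} (h : Ty r P) : D.ι r ∉ D.im (sZ T) := by
  rintro ⟨c, hc, e⟩
  have := D.inj e
  subst this
  rcases h with ⟨rfl, rfl⟩ | ⟨rfl, rfl⟩ | ⟨rfl, rfl⟩ | ⟨v, rfl, rfl⟩ <;>
    simp [mem_sZ, x4, x5, x6, x7, x8] at hc

theorem ty_sq {r : Co T} {P : Subgroup (Co T)} (h : Ty r P) : ∃ s ∈ P, s * s = x4 T 1 := by
  rcases h with ⟨-, rfl⟩ | ⟨-, rfl⟩ | ⟨-, rfl⟩ | ⟨v, -, rfl⟩
  · exact ⟨_, rfl, y4_sq⟩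
  · exact ⟨_, ⟨rfl, rfl⟩, y4_sq⟩
  · exact ⟨_, ⟨rfl, rfl, rfl, rfl⟩, t7_sq⟩
  · exact ⟨_, ⟨rfl, rfl, rfl, rfl⟩, y4_sq⟩

theorem τ_sq : D.τ * D.τ = 1 := Z_sq τ_mem

theorem exists_ty (bc : BC D) (ty : TY D) {x : G} (hx : x ∈ D.C) (h2 : x * x = 1)
    (hZ : x ∉ D.im (sZ T)) : ∃ c ∈ D.C, ∃ (r : Co T) (P : Subgroup (Co T)), Ty r P ∧
      c * x * c⁻¹ = D.ι r := by
  obtain ⟨c, hc, h⟩ := ty.cls x hx h2
  rcases h with ⟨a, h⟩ | h | h | h | ⟨v, h⟩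
  · exfalso
    apply hZ
    have e : x = c⁻¹ * D.ι (x4 T a) * c := by rw [← h]; group
    rw [e, bc.cenZ _ (inv_mem hc), inv_mul_cancel_right]
    exact ⟨_, x4_mem a, rfl⟩
  · exact ⟨c, hc, _, _, Or.inl ⟨rfl, rfl⟩, h⟩
  · exact ⟨c, hc, _, _, Or.inr (Or.inl ⟨rfl, rfl⟩), h⟩
  · exact ⟨c, hc, _, _, Or.inr (Or.inr (Or.inl ⟨rfl, rfl⟩)), h⟩
  · exact ⟨c, hc, _, _, Or.inr (Or.inr (Or.inr ⟨v, rfl, rfl⟩)), h⟩

theorem mp_of_rel (bc : BC D) (ty : TY D) (hy : Hy D) {g : G} {r r' : Co T} {P P' : Subgroup (Co T)}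
    (h : Ty r P) (h' : Ty r' P') (e : g * D.τ * g⁻¹ = D.ι r) (e' : g * D.ι r' * g⁻¹ = D.τ) :
    Mp D g P' P := by
  intro c hc
  have c1 : D.ι c * D.ι r' = D.ι r' * D.ι c := (ty_cen ty h' (D.ι_mem c)).2 ⟨c, hc, rfl⟩
  have c2 : D.ι c * D.τ = D.τ * D.ι c := cenZ' bc (D.ι_mem c) τ_mem
  have hC : g * D.ι c * g⁻¹ ∈ D.C := by
    obtain ⟨k, hk⟩ := ι_pow (D := D) c
    refine bh_two hy (hy.nrm _ ?_) ⟨k, by rw [conj_pow, hk]; simp⟩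
    rw [← e']
    calc g * D.ι c * g⁻¹ * (g * D.ι r' * g⁻¹) = g * (D.ι c * D.ι r') * g⁻¹ := by group
      _ = _ := by rw [c1]; group
  obtain ⟨c', hc', f⟩ := (ty_cen ty h hC).1 (by
    rw [← e]
    calc g * D.ι c * g⁻¹ * (g * D.τ * g⁻¹) = g * (D.ι c * D.τ) * g⁻¹ := by group
      _ = _ := by rw [c2]; group)
  exact ⟨c', hc', f.symm⟩

theorem exists_rel (bc : BC D) (ty : TY D) (hy : Hy D) {g : G} {r : Co T} {P : Subgroup (Co T)}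
    (h : Ty r P) (e : g * D.τ * g⁻¹ = D.ι r) : ∃ (g' : G) (r' : Co T) (P' : Subgroup (Co T)),
      Ty r' P' ∧ g' * D.τ * g'⁻¹ = D.ι r ∧ g' * D.ι r' * g'⁻¹ = D.τ := by
  have c2 : D.ι r * D.τ = D.τ * D.ι r := cenZ' bc (D.ι_mem r) τ_mem
  have h2 : g⁻¹ * D.τ * g⁻¹⁻¹ * (g⁻¹ * D.τ * g⁻¹⁻¹) = 1 := by
    calc _ = g⁻¹ * (D.τ * D.τ) * g := by group
      _ = 1 := by rw [τ_sq]; group
  have hC : g⁻¹ * D.τ * g⁻¹⁻¹ ∈ D.C := by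
    refine bh_two hy (hy.nrm _ ?_) ⟨1, by rw [pow_one, pow_two, h2]⟩
    rw [← e] at c2
    calc g⁻¹ * D.τ * g⁻¹⁻¹ * D.τ = g⁻¹ * (D.τ * (g * D.τ * g⁻¹)) * g := by group
      _ = _ := by rw [← c2]; group
  have hZ : g⁻¹ * D.τ * g⁻¹⁻¹ ∉ D.im (sZ T) := by
    intro hz
    have h1 := inv_mem (bh_nz bc hy hz)
    rw [inv_inv, ← bh_nZ bc hy] at h1
    have := (mem_normalizer_iff.1 h1 _).1 (τ_mem (D := D))
    rw [e] at this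
    exact ty_not_Z h this
  obtain ⟨c, hc, r', P', h', f⟩ := exists_ty bc ty hC h2 hZ
  refine ⟨g * c⁻¹, r', P', h', ?_, ?_⟩
  · rw [← e]
    calc g * c⁻¹ * D.τ * (g * c⁻¹)⁻¹ = g * (c⁻¹ * D.τ) * c * g⁻¹ := by group
      _ = _ := by rw [cenZ' bc (inv_mem hc) τ_mem]; group
  · rw [← f]; group

theorem mp_sq {g : G} {P P' : Subgroup (Co T)} (hm : Mp D g P' P) {s a b : Co T} (hs : s ∈ P')
    (e : s * s = a) (f : g * D.ι a * g⁻¹ = D.ι b) : ∃ s' ∈ P, s' * s' = b := by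
  obtain ⟨s', hs', k⟩ := hm s hs
  refine ⟨s', hs', D.inj ?_⟩
  rw [map_mul, ← k, ← f, ← e, map_mul]; group

theorem mp_fourth {g : G} {P P' : Subgroup (Co T)} (hm : Mp D g P' P) {s a b : Co T} (hs : s ∈ P')
    (e : (s * s) * (s * s) = a) (f : g * D.ι a * g⁻¹ = D.ι b) : ∃ s' ∈ P, (s' * s') * (s' * s') = b := by
  obtain ⟨s', hs', k⟩ := hm s hs
  refine ⟨s', hs', D.inj ?_⟩
  rw [map_mul, map_mul, ← k, ← f, ← e, map_mul, map_mul]; group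

theorem x4_ne_one : x4 T 1 ≠ 1 := fun h => by simpa [x4] using congrArg Co.a4 h

/-- the type of `r` is not 7; if the type of `r'` is 5 or 6 then the type of `r` is 6 -/
theorem rel_half (bc : BC D) (ty : TY D) (hy : Hy D) {g : G} {r r' : Co T} {P P' : Subgroup (Co T)}
    (h : Ty r P) (h' : Ty r' P') (e : g * D.τ * g⁻¹ = D.ι r) (e' : g * D.ι r' * g⁻¹ = D.τ) :
    ¬ (r = x7 T 1 ∧ P = sT7 T) ∧
      (((r' = x6 T 1 ∧ P' = sQ1 T) ∨ (r' = x5 T 1 ∧ P' = sT5 T)) → (r = x6 T 1 ∧ P = sQ1 T)) := by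
  have hm := mp_of_rel bc ty hy h h' e e'
  have n7 : ¬ (r = x7 T 1 ∧ P = sT7 T) := by
    rintro ⟨rfl, rfl⟩
    obtain ⟨s, hs, k⟩ := ty_sq h'
    obtain ⟨s', hs', k'⟩ := mp_sq hm hs k e
    exact x7_not_sq hs' k'
  refine ⟨n7, fun hc => ?_⟩
  have : ∃ s ∈ P', (s * s) * (s * s) = r' := by
    rcases hc with ⟨rfl, rfl⟩ | ⟨rfl, rfl⟩
    exacts [x6_fourth, x5_fourth]
  obtain ⟨s, hs, k⟩ := this
  obtain ⟨s', hs', k'⟩ := mp_fourth hm hs k (b := x4 T 1) e'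
  rcases h with h | ⟨-, rfl⟩ | h | ⟨v, -, rfl⟩
  · exact h
  · exact absurd k' (x4_not_fourth5 hs')
  · exact absurd h n7
  · rw [fourth8 hs'] at k'
    exact absurd k'.symm x4_ne_one

theorem rel_cases (bc : BC D) (ty : TY D) (hy : Hy D) {g : G} {r r' : Co T} {P P' : Subgroup (Co T)}
    (h : Ty r P) (h' : Ty r' P') (e : g * D.τ * g⁻¹ = D.ι r) (e' : g * D.ι r' * g⁻¹ = D.τ) :
    ((r = x6 T 1 ∧ P = sQ1 T) ∧ (r' = x6 T 1 ∧ P' = sQ1 T)) ∨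
      ((∃ v, r = x4 T v * x8 T 1 ∧ P = sT8 T) ∧ ∃ v, r' = x4 T v * x8 T 1 ∧ P' = sT8 T) := by
  obtain ⟨a1, a2⟩ := rel_half bc ty hy h h' e e'
  obtain ⟨b1, b2⟩ := rel_half bc ty hy (g := g⁻¹) h' h (by rw [← e']; group) (by rw [← e]; group)
  rcases h with h | h | h | h
  · exact Or.inl ⟨h, b2 (Or.inl h)⟩
  · exact Or.inl ⟨a2 (Or.inl (b2 (Or.inr h))), b2 (Or.inr h)⟩
  · exact absurd h a1
  · rcases h' with h' | h' | h' | h'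
    · exact Or.inl ⟨a2 (Or.inl h'), h'⟩
    · exact Or.inl ⟨a2 (Or.inr h'), b2 (Or.inl (a2 (Or.inr h')))⟩
    · exact absurd h' b1
    · exact Or.inr ⟨h, h'⟩

theorem conj6_of_88 (bc : BC D) (ty : TY D) {g : G} {v : K} (hm : Mp D g (sT8 T) (sT8 T))
    (e' : g * D.ι (x4 T v * x8 T 1) * g⁻¹ = D.τ) : ∃ k : G, k * D.τ * k⁻¹ = D.ι (x6 T 1) := by
  obtain ⟨a, ha, ea⟩ := hm (y6 T 1) ⟨rfl, rfl, rfl, rfl⟩
  obtain ⟨b, hb, eb⟩ := hm (y4 T 1) ⟨rfl, rfl, rfl, rfl⟩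
  obtain ⟨c, hc, ec⟩ := hm (y8 T 1) ⟨rfl, rfl, rfl, rfl⟩
  obtain ⟨d, hd, ed⟩ := comm8 ha hb
  obtain ⟨t, et⟩ := comm86 hd hc
  have e5 : g * D.ι (x5 T 1) * g⁻¹ = D.ι d := by
    have h1 : x5 T 1 = (y4 T 1 * y6 T 1)⁻¹ * (y6 T 1 * y4 T 1) := by rw [c64]; group
    have h2 : d = (b * a)⁻¹ * (a * b) := by rw [ed]; group
    rw [h1, h2]
    simp only [map_mul, map_inv, ← ea, ← eb]; group
  have e6 : g * D.ι (x6 T 1) * g⁻¹ = D.ι (x6 T t) := by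
    have h1 : x6 T 1 = (y8 T 1 * x5 T 1)⁻¹ * (x5 T 1 * y8 T 1) := by rw [c58]; group
    have h2 : x6 T t = (c * d)⁻¹ * (d * c) := by rw [et]; group
    rw [h1, h2]
    simp only [map_mul, map_inv, ← ec, ← e5]; group
  have ht : t ≠ 0 := by
    rintro rfl
    have h0 : x6 T 0 = 1 := rfl
    rw [h0, map_one, mul_inv_eq_one, mul_eq_left, ← map_one D.ι] at e6
    simpa [x6] using congrArg Co.a6 (D.inj e6)
  have hW : x4 T 1 * x6 T t ∈ sW T := by simp [mem_sW, x4, x6]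
  have hZ : x4 T 1 * x6 T t ∉ sZ T := by simp [mem_sZ, x4, x6, ht]
  obtain ⟨s, p, f⟩ := ty.clsW _ hW hZ
  refine ⟨D.ι s * D.h0 p * g * D.ι (x3 T 1) * g⁻¹, ?_⟩
  have h38 := congrArg D.ι (conj38 (T := T) v)
  rw [map_mul, map_mul, map_inv, map_mul D.ι _ (x6 T 1)] at h38
  rw [← f, map_mul D.ι (x4 T 1), ← e6]
  change _ = D.ι s * D.h0 p * (D.τ * _) * _
  rw [← e']
  calc _ = D.ι s * D.h0 p * g * (D.ι (x3 T 1) * D.ι (x4 T v * x8 T 1) * (D.ι (x3 T 1))⁻¹) * g⁻¹ *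
        (D.ι s * D.h0 p)⁻¹ := by group
    _ = _ := by rw [h38]; group

theorem fu_of (bc : BC D) (ty : TY D) (hy : Hy D) : FU D where
  n5 := fun h => by
    obtain ⟨g, e⟩ := isConj_iff.1 h
    have h5 : Ty (x5 T 1) (sT5 T) := Or.inr (Or.inl ⟨rfl, rfl⟩)
    obtain ⟨g', r', P', h', f, f'⟩ := exists_rel bc ty hy h5 e
    rcases rel_cases bc ty hy h5 h' f f' with ⟨⟨k, -⟩, -⟩ | ⟨⟨v, k, -⟩, -⟩
    · simpa [x5, x6] using congrArg Co.a5 k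
    · simpa [x5, x4, x8] using congrArg Co.a5 k
  n7 := fun h => by
    obtain ⟨g, e⟩ := isConj_iff.1 h
    have h7 : Ty (x7 T 1) (sT7 T) := Or.inr (Or.inr (Or.inl ⟨rfl, rfl⟩))
    obtain ⟨g', r', P', h', f, f'⟩ := exists_rel bc ty hy h7 e
    exact (rel_half bc ty hy h7 h' f f').1 ⟨rfl, rfl⟩
  mv := fun ⟨g, hC, hZ⟩ => by
    have h2 : g * D.τ * g⁻¹ * (g * D.τ * g⁻¹) = 1 := by
      calc _ = g * (D.τ * D.τ) * g⁻¹ := by group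
        _ = 1 := by rw [τ_sq]; group
    obtain ⟨c, hc, r, P, h, e⟩ := exists_ty bc ty hC h2 hZ
    have e1 : c * g * D.τ * (c * g)⁻¹ = D.ι r := by rw [← e]; group
    have h6 : Ty (x6 T 1) (sQ1 T) := Or.inl ⟨rfl, rfl⟩
    have key : ∃ k : G, k * D.τ * k⁻¹ = D.ι (x6 T 1) := by
      obtain ⟨g', r', P', h', f, f'⟩ := exists_rel bc ty hy h e1
      have hm := mp_of_rel bc ty hy h h' f f'
      rcases rel_cases bc ty hy h h' f f' with ⟨⟨rfl, -⟩, -⟩ | ⟨⟨v, -, rfl⟩, v', rfl, rfl⟩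
      · exact ⟨g', f⟩
      · exact conj6_of_88 bc ty hm f'
    obtain ⟨k, ek⟩ := key
    obtain ⟨g', r', P', h', f, f'⟩ := exists_rel bc ty hy h6 ek
    have hm := mp_of_rel bc ty hy h6 h' f f'
    rcases rel_cases bc ty hy h6 h' f f' with ⟨-, -, rfl⟩ | ⟨⟨v, k, -⟩, -⟩
    · exact ⟨g', nor_of_mp hm, f⟩
    · simpa [x6, x4, x8] using congrArg Co.a8 k

theorem jobFU : JobFU.{u, v} := fun _ _ _ _ _ _ _ _ _ bc ty hy _ => fu_of bc ty hy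

end H55.Oc
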