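/- Orders of the elements of the Weyl group of type F4: every element satisfies `w ^ 8 = 1`,
`w ^ 6 = 1` or `w ^ 6 = -1`. -/
import Cfsg.Agent.H63.Weyl
import Cfsg.Agent.H63.RSF4

set_option autoImplicit false

namespace H55.WF4

open H63 Cfsg.Lie

/-- a linear function separating the roots modulo 72 -/
def hv (r : ℕ) : ℕ := certF4.dig r 0 + 2 * certF4.dig r 1 + 13 * certF4.dig r 2 + 65 * certF4.dig r 3

/-- the root with a given value modulo 72 -/
def look (k : ℕ) : ℕ := fld 0x3943400156122d02455804cc44a1800003c81070c00ae000000000bc0000001b40b28ae7800000a657a370066a99f91d5da00089b840 6 64 k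

/-- the table of pairings, shifted by two -/
def pr (r s : ℕ) : ℕ := fld 0x8db6d36d349369a4d328a45129228928924871b69b69a6934d349965228a2914512512416e34db4da4d26d264a4d948948a44a24a2099249236db6da4924924924924492492000006d38da69369a2522da44b49b45129144828969b71a4d34d945148b2d269a64a28a4412514db6e249a6d928a45169a4d364945240924a9234946da48c91b6924912400d244909220091389389365449b3224032520992902902808a35135132d289968411165048b2822822105234a34a16d250b6108a12c24896122122028939126cc49a4193140836624520c94802905138a265a89a08b2a08132d44504594102824a35222da5184896025216d284244b4022124939214936e00092924936e48092926002926d244b69244c6db4da44a2490da4912da48969a28b4d228b8da68b2d14482d348a2d34514da25349948b7136516992812d265229b44a8924836cb24c8a25140824100db2c931249051241365964c5144a08120820d96592a24824a20932d92ca9128025204804cb64b29441268a68a68b45345a31b24345a29a2d14d14d14ca6526526532932e160b2932994994994ca6524ca4cb2926594cc0ca6594932ca4ca4992d245a4596922cb45885a2cb49165a45a48b45a2d22d22d1691643319691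68b48b48b45a29a29a2994d14ca6096e14ca68a65345345348289164b65a0121224044a44592d96905124125112cb2d84104841128a284b2cb6824a20924a12596d80824108a251484965b61249444a6d148b4992112d328b6a36522d26894da28a69945269904a2996534dc65149a6514d32524d92924d824944a4da6db84a49364a49b49100349124491b69249124011b69232469248140264a40c49b3224032520e24d95227124110822ca08a8996841116504d44cb5146a209101225848a50b6108a12c24d285b4a469440148148325241931408366249b31271272208141141165208b2a08132d44996a26a27140110910912d04896025216d288b6946946a400149024a4980092924936e48524db89272444924248a24b69a4d328a4512db4d251b6da28920a45144b4d349965228a2da69a4e36d325104a29128a6d264a4d94894d36934dc69b00000124924a4924924924924db6db72492424144944a4522522da44b49b49a4da6da71b20928928a29145148b2d269a6934d36d36e304925125149128a45169a4d369269b69b6dc 3 8 (48 * r + s)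

/-- the image of a root under the linear map given on the simple roots -/
def step (a b c d r : ℕ) : ℕ := look (((certF4.dig r 0 + 64) * a + (certF4.dig r 1 + 64) * b +
  (certF4.dig r 2 + 64) * c + (certF4.dig r 3 + 64) * d) % 72)

/-- iteration with evaluation at each step -/
def iter (f : ℕ → ℕ) (n : ℕ) : ℕ → (ℕ → Bool) → Bool :=
  Nat.rec (fun r k => k r) (fun _ ih r k => force (f r) fun s => ih s k) n

theorem iter_eq (f : ℕ → ℕ) (n r : ℕ) (k : ℕ → Bool) : iter f n r k = k (f^[n] r) := by
  induction n generalizing r with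
  | zero => rfl
  | succ n ih => exact (force_eq (f r) fun s => iter f n s k).trans (ih _)

/-- the check for one element -/
def fin (f : ℕ → ℕ) : Bool :=
  iter f 6 33 fun a => iter f 6 27 fun b => iter f 6 25 fun c => iter f 6 24 fun d =>
    (a == 33 && b == 27 && c == 25 && d == 24) || (a == 14 && b == 20 && c == 22 && d == 23) ||
      (iter f 2 a (· == 33) && iter f 2 b (· == 27) && iter f 2 c (· == 25) && iter f 2 d (· == 24))

/-- the check for all elements -/
def chk (a : ℕ) : Bool :=
  allLt 48 fun b => cond (pr a b == 1 && pr b a == 1) (allLt 48 fun c =>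
    cond (pr a c == 2 && pr b c == 0) (allLt 48 fun d =>
      cond (pr a d == 2 && pr b d == 2 && pr c d == 1 && pr d c == 1)
        (force (hv a % 72) fun a' => force (hv b % 72) fun b' => force (hv c % 72) fun c' =>
          force (hv d % 72) fun d' => fin (step a' b' c' d')) true) true) true

theorem chk_ok : allLt 48 chk = true := by decide +kernel

theorem look_ok : allLt 48 (fun r => look (hv r % 72) == r) = true := by decide +kernel

theorem pr_ok : allLt 48 (fun r => allLt 48 fun s =>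
    decide ((pr r s : ℤ) = chevF4.pairing r s + 2)) = true := by decide +kernel

theorem dig_eq (r : Rt chevF4) (i : Fin chevF4.rank) : (certF4.dig r i : ℤ) = rt r i + 8 := by
  rw [rt_F4, Cert.rtc_eq]; ring

theorem step_eq {w : Equiv.Perm (Rt chevF4)} (hw : IsLin w) (r : Rt chevF4) :
    step (hv (w (simpleR ⟨0, by decide⟩)) % 72) (hv (w (simpleR ⟨1, by decide⟩)) % 72)
      (hv (w (simpleR ⟨2, by decide⟩)) % 72) (hv (w (simpleR ⟨3, by decide⟩)) % 72) r = w r := by
  have h := allLt_iff.1 look_ok (w r) (w r).2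
  rw [beq_iff_eq] at h
  rw [← h, step]
  congr 1
  have hr : ∀ j, rt (w r) j = rt r ⟨0, by decide⟩ * rt (w (simpleR ⟨0, by decide⟩)) j +
      rt r ⟨1, by decide⟩ * rt (w (simpleR ⟨1, by decide⟩)) j +
      rt r ⟨2, by decide⟩ * rt (w (simpleR ⟨2, by decide⟩)) j +
      rt r ⟨3, by decide⟩ * rt (w (simpleR ⟨3, by decide⟩)) j := fun j => by
    rw [hw.rt_apply, Finset.sum_apply]
    exact Fin.sum_univ_four fun i : Fin 4 => rt r i * rt (w (simpleR i)) j
  have hd : ∀ s : Rt chevF4, ((hv s : ℕ) : ZMod 72) =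
      (rt s ⟨0, by decide⟩ : ℤ) + 2 * (rt s ⟨1, by decide⟩ : ℤ) + 13 * (rt s ⟨2, by decide⟩ : ℤ) +
        65 * (rt s ⟨3, by decide⟩ : ℤ) := fun s => by
    have h0 := congrArg (Int.cast : ℤ → ZMod 72) (dig_eq s ⟨0, by decide⟩)
    have h1 := congrArg (Int.cast : ℤ → ZMod 72) (dig_eq s ⟨1, by decide⟩)
    have h2 := congrArg (Int.cast : ℤ → ZMod 72) (dig_eq s ⟨2, by decide⟩)
    have h3 := congrArg (Int.cast : ℤ → ZMod 72) (dig_eq s ⟨3, by decide⟩)
    have h72 : (72 : ZMod 72) = 0 := rfl
    push_cast at h0 h1 h2 h3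
    rw [hv]
    push_cast
    rw [h0, h1, h2, h3]
    linear_combination 9 * h72
  have he : ∀ i : Fin chevF4.rank, ((certF4.dig r i + 64 : ℕ) : ZMod 72) = (rt r i : ℤ) := fun i => by
    have h0 := congrArg (Int.cast : ℤ → ZMod 72) (dig_eq r i)
    have h72 : (72 : ZMod 72) = 0 := rfl
    push_cast at h0 ⊢
    rw [h0]
    linear_combination h72
  rw [← ZMod.natCast_eq_natCast_iff']
  simp only [Nat.cast_add _ ((_ + 64) * _), Nat.cast_mul, ZMod.natCast_mod, hd]
  rw [he ⟨0, by decide⟩, he ⟨1, by decide⟩, he ⟨2, by decide⟩, he ⟨3, by decide⟩]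
  simp only [hr]
  push_cast
  ring

theorem pr_eq {w : Equiv.Perm (Rt chevF4)} (hw : IsLin w) (r s : Rt chevF4) :
    pr (w r) (w s) = pr r s := by
  have h := allLt_iff.1 (allLt_iff.1 pr_ok _ (w r).2) _ (w s).2
  have h' := allLt_iff.1 (allLt_iff.1 pr_ok _ r.2) _ s.2
  rw [decide_eq_true_eq] at h h'
  rw [hw.pairing_apply, ← h'] at h
  exact_mod_cast h

theorem isLin_pow {D : ChevalleyDatum} [RS D] {w : Equiv.Perm (Rt D)} (hw : IsLin w) (n : ℕ) :
    IsLin (w ^ n) := by
  obtain ⟨f, h1, h2⟩ := hw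
  refine ⟨f ^ n, fun r => ?_, fun v v' => ?_⟩
  · induction n with
    | zero => rfl
    | succ n ih => rw [pow_succ', pow_succ', Equiv.Perm.mul_apply, h1, ih]; rfl
  · induction n with
    | zero => rfl
    | succ n ih => rw [pow_succ', Module.End.mul_apply, Module.End.mul_apply, h2, ih]

theorem eq_one_of {D : ChevalleyDatum} [RS D] {w : Equiv.Perm (Rt D)} (hw : IsLin w)
    (h : ∀ i, w (simpleR i) = simpleR i) : w = 1 := by
  ext r : 1
  apply rt_inj
  rw [hw.rt_apply]
  simp only [h, rt_simpleR, Equiv.Perm.one_apply]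
  funext j
  simp [Finset.sum_apply, Pi.single_apply]

theorem eq_neg_of {D : ChevalleyDatum} [RS D] {w : Equiv.Perm (Rt D)} (hw : IsLin w)
    (h : ∀ i, w (simpleR i) = negR (simpleR i)) (r : Rt D) : w r = negR r := by
  apply rt_inj
  rw [hw.rt_apply]
  simp only [h, rt_simpleR, rt_negR]
  funext j
  simp [Finset.sum_apply, Pi.single_apply]

theorem orders {w : Equiv.Perm (Rt chevF4)} (hw : IsLin w) :
    w ^ 8 = 1 ∨ w ^ 6 = 1 ∨ ∀ r, (w ^ 6) r = negR r := by
  have h := allLt_iff.1 chk_ok _ (w (simpleR ⟨0, by decide⟩)).2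
  have h := allLt_iff.1 h _ (w (simpleR ⟨1, by decide⟩)).2
  rw [pr_eq hw, pr_eq hw, Bool.cond_eq_ite, if_pos (by decide +kernel)] at h
  have h := allLt_iff.1 h _ (w (simpleR ⟨2, by decide⟩)).2
  rw [pr_eq hw, pr_eq hw, Bool.cond_eq_ite, if_pos (by decide +kernel)] at h
  have h := allLt_iff.1 h _ (w (simpleR ⟨3, by decide⟩)).2
  rw [pr_eq hw, pr_eq hw, pr_eq hw, pr_eq hw, Bool.cond_eq_ite, if_pos (by decide +kernel)] at h
  simp only [force_eq] at h
  set f := step (hv (w (simpleR ⟨0, by decide⟩)) % 72) (hv (w (simpleR ⟨1, by decide⟩)) % 72)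
      (hv (w (simpleR ⟨2, by decide⟩)) % 72) (hv (w (simpleR ⟨3, by decide⟩)) % 72) with hf
  have hit : ∀ (n : ℕ) (r : Rt chevF4), f^[n] r = (w ^ n) r := fun n r => by
    induction n with
    | zero => rfl
    | succ n ih => rw [Function.iterate_succ_apply', ih, hf, step_eq hw, pow_succ']; rfl
  have hit' : ∀ (n : ℕ) (i : Fin chevF4.rank), f^[n] (chevF4.simple i) = (w ^ n) (simpleR i) :=
    fun n i => hit n (simpleR i)
  have h0 : ∀ n, f^[n] 33 = _ := fun n => hit' n ⟨0, by decide⟩
  have h1 : ∀ n, f^[n] 27 = _ := fun n => hit' n ⟨1, by decide⟩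
  have h2 : ∀ n, f^[n] 25 = _ := fun n => hit' n ⟨2, by decide⟩
  have h3 : ∀ n, f^[n] 24 = _ := fun n => hit' n ⟨3, by decide⟩
  simp only [fin, iter_eq, Bool.or_eq_true, Bool.and_eq_true, beq_iff_eq, h0, h1, h2, h3, hit,
    ← Equiv.Perm.mul_apply, ← pow_add] at h
  rcases h with (⟨⟨⟨a, b⟩, c⟩, d⟩ | ⟨⟨⟨a, b⟩, c⟩, d⟩) | ⟨⟨⟨a, b⟩, c⟩, d⟩
  · refine Or.inr (Or.inl (eq_one_of (isLin_pow hw 6) fun i => Fin.ext ?_))
    fin_cases i
    exacts [a, b, c, d]
  · refine Or.inr (Or.inr (eq_neg_of (isLin_pow hw 6) fun i => Fin.ext ?_))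
    fin_cases i
    exacts [a, b, c, d]
  · refine Or.inl (eq_one_of (isLin_pow hw 8) fun i => Fin.ext ?_)
    fin_cases i
    exacts [a, b, c, d]

end H55.WF4
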