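/- Alternating sections of the exceptional groups of rank two and of type F4. -/
import Cfsg.Agent.H55.AltSec2
import Cfsg.Agent.H55.WF4
import Cfsg.Agent.H68.TwD4
import Cfsg.Agent.H68.ReeF
import Cfsg.Agent.H68.ReeT
import Cfsg.Agent.S1059
import Cfsg.Agent.S1062

set_option autoImplicit false
set_option linter.unusedSectionVars false

namespace H55.Alt

open Subgroup H68 Cfsg.Lie
open H64 (RGD)

section rgd

variable {R ι : Type} [Fintype R] [DecidableEq R] [Fintype ι] [DecidableEq ι] {D : RD R ι}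
  {G : Type*} [Group G] {T : RGD D.toW G}

theorem nf_conj {a m b t : G} {w : Equiv.Perm R} (ha : a ∈ T.U) (hm : m ∈ T.N) (hw : w ∈ D.W)
    (hb : b ∈ Um T w) (h : Ac T m w) (ht : t ∈ T.H) (ht' : a * m * b * t * (a * m * b)⁻¹ ∈ T.H) :
    a * m * b * t * (a * m * b)⁻¹ = m * t * m⁻¹ := by
  set t' := a * m * b * t * (a * m * b)⁻¹ with e
  obtain ⟨-, -, e2, -⟩ := normal_form_unique (a' := t'⁻¹ * a * t'⁻¹⁻¹) (m' := t'⁻¹ * m * t)
    (b' := t⁻¹ * b * t⁻¹⁻¹) hm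
    (T.N.mul_mem (T.N.mul_mem (T.H_le_N (inv_mem ht')) hm) (T.H_le_N ht)) hw hw h
    (by simpa using ((ac_H (inv_mem ht')).mul h).mul (ac_H ht)) ha hb
    (T.h_conj_gen (inv_mem ht') ha) (T.h_conj_gen (inv_mem ht) hb) (by rw [e]; group)
  rw [eq_mul_inv_iff_mul_eq]
  conv_lhs => rw [e2]
  group

theorem ac_pow {m : G} {w : Equiv.Perm R} (h : Ac T m w) (n : ℕ) : Ac T (m ^ n) (w ^ n) := by
  induction n with
  | zero => simpa using ac_one
  | succ n ih => rw [pow_succ, pow_succ]; exact ih.mul h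

variable (T) in
/-- Normal forms with Weyl part in `W'`. -/
def HasNF (Γ : Subgroup G) (W' : Subgroup (Equiv.Perm R)) : Prop :=
  ∀ g ∈ Γ, ∃ a ∈ T.U, ∃ m ∈ T.N, ∃ w ∈ W', ∃ b ∈ Um T w, w ∈ D.W ∧ Ac T m w ∧ g = a * m * b

theorem hasNF_Gp : HasNF T T.Gp D.W := fun _ hg => by
  obtain ⟨a, ha, m, hm, w, hw, b, hb, h, e⟩ := normal_form hg
  exact ⟨a, ha, m, hm, w, hw, b, hb, hw, h, e⟩

theorem hasNF_tw {Ω : Type} {τ : Tw D Ω} {S : TwG T τ} {K : Subgroup G} (hK : S.IsTw K) :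
    HasNF T K τ.Wf := fun _ hg => by
  obtain ⟨a, ha, m, hm, w, hw, b, hb, h, e⟩ := hK.normal_form hg
  exact ⟨a, ha.1, m, hm.1, w, hw, b, hb.1, Tw.Wf_le_W hw, h, e⟩

theorem HasNF.ctl {Γ : Subgroup G} {W' : Subgroup (Equiv.Perm R)} (h : HasNF T Γ W')
    {E : List (ℕ × ℤ)} (hE : ∀ m ∈ T.N, ∀ w ∈ W', Ac T m w →
      ∃ e ∈ E, ∀ t ∈ T.H, m ^ e.1 * t * (m ^ e.1)⁻¹ = t ^ e.2) : Ctl Γ T.H E := by
  refine ctl_of fun g hg => ?_
  obtain ⟨a, ha, m, hm, w, hw, b, hb, hw', h, rfl⟩ := h g hg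
  exact ⟨m, fun t ht ht' => nf_conj ha hm hw' hb h ht ht', hE m hm w hw h⟩

theorem conj_of_pow (hab : ∀ a ∈ T.H, ∀ b ∈ T.H, a * b = b * a) {m : G} (hm : m ∈ T.N)
    {w : Equiv.Perm R} (h : Ac T m w) {n : ℕ} (hn : w ^ n = 1) {t : G} (ht : t ∈ T.H) :
    m ^ n * t * (m ^ n)⁻¹ = t ^ (1 : ℤ) := by
  rw [hab _ (mem_H_of_ac (pow_mem hm n) (hn ▸ ac_pow h n)) _ ht]; simp

theorem HasNF.ctl_exp {Γ : Subgroup G} {W' : Subgroup (Equiv.Perm R)} (h : HasNF T Γ W')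
    (hab : ∀ a ∈ T.H, ∀ b ∈ T.H, a * b = b * a) {n : ℕ} (hn : ∀ w ∈ W', w ^ n = 1) :
    Ctl Γ T.H [(n, 1)] :=
  h.ctl fun _ hm w hw hac => ⟨_, List.mem_singleton_self _, fun _ => conj_of_pow hab hm hac (hn w hw)⟩

theorem not_two_dvd {Γ : Subgroup G} {a b : Equiv.Perm R} (ha : a * a = 1) (hb : b * b = 1)
    (hn : orderOf (a * b) = 6) (haW : a ∈ D.W) (hbW : b ∈ D.W)
    (h1 : ∃ m ∈ T.N ⊓ Γ, Ac T m a) (h2 : ∃ m ∈ T.N ⊓ Γ, Ac T m b) (h8 : ¬ 8 ∣ T.H.relIndex Γ) :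
    ¬ 2 ∣ T.N.relIndex Γ := by
  have hs := fun m : ↥(T.N ⊓ Γ) => (exists_ac m.2.1).choose_spec
  let φ : ↥(T.N ⊓ Γ) →* Equiv.Perm R := MonoidHom.mk' (fun m => (exists_ac m.2.1).choose)
    fun m m' => (hs (m * m')).2.unique ((hs m).2.mul (hs m').2) (hs _).1 (mul_mem (hs _).1 (hs _).1)
  have hker : φ.ker = (T.H ⊓ Γ).subgroupOf (T.N ⊓ Γ) := by
    ext m
    rw [MonoidHom.mem_ker, mem_subgroupOf]
    refine ⟨fun h => ⟨mem_H_of_ac m.2.1 (h ▸ (hs m).2), m.2.2⟩, fun h => ?_⟩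
    exact (hs m).2.unique (ac_H h.1) (hs m).1 (one_mem _)
  have hr : ∀ w ∈ D.W, (∃ m ∈ T.N ⊓ Γ, Ac T m w) → w ∈ φ.range := by
    rintro w hw ⟨m, hm, h⟩
    exact ⟨⟨m, hm⟩, (hs ⟨m, hm⟩).2.unique h (hs _).1 hw⟩
  have h4 := four_dvd ha hb hn (hr a haW h1) (hr b hbW h2)
  rw [← index_ker, hker] at h4
  intro hd
  apply h8
  rw [← inf_relIndex_right T.H Γ, ← relIndex_mul_relIndex (T.H ⊓ Γ) (T.N ⊓ Γ) Γ
    (inf_le_inf_right _ T.H_le_N) inf_le_right, inf_relIndex_right T.N]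
  exact mul_dvd_mul h4 hd

theorem Wf_pow {τ : Tw D (Fin 2)} {n : ℕ} (h : orderOf (τ.wo 0 * τ.wo 1) = 2 * n) :
    ∀ w ∈ τ.Wf, w ^ (2 * n) = 1 := by
  intro w hw
  refine dih_pow (RD.w0_mul_w0 _) (RD.w0_mul_w0 _) (h ▸ pow_orderOf_eq_one _) ?_
  rw [Tw.Wf, Tw.WI_eq_closure] at hw
  refine closure_mono ?_ hw
  rintro _ ⟨o, -, rfl⟩
  fin_cases o
  exacts [Or.inl rfl, Or.inr rfl]

end rgd

theorem relIndex_eq {G : Type*} [Group G] {H Γ : Subgroup G} {a b : ℕ}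
    (h1 : Nat.card ↥(H ⊓ Γ) = a) (ha : a ≠ 0) (h2 : Nat.card Γ = a * b) : H.relIndex Γ = b := by
  have := card_mul_index ((H ⊓ Γ).subgroupOf Γ)
  rw [Nat.card_congr (subgroupOfEquivOfLe inf_le_right).toEquiv, h1, h2] at this
  rw [← inf_relIndex_right]
  exact Nat.eq_of_mul_eq_mul_left (Nat.pos_of_ne_zero ha) this

theorem exists_ext (F : Type*) [Field F] [Fintype F] {d : ℕ} (hd : 0 < d) :
    ∃ (K : Type) (_ : Field K) (_ : Fintype K) (_ : F →+* K),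
      Fintype.card K = Fintype.card F ^ d := by
  obtain ⟨p, hp⟩ := CharP.exists F
  have : Fact p.Prime := ⟨CharP.char_is_prime F p⟩
  have : NeZero d := ⟨hd.ne'⟩
  let _ := Fintype.ofFinite (FiniteField.Extension F p d)
  refine ⟨FiniteField.Extension F p d, inferInstance, inferInstance, algebraMap _ _, ?_⟩
  rw [Module.card_eq_pow_finrank (K := F), FiniteField.finrank_extension]

theorem map_inj {n : Type} [Fintype n] [DecidableEq n] {F K : Type*} [Field F] [Field K]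
    (φ : F →+* K) : Function.Injective (Matrix.GeneralLinearGroup.map (n := n) φ) :=
  fun _ _ h => Units.ext (Matrix.ext fun i j =>
    φ.injective (congrArg (fun g : GL n K => (g : Matrix n n K) i j) h))

/-- A subgroup of a subgroup of a matrix group, over a larger field. -/
theorem emb_map {n : Type} [Fintype n] [DecidableEq n] {F K : Type*} [Field F] [Field K]
    (φ : F →+* K) {Γ₀ : Subgroup (GL n F)} {Γ : Subgroup (GL n K)}
    (h : Γ₀ ≤ Γ.comap (Matrix.GeneralLinearGroup.map φ)) (H : Subgroup Γ₀) (L : Subgroup H) :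
    Emb ((Matrix.GeneralLinearGroup.map φ).comp
      (Γ₀.subtype.comp (H.subtype.comp L.subtype))) Γ :=
  ⟨(map_inj φ).comp (Γ₀.subtype_injective.comp (H.subtype_injective.comp L.subtype_injective)),
    fun g => h g.1.1.2⟩

theorem mod_eight {q : ℕ} (h : q % 4 = 1) : (q : ZMod 8) = 1 ∨ (q : ZMod 8) = 5 := by
  rw [← ZMod.natCast_mod q 8]
  obtain h | h : q % 8 = 1 ∨ q % 8 = 5 := by omega
  · rw [h]; exact Or.inl rfl
  · rw [h]; exact Or.inr rfl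

theorem fermat {ℓ q d k : ℕ} (h : ¬ ℓ ∣ q) (hd : d = (ℓ - 1) * k) (hl : ℓ.Prime := by norm_num) :
    ((q ^ d : ℕ) : ZMod ℓ) = 1 := by
  have : Fact ℓ.Prime := ⟨hl⟩
  rw [hd, Nat.cast_pow, pow_mul, ZMod.pow_card_sub_one_eq_one
    (mt (ZMod.natCast_eq_zero_iff _ _).1 h), one_pow]

section chev

variable {D : ChevalleyDatum} [H63.RS D] [H65.Tab D] [H65.Comm D] {F K : Type*} [Field F] [Field K]

theorem map_wd (φ : F →+* K) (w : List (ℕ × F)) : Matrix.GeneralLinearGroup.map φ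
    ((mat D F).wd w) = (mat D K).wd (w.map fun p => (p.1, φ p.2)) := by
  induction w with
  | nil => simp
  | cons p w ih => rw [CM.wd_cons, map_mul, ih, List.map_cons, CM.wd_cons, mat_x, H68.map_xU, mat_x]

theorem group_le_comap (φ : F →+* K) :
    D.group F ≤ (D.group K).comap (Matrix.GeneralLinearGroup.map φ) := by
  rw [← mat_gen_univ, ← mat_Gp]
  refine H64.gen_le fun r _ g hg => ?_
  obtain ⟨t, rfl⟩ := ((mat D F).mem_X r g).1 hg
  rw [mem_comap, mat_x, H68.map_xU, ← mat_x]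
  exact (mat D K).x_mem_Gp r.2 _

theorem card_H_inf [Fintype K] (h : Function.Injective (mat D K).tor) :
    Nat.card ↥((mat D K).T.H ⊓ D.group K) = (Fintype.card K - 1) ^ D.rank := by
  rw [← mat_Gp, inf_eq_left.2 (mat D K).T.H_le_Gp, ← (mat D K).tor_range,
    ← Nat.card_congr (MonoidHom.ofInjective h).toEquiv, Nat.card_fun, Nat.card_units, Nat.card_fin,
    Nat.card_eq_fintype_card]

theorem hasNF_group : HasNF (mat D K).T (D.group K) (rd D).W := mat_Gp (D := D) (K := K) ▸ hasNF_Gp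

theorem H_comm : ∀ a ∈ (mat D K).T.H, ∀ b ∈ (mat D K).T.H, a * b = b * a :=
  fun _ ha _ hb => (mat D K).H_comm ha hb

end chev

section G2

variable {K : Type*} [Field K]

theorem orderOf_G2 :
    orderOf ((rd chevG2).s ⟨0, by decide⟩ * (rd chevG2).s ⟨1, by decide⟩) = 6 := by
  have := orderOf_wP (D := chevG2) [0, 1] (n := 6) (by norm_num) (by decide +kernel)
    (by decide +kernel)
  simpa [wP, show 0 < chevG2.rank by decide, show 1 < chevG2.rank by decide] using this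

theorem W_G2 : ∀ w ∈ (rd chevG2).W, w ^ 6 = 1 := by
  intro w hw
  refine dih_pow (n := 3) (RD.s_mul_s _) (RD.s_mul_s _) (orderOf_G2 ▸ pow_orderOf_eq_one _) ?_
  rw [RD.W_eq] at hw
  refine closure_mono ?_ hw
  rintro _ ⟨o, rfl⟩
  fin_cases o
  exacts [Or.inl rfl, Or.inr rfl]

theorem ctl_G2 : Ctl (chevG2.group K) (mat chevG2 K).T.H [(6, 1)] :=
  hasNF_group.ctl_exp H_comm W_G2

theorem idx_G2 [Fintype K] {q : ℕ} (hq : Fintype.card K = q) :
    (mat chevG2 K).T.H.relIndex (chevG2.group K) =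
      q ^ 6 * (q + 1) * (q ^ 5 + q ^ 4 + q ^ 3 + q ^ 2 + q + 1) := by
  have h1 : 1 < q := hq ▸ Fintype.one_lt_card
  refine relIndex_eq (card_H_inf torG2_inj) (pow_ne_zero _ (by omega)) ?_
  rw [Cfsg.Agent.S1059.result hq, hq]
  change _ = (q - 1) ^ 2 * _
  zify [h1.le, Nat.one_le_pow 2 q (by omega), Nat.one_le_pow 6 q (by omega)]
  ring

theorem rk_G2 [Finite K] : rk ↥((mat chevG2 K).T.H ⊓ chevG2.group K) ≤ 4 := by
  rw [← mat_Gp, inf_eq_left.2 (mat chevG2 K).T.H_le_Gp, ← (mat chevG2 K).tor_range]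
  exact (rk_le_of_surj mul_comm _ (MonoidHom.rangeRestrict_surjective _)).trans
    ((rk_le_of_inj ((Pi.evalMonoidHom _ (0 : Fin 2)).prod (Pi.evalMonoidHom _ (1 : Fin 2)))
      fun a b e => funext fun i => by
        fin_cases i
        exacts [congrArg Prod.fst e, congrArg Prod.snd e]).trans (rk_units_sq K))

theorem two_G2 [Fintype K] (h : Fintype.card K % 4 = 1) :
    ¬ 2 ∣ (mat chevG2 K).T.N.relIndex (chevG2.group K) := by
  have hN : ∀ i, ∃ m ∈ (mat chevG2 K).T.N ⊓ chevG2.group K,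
      Ac (mat chevG2 K).T m ((rd chevG2).s i) := fun i =>
    ⟨_, ⟨(mat chevG2 K).T.n_mem_N i,
      mat_Gp (D := chevG2) (K := K) ▸ (mat chevG2 K).T.N_le_Gp ((mat chevG2 K).T.n_mem_N i)⟩, ac_n i⟩
  refine not_two_dvd (RD.s_mul_s _) (RD.s_mul_s _) orderOf_G2 (RD.s_mem_W _) (RD.s_mem_W _)
    (hN _) (hN _) ?_
  rw [idx_G2 rfl, ← ZMod.natCast_eq_zero_iff]
  push_cast
  rcases mod_eight h with h | h <;> rw [h] <;> decide

theorem G2_le_six {F : Type*} [Field F] [Fintype F] (h5 : ¬ 5 ∣ Fintype.card F) {r : ℕ}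
    {H : Subgroup (chevG2.group F)} {N : Subgroup H} [N.Normal]
    (h : Nonempty (H ⧸ N ≃* alternatingGroup (Fin r))) : r ≤ 6 := by
  by_contra hr
  obtain ⟨L, f, hf⟩ := exists_onto (k := 7) (by omega) h
  obtain ⟨K, _, _, φ, hK⟩ := exists_ext F (d := 4) (by norm_num)
  refine no7_five ctl_G2 ?_ (emb_map φ (group_le_comap φ) H L) hf
  rw [idx_G2 rfl, ← ZMod.natCast_eq_zero_iff]
  push_cast
  rw [hK, fermat (k := 1) h5 rfl]
  decide

theorem G2_le_seven {F : Type*} [Field F] [Fintype F] (h5 : Fintype.card F % 4 = 1) {r : ℕ}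
    {H : Subgroup (chevG2.group F)} {N : Subgroup H} [N.Normal]
    (h : Nonempty (H ⧸ N ≃* alternatingGroup (Fin r))) : r ≤ 7 := by
  by_contra hr
  obtain ⟨L, f, hf⟩ := exists_onto (k := 8) (by omega) h
  refine no8 (two_G2 h5) (fun m hm _ => ?_) H_comm rk_G2
    (emb_map (RingHom.id F) (group_le_comap _) H L) hf
  obtain ⟨w, hw, hac⟩ := exists_ac hm
  exact mem_H_of_ac (pow_mem hm 6) (W_G2 w hw ▸ ac_pow hac 6)

end G2

section F4

variable {K : Type*} [Field K]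

theorem ctl_F4 : Ctl (chevF4.group K) (mat chevF4 K).T.H [(8, 1), (6, 1), (6, -1)] := by
  refine hasNF_group.ctl fun m hm w hw hac => ?_
  rcases WF4.orders (H63.isLin_of_mem ((rd chevF4).W_eq ▸ hw :)) with h | h | h
  · exact ⟨(8, 1), by simp, fun _ => conj_of_pow H_comm hm hac h⟩
  · exact ⟨(6, 1), by simp, fun _ => conj_of_pow H_comm hm hac h⟩
  · exact ⟨(6, -1), by simp, fun t ht => by
      simpa using (mat chevF4 K).conj_H_of_neg (pow_mem hw 6) h (pow_mem hm 6) (ac_pow hac 6) ht⟩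

theorem idx_F4 [Fintype K] {q : ℕ} (hq : Fintype.card K = q) :
    (mat chevF4 K).T.H.relIndex (chevF4.group K) =
      q ^ 24 * (q + 1) * (q ^ 5 + q ^ 4 + q ^ 3 + q ^ 2 + q + 1) *
        ((q ^ 4 + 1) * (q ^ 3 + q ^ 2 + q + 1)) *
          ((q ^ 6 + 1) * (q ^ 5 + q ^ 4 + q ^ 3 + q ^ 2 + q + 1)) := by
  have h1 : 1 < q := hq ▸ Fintype.one_lt_card
  refine relIndex_eq (card_H_inf torF4_inj) (pow_ne_zero _ (by omega)) ?_
  rw [Cfsg.Agent.S1062.result hq, hq]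
  change _ = (q - 1) ^ 4 * _
  zify [h1.le, Nat.one_le_pow 2 q (by omega), Nat.one_le_pow 6 q (by omega),
    Nat.one_le_pow 8 q (by omega), Nat.one_le_pow 12 q (by omega)]
  ring

theorem F4_le_ten {F : Type*} [Field F] [Fintype F] (h5 : ¬ 11 ∣ Fintype.card F) {r : ℕ}
    {H : Subgroup (chevF4.group F)} {N : Subgroup H} [N.Normal]
    (h : Nonempty (H ⧸ N ≃* alternatingGroup (Fin r))) : r ≤ 10 := by
  by_contra hr
  obtain ⟨L, f, hf⟩ := exists_onto (k := 11) (by omega) h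
  obtain ⟨K, _, _, φ, hK⟩ := exists_ext F (d := 10) (by norm_num)
  refine no11 ctl_F4 ?_ (emb_map φ (group_le_comap φ) H L) hf
  rw [idx_F4 rfl, ← ZMod.natCast_eq_zero_iff]
  push_cast
  rw [hK, fermat (k := 1) h5 rfl]
  decide

theorem F4_le_eleven {F : Type*} [Field F] [Fintype F] (h5 : ¬ 5 ∣ Fintype.card F)
    (h7 : ¬ 7 ∣ Fintype.card F) {r : ℕ}
    {H : Subgroup (chevF4.group F)} {N : Subgroup H} [N.Normal]
    (h : Nonempty (H ⧸ N ≃* alternatingGroup (Fin r))) : r ≤ 11 := by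
  by_contra hr
  obtain ⟨L, f, hf⟩ := exists_onto (k := 12) (by omega) h
  obtain ⟨K, _, _, φ, hK⟩ := exists_ext F (d := 12) (by norm_num)
  refine no12 ctl_F4 (mat_Gp (D := chevF4) (K := K) ▸ (mat chevF4 K).T.H_le_Gp) H_comm ?_ ?_
    (emb_map φ (group_le_comap φ) H L) hf
  · rw [idx_F4 rfl, ← ZMod.natCast_eq_zero_iff]
    push_cast
    rw [hK, fermat (k := 3) h5 rfl]
    decide
  · rw [idx_F4 rfl, ← ZMod.natCast_eq_zero_iff]
    push_cast
    rw [hK, fermat (k := 2) h7 rfl]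
    decide

end F4

section D4

variable {K : Type*} [Field K] [Fintype K] {q : ℕ} (hq : IsPrimePow q)
  (hK : Fintype.card K = q ^ 3)
include hq hK

theorem idx_D4 : (mat chevD4 K).T.H.relIndex (twistedD4 K q) =
    q ^ 12 * (q + 1) * (q ^ 3 + 1) * (q ^ 8 + q ^ 4 + 1) := by
  have h1 : 1 < q := hq.one_lt
  have h3 : 1 < q ^ 3 := Nat.one_lt_pow (by norm_num) h1
  refine relIndex_eq (card_H_D4 hq hK) (mul_ne_zero (by omega) (by omega)) ?_
  rw [card_D4 hq hK]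
  zify [h1.le, Nat.one_le_pow 2 q (by omega), Nat.one_le_pow 6 q (by omega), h3.le]
  ring

theorem rk_D4 : rk ↥((mat chevD4 K).T.H ⊓ twistedD4 K q) ≤ 4 := by
  rw [twistedD4_eq_Fix hq hK, H_inf_Fix_D4 hq hK]
  refine (rk_le_of_surj mul_comm _ (MonoidHom.subgroupMap_surjective _ _)).trans
    ((rk_le_of_inj (((Pi.evalMonoidHom _ ⟨0, by decide⟩).prod
      (Pi.evalMonoidHom _ ⟨1, by decide⟩)).comp (smD4 hq hK).F.subtype) ?_).trans (rk_units_sq K))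
  rw [injective_iff_map_eq_one]
  rintro ⟨c, hc⟩ e
  obtain ⟨l, hl, rfl⟩ := exists_tl c
  obtain ⟨a, b, c, d, rfl⟩ : ∃ a b c d, l = [a, b, c, d] :=
    match l, hl with | [a, b, c, d], _ => ⟨a, b, c, d, rfl⟩
  obtain ⟨-, rfl, rfl⟩ := (tl_mem_F_D4 hq hK).1 hc
  obtain rfl : a = 1 := congrArg Prod.fst e
  obtain rfl : b = 1 := congrArg Prod.snd e
  ext i
  fin_cases i <;> simp [tl]

theorem D4_le_six (h5 : ¬ 5 ∣ q) {r : ℕ} {H : Subgroup (twistedD4 K q)} {N : Subgroup H} [N.Normal]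
    (h : Nonempty (H ⧸ N ≃* alternatingGroup (Fin r))) : r ≤ 6 := by
  by_contra hr
  obtain ⟨L, f, hf⟩ := exists_onto (k := 7) (by omega) h
  obtain ⟨K', _, _, φ, hK'⟩ := exists_ext K (d := 4) (by norm_num)
  have hq' : IsPrimePow (q ^ 4) := hq.pow (by norm_num)
  have hK'' : Fintype.card K' = (q ^ 4) ^ 3 := by rw [hK', hK]; ring
  have hle : twistedD4 K q ≤ (twistedD4 K' (q ^ 4)).comap (Matrix.GeneralLinearGroup.map φ) := by
    rw [twistedD4, mat_genSubgroup, closure_le]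
    rintro _ ⟨w, hw, rfl⟩
    have h3 : ∀ t : K, t ^ q ^ 3 = t := fun t => by rw [← hK, FiniteField.pow_card]
    have e1 : ∀ t : K, φ t ^ q ^ 4 = φ (t ^ q) := fun t => by
      rw [← map_pow, pow_succ q 3, pow_mul, h3]
    have e2 : ∀ t : K, φ t ^ (q ^ 4) ^ 2 = φ (t ^ q ^ 2) := fun t => by
      rw [sq, pow_mul, e1, e1, ← pow_mul, sq]
    rw [SetLike.mem_coe, mem_comap, map_wd]
    refine wd_mem_D4 (mem_d4Words.2 ?_)
    rcases mem_d4Words.1 hw with (⟨t, rfl⟩ | ⟨t, rfl⟩) | ⟨t, ht, rfl⟩ | ⟨t, ht, rfl⟩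
    · exact Or.inl (Or.inl ⟨φ t, by simp [e1, e2]⟩)
    · exact Or.inl (Or.inr ⟨φ t, by simp [e1, e2]⟩)
    · exact Or.inr (Or.inl ⟨φ t, by rw [e1, ht], rfl⟩)
    · exact Or.inr (Or.inr ⟨φ t, by rw [e1, ht], rfl⟩)
  refine no7_five ((hasNF_tw (isTw_D4 hq' hK'')).ctl_exp H_comm (Wf_pow (n := 3) orderOf_wo_D4)) ?_
    (emb_map φ hle H L) hf
  rw [idx_D4 hq' hK'', ← ZMod.natCast_eq_zero_iff]
  have := fermat (k := 1) h5 (rfl : 4 = (5 - 1) * 1)
  push_cast at this ⊢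
  rw [this]
  decide

theorem D4_le_seven (h5 : q % 4 = 1) {r : ℕ} {H : Subgroup (twistedD4 K q)} {N : Subgroup H}
    [N.Normal] (h : Nonempty (H ⧸ N ≃* alternatingGroup (Fin r))) : r ≤ 7 := by
  by_contra hr
  obtain ⟨L, f, hf⟩ := exists_onto (k := 8) (by omega) h
  have hN := fun o => (isTw_D4 hq hK).exists_no o
  refine no8 (not_two_dvd (RD.w0_mul_w0 _) (RD.w0_mul_w0 _) orderOf_wo_D4 (Tw.wo_mem_W _)
    (Tw.wo_mem_W _) (hN 0) (hN 1) ?_) (fun m hm hm' => ?_) H_comm (rk_D4 hq hK)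
    (emb_map (RingHom.id K) (fun g hg => by simpa using hg) H L) hf
  · rw [idx_D4 hq hK, ← ZMod.natCast_eq_zero_iff]
    push_cast
    rcases mod_eight h5 with h | h <;> rw [h] <;> decide
  · obtain ⟨w, hw, hac⟩ := (isTw_D4 hq hK).exists_ac hm hm'
    exact mem_H_of_ac (pow_mem hm 6) (Wf_pow (n := 3) orderOf_wo_D4 w hw ▸ ac_pow hac 6)

end D4

theorem ree_le_six {K : Type*} [Field K] [Fintype K] {m : ℕ}
    (hK : Fintype.card K = 2 ^ (2 * m + 1)) {r : ℕ} {H : Subgroup (twistedF4 K (2 ^ m))}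
    {N : Subgroup H} [N.Normal] (h : Nonempty (H ⧸ N ≃* alternatingGroup (Fin r))) : r ≤ 6 := by
  by_contra hr
  obtain ⟨L, f, hf⟩ := exists_onto (k := 7) (by omega) h
  refine no7_seven ((hasNF_tw (isTw_F4 hK)).ctl_exp H_comm (Wf_pow (n := 4) orderOf_wo_F4)) ?_
    (emb_map (RingHom.id K) (fun g hg => by simpa using hg) H L) hf
  have h7 : ∀ n : ℕ, (2 : ZMod 7) ^ n = 1 ∨ (2 : ZMod 7) ^ n = 2 ∨ (2 : ZMod 7) ^ n = 4 := by
    intro n
    induction n with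
    | zero => simp
    | succ n ih => rw [pow_succ]; rcases ih with h | h | h <;> rw [h] <;> decide
  have hc := card_F4 hK
  have hH := card_H_F4 hK
  have h7 := h7 (2 * m + 1)
  have h1 : 1 < 2 ^ (2 * m + 1) := Nat.one_lt_pow (by omega) (by norm_num)
  have h2 : ((2 ^ (2 * m + 1) : ℕ) : ZMod 7) = 2 ^ (2 * m + 1) := by push_cast; rfl
  rw [← h2] at h7
  generalize 2 ^ (2 * m + 1) = q at hc hH h1 h7
  rw [relIndex_eq (b := q ^ 12 * (q ^ 3 + 1) * (q ^ 3 + q ^ 2 + q + 1) * (q ^ 6 + 1)) hH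
    (pow_ne_zero _ (by omega)) (by
      rw [hc]
      zify [h1.le, Nat.one_le_pow 4 q (by omega)]
      ring), ← ZMod.natCast_eq_zero_iff]
  push_cast
  rcases h7 with h | h | h <;> rw [h] <;> decide

end H55.Alt
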