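/- Sylow 2-subgroups of type `A₁₂`, job EA: the large elementary abelian subgroups of the model. -/
import Cfsg.Agent.H51.A12Spec

set_option autoImplicit false

namespace H55.A12EA

open Subgroup H98 H51.X12 H20.X16.BV

theorem card_Bc : Nat.card Bc = 32 := (card_M _).trans (by decide +kernel)
theorem card_Bk : Nat.card Bk = 32 := (card_M _).trans (by decide +kernel)
theorem card_Bs : Nat.card Bs = 32 := (card_M _).trans (by decide +kernel)

set_option synthInstance.maxSize 1024 in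
theorem cyc : ∀ x : M, x * x = 1 → x.r ≠ 1 → ∀ z : M, (z.r = 1 ∨ z.r = x.r) → z * x = x * z →
    (x.r = rr 1 ∧ z ∈ Bc) ∨ (x.r = rr 2 ∧ z ∈ Bk) ∨ (x.r = rr 3 ∧ sM * z * sM⁻¹ ∈ Bk) ∨
      (x.r = rr 4 ∧ z ∈ Bs) ∨ (x.r = rr 5 ∧ kM * z * kM⁻¹ ∈ Bs) := by decide +kernel

theorem four : ∀ r s : R, r * r = 1 → s * s = 1 → r * s = s * r → r ≠ 1 → s ≠ 1 → s ≠ r →
    (r = rr 1 ∧ (s = rr 2 ∨ s = rr 4 ∨ r * s = rr 2 ∨ r * s = rr 4)) ∨
    (s = rr 1 ∧ (r = rr 2 ∨ r = rr 4 ∨ r * s = rr 2 ∨ r * s = rr 4)) ∨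
    (r * s = rr 1 ∧ (r = rr 2 ∨ r = rr 4 ∨ s = rr 2 ∨ s = rr 4)) := by decide +kernel

theorem fk : ∀ x : M, x.r = rr 1 → x * x = 1 → ∀ y : M, y.r = rr 2 → y * y = 1 → x * y = y * x →
    ∀ z : M, z * x = x * z → z * y = y * z → z ∈ E := by decide +kernel

theorem fs : ∀ x : M, x.r = rr 1 → x * x = 1 → x ∈ E' → ∀ y : M, y.r = rr 4 → y * y = 1 →
    x * y = y * x → ∀ z : M, z * x = x * z → z * y = y * z → z ∈ E' := by decide +kernel

theorem fs' : ∀ x : M, x.r = rr 1 → x * x = 1 → x ∈ E' ∨ iA (el 1) * x * (iA (el 1))⁻¹ ∈ E' := by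
  decide +kernel

theorem comm {B : Subgroup M} (h : ∀ x ∈ B, x * x = 1) {x y : M} (hx : x ∈ B) (hy : y ∈ B) :
    x * y = y * x := by
  rw [← inv_eq_of_mul_eq_one_right (h _ (mul_mem hx hy)), mul_inv_rev,
    inv_eq_of_mul_eq_one_right (h _ hx), inv_eq_of_mul_eq_one_right (h _ hy)]

theorem fin {B U : Subgroup M} (hc : 32 ≤ Nat.card B) (hU : Nat.card U = 32) (m : M)
    (h : ∀ z ∈ B, m * z * m⁻¹ ∈ U) : cj m B = U :=
  eq_of_le_of_card_ge (by rintro _ ⟨z, hz, rfl⟩; exact h z hz) (by rw [card_cj, hU]; exact hc)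

theorem pair {B : Subgroup M} (h : ∀ x ∈ B, x * x = 1) (hc : 32 ≤ Nat.card B) {x y : M} (hx : x ∈ B)
    (hy : y ∈ B) (e : x.r = rr 1) (e' : y.r = rr 2 ∨ y.r = rr 4) :
    ∃ m : M, cj m B = E ∨ cj m B = Bc ∨ cj m B = Bk ∨ cj m B = Bs ∨ cj m B = E' := by
  rcases e' with e' | e'
  · exact ⟨1, .inl (fin hc card_E 1 fun z hz => by
      simpa using fk x e (h x hx) y e' (h y hy) (comm h hx hy) z (comm h hz hx) (comm h hz hy))⟩
  · rcases fs' x e (h x hx) with k | k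
    · exact ⟨1, .inr (.inr (.inr (.inr (fin hc card_E' 1 fun z hz => by
        simpa using fs x e (h x hx) k y e' (h y hy) (comm h hx hy) z (comm h hz hx)
          (comm h hz hy)))))⟩
    · have c : ∀ a ∈ B, ∀ b ∈ B, iA (el 1) * a * (iA (el 1))⁻¹ * (iA (el 1) * b * (iA (el 1))⁻¹) =
          iA (el 1) * b * (iA (el 1))⁻¹ * (iA (el 1) * a * (iA (el 1))⁻¹) := fun a ha b hb => by
        rw [conj_mul, conj_mul, comm h ha hb]
      have s : ∀ a ∈ B, iA (el 1) * a * (iA (el 1))⁻¹ * (iA (el 1) * a * (iA (el 1))⁻¹) = 1 :=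
        fun a ha => by rw [conj_mul, h a ha]; simp
      exact ⟨iA (el 1), .inr (.inr (.inr (.inr (fin hc card_E' _ fun z hz =>
        fs _ (by simp [e]) (s x hx) k _ (by simp [e']) (s y hy) (c x hx y hy) _ (c z hz x hx)
          (c z hz y hy)))))⟩

theorem e5 (B : Subgroup M) (h : ∀ x ∈ B, x * x = 1) (hc : 32 ≤ Nat.card B) : B ≤ A ∨ ∃ m : M,
    cj m B = E ∨ cj m B = Bc ∨ cj m B = Bk ∨ cj m B = Bs ∨ cj m B = E' := by
  by_cases hA : ∀ x ∈ B, x.r = 1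
  · exact .inl fun x hx => (by decide +kernel : ∀ x : M, x.r = 1 → x ∈ A) x (hA x hx)
  right
  push Not at hA
  obtain ⟨x, hx, x1⟩ := hA
  by_cases hK : ∀ z ∈ B, z.r = 1 ∨ z.r = x.r
  · have k := fun z hz => cyc x (h x hx) x1 z (hK z hz) (comm h hz hx)
    have d : ∀ i < 6, ∀ j < 6, rr i = rr j → i = j := by decide +kernel
    have d' : ∀ {i j}, x.r = rr i → x.r = rr j → i < 6 → j < 6 → i = j :=
      fun a b c e => d _ c _ e (a.symm.trans b)
    rcases k x hx with ⟨e, -⟩ | ⟨e, -⟩ | ⟨e, -⟩ | ⟨e, -⟩ | ⟨e, -⟩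
    · refine ⟨1, .inr (.inl (fin hc card_Bc 1 fun z hz => ?_))⟩
      rcases k z hz with ⟨f, g⟩ | ⟨f, g⟩ | ⟨f, g⟩ | ⟨f, g⟩ | ⟨f, g⟩ <;>
        first | simpa using g | (have := d' e f (by decide) (by decide); omega)
    · refine ⟨1, .inr (.inr (.inl (fin hc card_Bk 1 fun z hz => ?_)))⟩
      rcases k z hz with ⟨f, g⟩ | ⟨f, g⟩ | ⟨f, g⟩ | ⟨f, g⟩ | ⟨f, g⟩ <;>
        first | (have := d' e f (by decide) (by decide); omega) | simpa using g
    · refine ⟨sM, .inr (.inr (.inl (fin hc card_Bk _ fun z hz => ?_)))⟩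
      rcases k z hz with ⟨f, g⟩ | ⟨f, g⟩ | ⟨f, g⟩ | ⟨f, g⟩ | ⟨f, g⟩ <;>
        first | (have := d' e f (by decide) (by decide); omega) | exact g
    · refine ⟨1, .inr (.inr (.inr (.inl (fin hc card_Bs 1 fun z hz => ?_))))⟩
      rcases k z hz with ⟨f, g⟩ | ⟨f, g⟩ | ⟨f, g⟩ | ⟨f, g⟩ | ⟨f, g⟩ <;>
        first | (have := d' e f (by decide) (by decide); omega) | simpa using g
    · refine ⟨kM, .inr (.inr (.inr (.inl (fin hc card_Bs _ fun z hz => ?_))))⟩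
      rcases k z hz with ⟨f, g⟩ | ⟨f, g⟩ | ⟨f, g⟩ | ⟨f, g⟩ | ⟨f, g⟩ <;>
        first | (have := d' e f (by decide) (by decide); omega) | exact g
  · push Not at hK
    obtain ⟨y, hy, y1, y2⟩ := hK
    have xy := mul_mem hx hy
    rcases four x.r y.r (congrArg M.r (h x hx)) (congrArg M.r (h y hy))
      (congrArg M.r (comm h hx hy)) x1 y1 y2 with
      ⟨e, f | f | f | f⟩ | ⟨e, f | f | f | f⟩ | ⟨e, f | f | f | f⟩
    exacts [pair h hc hx hy e (.inl f), pair h hc hx hy e (.inr f), pair h hc hx xy e (.inl f),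
      pair h hc hx xy e (.inr f), pair h hc hy hx e (.inl f), pair h hc hy hx e (.inr f),
      pair h hc hy xy e (.inl f), pair h hc hy xy e (.inr f), pair h hc xy hx e (.inl f),
      pair h hc xy hx e (.inr f), pair h hc xy hy e (.inl f), pair h hc xy hy e (.inr f)]

theorem jobEA : JobEA := by
  refine ⟨e5, fun B h hc => ?_⟩
  rcases e5 B h (by omega) with k | ⟨m, k⟩
  · exact eq_of_le_of_card_ge k (by rw [card_A]; exact hc)
  · rw [← card_cj m] at hc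
    rcases k with k | k | k | k | k <;> rw [k] at hc <;>
      simp only [card_E, card_Bc, card_Bk, card_Bs, card_E'] at hc <;> omega

end H55.A12EA
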