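/- A7 tower, slot U: no configuration in `PSU_n(q)`, `3 ≤ n ≤ 5`, `q` odd. -/
import Cfsg.Agent.H55.A7R
import Cfsg.Agent.H55.A7G
import Cfsg.Agent.H13.A7LA
import Cfsg.Agent.H58.PsuGraph2

set_option autoImplicit false

namespace H55.A7U
open Subgroup Cfsg H49.A7 Module H55.A7R H59 Matrix
open scoped commutatorElement

section Abs
variable {F V G : Type} [Field F] [AddCommGroup V] [Module F V] {τ : F →+* F} {B : V →ₛₗ[τ] V →ₗ[F] F} [Group G]

/-- the natural representation -/
noncomputable def rep (E : G ≃* sisom B) : Representation F G V :=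
  LinearEquiv.automorphismGroup.toLinearMapMonoidHom.comp ((sisom B).subtype.comp E.toMonoidHom)

theorem rep_inj (E : G ≃* sisom B) : Function.Injective (rep E) := fun _ _ h =>
  E.injective (Subtype.ext (LinearEquiv.toLinearMap_injective h))

/-- maps that fix `W'` and move vectors inside `W` -/
def Sup (W W' : Submodule F V) : Subgroup (V ≃ₗ[F] V) where
  carrier := {g | (∀ x ∈ W', g x = x) ∧ ∀ x, g x - x ∈ W}
  mul_mem' := fun {a b} ha hb => ⟨fun x hx => by rw [LinearEquiv.mul_apply, hb.1 x hx, ha.1 x hx], fun x => by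
    simpa using W.add_mem (ha.2 (b x)) (hb.2 x)⟩
  one_mem' := ⟨fun _ _ => rfl, fun x => by simp⟩
  inv_mem' := fun {a} ha => ⟨fun x hx => by rw [LinearEquiv.coe_inv, LinearEquiv.symm_apply_eq, ha.1 x hx], fun x => by
    simpa using W.neg_mem (ha.2 (a⁻¹ x))⟩

variable [Finite F] [FiniteDimensional F V]

theorem rep_sc (hB : IsHerm B) (h2 : 2 ≤ finrank F V) (E : G ≃* sisom B) : Sc (rep E) (center G) := fun k hk =>
  (hB.mem_center_sisom_iff h2 _).1 ((mem_center_congr E k).1 hk)

theorem inner (hB : IsHerm B) (E : G ≃* sisom B) {α : MulAut G} {A : Subgroup (G ⧸ center G)}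
    (h : Cf (H57.quotCenterAut G α) A) {γ : V ≃ₗ[F] V} (hγ : γ ∈ isom B)
    (hα : ∀ x, (E (α x)).1 = γ * (E x).1 * γ⁻¹) {m : F} (hm : ∀ v, γ (γ v) = (m * m) • v)
    (ns : ∀ c : F, ¬ ∀ v, γ v = c • v) (h2 : (2 : F) ≠ 0) (h3 : 3 ≤ finrank F V) (h5 : finrank F V ≤ 5) : False := by
  haveI := finite_linearEquiv (F := F) (V := V)
  haveI : Finite G := Finite.of_equiv _ E.symm.toEquiv
  obtain ⟨P, s⟩ := exists_sit h
  have la := H13.A7.jobLA
  have S := (rep_sc hB (by omega) E).res (P := P)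
  let W : F → Submodule F V := fun c => Module.End.eigenspace (γ : V →ₗ[F] V) c
  have mW : ∀ {c v}, v ∈ W c ↔ γ v = c • v := Module.End.mem_eigenspace_iff
  have nm : τ (m * m) * (m * m) = 1 := hB.norm_one_of_scalar (by omega) (mul_mem hγ hγ) hm
  have m0 : ∀ {c : F}, c * c = m * m → c ≠ 0 := by
    rintro _ e rfl
    simp [← e] at nm
  have iW : ∀ c, Iv ((rep E).comp P.subtype) (W c) := fun c g v hv => mW.2 (by
    have := DFunLike.congr_fun (mul_inv_eq_iff_eq_mul.1 ((hα g).symm.trans (by rw [s.fix g g.2]))) v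
    change γ ((E g).1 v) = c • (E g).1 v
    rw [← map_smul, ← mW.1 hv]
    exact this)
  have dec : ∀ {c : F}, c * c = m * m → ∀ v, ∃ a ∈ W c, ∃ b ∈ W (-c), a + b = v := fun {c} e v => by
    have := m0 e
    refine ⟨(2 : F)⁻¹ • (v + c⁻¹ • γ v), mW.2 ?_, (2 : F)⁻¹ • (v - c⁻¹ • γ v), mW.2 ?_, ?_⟩
    · simp only [map_smul, map_add, hm, ← e]
      match_scalars <;> field_simp
    · simp only [map_smul, map_sub, hm, ← e]
      match_scalars <;> field_simp
    · match_scalars <;> field_simp <;> ring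
  have dj : ∀ {c : F}, c * c = m * m → Disjoint (W (-c)) (W c) := fun {c} e =>
    Submodule.disjoint_def.2 fun v a b => by
      have : (2 * c) • v = 0 := by
        have := (mW.1 b).symm.trans (mW.1 a)
        rw [neg_smul, eq_neg_iff_add_eq_zero] at this
        rw [two_mul, add_smul, this]
      exact (smul_eq_zero.1 this).resolve_left (mul_ne_zero h2 (m0 e))
  have top : ∀ {c : F}, c * c = m * m → W c ⊔ W (-c) = ⊤ := fun e =>
    eq_top_iff.2 fun v _ => Submodule.mem_sup.2 (dec e v)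
  have dim : ∀ {c : F}, c * c = m * m → finrank F (W c) + finrank F (W (-c)) = finrank F V := fun {c} e => by
    rw [← Submodule.finrank_sup_add_finrank_inf_eq, top e, (dj e).symm.eq_bot, finrank_top, finrank_bot, add_zero]
  have frm : ∀ {c c' u v}, u ∈ W c → v ∈ W c' → B u v = τ c * c' * B u v := fun {c c' u v} hu hv => by
    rw [mul_assoc, ← form_smul_right, ← form_smul_left, ← mW.1 hu, ← mW.1 hv, hγ]
  have big : ∀ c : F, c * c = m * m → finrank F (W c) ≤ 2 := fun c hc => by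
    by_contra! l
    have z2 : ∀ {x : F}, x = -x → x = 0 := fun e => (mul_eq_zero.1 (by linear_combination e)).resolve_left h2
    have n1 : τ c * c = 1 := by
      rcases mul_self_eq_one_iff.1 (show τ c * c * (τ c * c) = 1 by rw [← nm, ← hc, map_mul]; ring) with e | e
      · exact e
      have := Submodule.finrank_mono (show W c ≤ perp B (W c) from fun v hv =>
        mem_perp.2 fun u hu => z2 (by simpa [e] using frm hu hv))
      have := hB.finrank_add_finrank_perp (W c)
      omega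
    have o : ∀ {u v}, u ∈ W c → v ∈ W (-c) → B u v = 0 := fun hu hv => z2 (by simpa [n1] using frm hu hv)
    have d1 := dim hc
    have d2 : finrank F (W (-c)) ≠ 0 := fun e => ns c fun v => mW.1 (by
      have := top hc
      rw [Submodule.finrank_eq_zero.1 e, sup_bot_eq] at this
      exact this ▸ trivial)
    have nd : ∀ {u}, u ∈ W c → u ≠ 0 → ∃ d ∈ W c, B u d ≠ 0 := fun {u} hu u0 => by
      by_contra! k
      exact u0 (hB.nondeg u fun y => by
        obtain ⟨a, ha, b, hb, rfl⟩ := dec hc y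
        rw [map_add, k a ha, o hu hb, add_zero])
    obtain ⟨e, he, e0, ee⟩ := hB.exists_isotropic_mem (W := W c) (by omega)
    obtain ⟨d, hd, ed⟩ := nd he e0
    obtain ⟨f, ef, ff, a, b, hf⟩ := hB.exists_isotropic_partner ee ed
    replace hf : f ∈ W c := hf ▸ add_mem (Submodule.smul_mem _ _ he) (Submodule.smul_mem _ _ hd)
    have H : IsHyp B e f := ⟨hB, ee, ff, ef⟩
    obtain ⟨u, hu, u0⟩ := Submodule.exists_mem_ne_zero_of_ne_bot (p := W c ⊓ hypPerp B e f) fun k => by
      have := Submodule.finrank_sup_add_finrank_inf_eq (W c) (hypPerp B e f)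
      have := hB.finrank_hypPerp ee ef
      have := Submodule.finrank_le (W c ⊔ hypPerp B e f)
      rw [k, finrank_bot] at *
      omega
    obtain ⟨w, hw, uw⟩ := nd hu.1 u0
    have pw : (H.proj w : V) ∈ W c := H.coe_proj w ▸
      sub_mem (sub_mem hw (Submodule.smul_mem _ _ he)) (Submodule.smul_mem _ _ hf)
    obtain ⟨t, ht⟩ := not_forall.1 (mt (hB.form_eq_zero_iff_forall (x := u) (y := H.proj w)).2 (by
      have a1 := H.we ⟨u, hu.2⟩
      have a2 := H.wf ⟨u, hu.2⟩
      simp only at a1 a2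
      simpa [H.coe_proj, a1, a2] using uw))
    have mk : ∀ x : hypPerp B e f, (x : V) ∈ W c → ∃ g : G, (E g).1 ∈ unipRad B e ⊓ Sup (W c) (W (-c)) ∧
        H.cu (E g).1 = x := fun x hx => by
      obtain ⟨g, g1, g2⟩ := H.exists_cu x
      obtain ⟨g, rfl⟩ := E.surjective g
      refine ⟨g, ⟨g1, fun y hy => by simp [H.apply_eq g1, g2, o hx hy, o he hy], fun y => ?_⟩, g2⟩
      rw [H.apply_eq g1, g2, show ∀ a b c d : V, a + b - c - d - a = b - c - d by intros; abel]
      exact sub_mem (sub_mem (Submodule.smul_mem _ _ he) (Submodule.smul_mem _ _ hx)) (Submodule.smul_mem _ _ he)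
    obtain ⟨g1, a1, b1⟩ := mk ⟨u, hu.2⟩ hu.1
    obtain ⟨g2, a2, b2⟩ := mk (t • H.proj w) (Submodule.smul_mem _ _ pw)
    obtain ⟨p, hp⟩ := CharP.exists F
    haveI : Fact p.Prime := ⟨CharP.char_is_prime F p⟩
    let ι : G →* V ≃ₗ[F] V := (sisom B).subtype.comp E.toMonoidHom
    have ii : Function.Injective ι := (sisom B).subtype_injective.comp E.injective
    have cc := comm_cent h (U := ((unipRad B e ⊓ Sup (W c) (W (-c))).comap ι).map (QuotientGroup.mk' _)) (p := p) (by
      rintro _ ⟨g, hg, rfl⟩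
      refine congrArg QuotientGroup.mk (E.injective (Subtype.ext ((hα g).trans
        (mul_inv_eq_iff_eq_mul.2 (LinearEquiv.ext fun v => ?_)))))
      obtain ⟨a, ha, b, hb, rfl⟩ := dec hc v
      have ga : (E g).1 a ∈ W c := sub_add_cancel ((E g).1 a) a ▸ add_mem (hg.2.2 a) ha
      have gb : (E g).1 b = b := hg.2.1 b hb
      simp only [LinearEquiv.mul_apply, map_add, gb, mW.1 ha, mW.1 hb, mW.1 ga, map_smul])
      (by rintro rfl; exact h2 (by simpa using CharP.cast_eq_zero F 2))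
      ((((isPGroup_unipRad p e).to_inf_left).comap_of_injective ι ii).map _) ⟨g1, a1, rfl⟩ ⟨g2, a2, rfl⟩
    have y : ι ⁅g1, g2⁆ ∈ unipRad B e ⊓ Sup (W c) (W (-c)) := by
      rw [map_commutatorElement]
      exact mul_mem (mul_mem (mul_mem a1 a2) (inv_mem a1)) (inv_mem a2)
    refine s.nt (rep_inj E) (lu la s.ty S (N := rep E ⁅g1, g2⁆ - 1) (fun k => ht ?_)
      (isPElt_iff_isNilpotent.1 (isPElt_of_mem_unipRad (p := p) y.1)) (fun g v => ?_) (W := W (-c))
      (tr_small la s.ty S (iW _) (.inl (by omega))) (fun v hv => sub_eq_zero.2 (y.2.1 v hv))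
      ((dj hc).mono_right (by rintro _ ⟨v, rfl⟩; exact y.2.2 v)) h5 (.inl (by omega)))
    · have k' := congrArg ι (commutatorElement_eq_one_iff_mul_comm.1
        (rep_inj E ((sub_eq_zero.1 k).trans (map_one _).symm)))
      rw [map_mul, map_mul] at k'
      have := (H.commute_iff a1.1 a2.1).1 k'
      rwa [b1, b2] at this
    · have := DFunLike.congr_fun (congrArg (rep E) (s.cen ⁅g1, g2⁆ cc g g.2)) v
      simp only [map_mul, Module.End.mul_apply] at this
      simp [this]
  exact s.nt (rep_inj E) (top rfl ▸ (tr_small la s.ty S (iW m) (.inl (big m rfl))).sup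
    (tr_small la s.ty S (iW _) (.inl (big _ (neg_mul_neg m m)))))

end Abs

variable {F : Type} [Field F] [Fintype F] {q n : ℕ}

theorem inn (hF : Fintype.card F = q ^ 2) (hq : Odd q) (h3 : 3 ≤ n) (h5 : n ≤ 5) (g : GU n F q)
    {A : Subgroup (PSU n F q)} (h : Cf (psuDiag n F q g) A) : False := by
  have n2 : 2 ≤ n := by omega
  have rc : ringChar F ≠ 2 := fun k => by
    have := FiniteField.even_card_of_char_two k
    rw [hF, ← Nat.even_iff, ← Nat.not_odd_iff_even] at this
    exact this hq.pow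
  have fr : finrank F (Fin n → F) = n := by simp
  obtain ⟨l, hl⟩ := (mem_center_GU_iff hF n2 (g * g)).1 ((ker_psuDiag hF n2).le ((map_mul _ _ _).trans h.sq))
  have hv : ∀ v, (guEquiv hF n g).1 ((guEquiv hF n g).1 v) = l • v := fun v => by
    rw [guEquiv_apply, guEquiv_apply, mulVec_mulVec, ← Units.val_mul, ← Subgroup.coe_mul, hl]; simp [smul_mulVec]
  have nl : l ^ q * l = 1 := (isHerm_uForm hF n).norm_one_of_scalar (by omega)
    (mul_mem (guEquiv hF n g).2 (guEquiv hF n g).2) hv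
  obtain ⟨m, rfl⟩ := (FiniteField.isSquare_iff rc (a := l) (right_ne_zero_of_mul_eq_one nl)).2 (by
    obtain ⟨k, rfl⟩ := hq
    rw [hF, show (2 * k + 1) ^ 2 / 2 = (2 * k + 1 + 1) * k by
      rw [show (2 * k + 1) ^ 2 = 2 * ((2 * k + 1 + 1) * k) + 1 by ring]; omega, pow_mul, pow_succ, nl, one_pow])
  refine inner (isHerm_uForm hF n) (suEquiv hF n) (α := suDiag n F q g) h (guEquiv hF n g).2
    (fun x => eq_mul_inv_iff_mul_eq.2 (LinearEquiv.ext fun v => ?_)) hv (fun c k => h.ne ?_)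
    (Ring.two_ne_zero rc) (by omega) (by omega)
  · simp only [LinearEquiv.mul_apply, suEquiv_apply, guEquiv_apply, suDiag_coe, mulVec_mulVec, mul_assoc,
      Units.inv_mul, mul_one]
  · refine (ker_psuDiag hF n2).ge ((mem_center_GU_iff hF n2 g).2 ⟨c, matrix_ext_mulVec fun v => ?_⟩)
    rw [← guEquiv_apply hF, k]; simp [smul_mulVec]

theorem pow_inn (hF : Fintype.card F = q ^ 2) (n2 : 2 ≤ n) :
    ∀ d ∈ inndiagPSU n F q, d ^ n ∈ (MulAut.conj : PSU n F q →* _).range := fun d hd => by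
  obtain ⟨x, rfl⟩ := inndiagPSU_eq_range.le hd
  obtain ⟨y, hy⟩ : x ^ n * guScalar hF n (guDet hF n x)⁻¹ ∈ (suToGU n F q).range := by
    rw [range_suToGU, ← ker_guDet hF, MonoidHom.mem_ker, map_mul, map_pow, guDet_guScalar, inv_pow, mul_inv_cancel]
  exact ⟨y, by rw [← psuDiag_suToGU, ← map_pow]; exact ((psuDiag_eq_iff hF n2).2 ⟨_, hy.symm⟩).symm⟩

theorem dual (hF : Fintype.card F = q ^ 2) (g : GU n F q) {x : SU n F q}
    (h : (suDiag n F q g * suField n F q (frobAut hF)) x = x) :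
    (rep (suEquiv hF n) x).charpoly = (rep (suEquiv hF n) x⁻¹).charpoly := by
  have cp : ∀ x : SU n F q, (rep (suEquiv hF n) x).charpoly = (x.1 : Matrix (Fin n) (Fin n) F).charpoly := fun x => by
    rw [← charpoly_toLin']
    exact congrArg _ (LinearMap.ext (suEquiv_apply hF n x))
  have a := congrArg (fun y : SU n F q => (y.1 : Matrix (Fin n) (Fin n) F)) h
  have b : (x.1 : Matrix (Fin n) (Fin n) F)ᵀ * (x.1 : Matrix (Fin n) (Fin n) F).map (frobAut hF) = 1 :=
    (H58.mem_GU_iff' hF _).1 (suToGU n F q x).2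
  simp only [MulAut.mul_apply, suDiag_coe, suField_coe, coe_units_inv] at a
  rw [cp, cp, ← a, charpoly_units_conj, ← inv_eq_right_inv b, ← transpose_nonsing_inv, charpoly_transpose]
  congr 1
  exact inv_eq_right_inv (congrArg (fun y : SU n F q => (y.1 : Matrix (Fin n) (Fin n) F)) (mul_inv_cancel x))

theorem gr49 (hF : Fintype.card F = q ^ 2) (h4 : 4 ≤ n) (h5 : n ≤ 5) (h7 : (7 : F) = 0) {σ : MulAut (PSU n F q)}
    (gr : IsGraphAutClassPSU σ) (o2 : orderOf σ = 2) :
    49 ∣ Nat.card (inndiagPSU n F q ⊓ centralizer {σ} : Subgroup _) := by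
  let F₀ := RingHom.eqLocusField (frob hF) (RingHom.id F)
  haveI : Fintype F₀ := Fintype.ofFinite _
  have hφ : ∀ a, a ∈ F₀.subtype.range ↔ frobAut hF a = a := fun a =>
    ⟨by rintro ⟨x, rfl⟩; exact x.2, fun k => ⟨⟨a, k⟩, rfl⟩⟩
  exact A7G.dvd49 (H58.gd_psu hφ (by omega)) (F₀.subtype.injective (by rw [map_ofNat, h7, map_zero])) (by omega) gr o2

theorem graph (hF : Fintype.card F = q ^ 2) (h3 : 3 ≤ n) (h5 : n ≤ 5) (hs : ¬ (n = 3 ∧ q = 2))
    {α : MulAut (SU n F q)} (gr : IsGraphAutClassPSU (H57.quotCenterAut _ α)) {g : GU n F q}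
    (e : α = suDiag n F q g * suField n F q (frobAut hF)) {A : Subgroup (PSU n F q)}
    (h : Cf (H57.quotCenterAut _ α) A) : False := by
  have fr : finrank F (Fin n → F) = n := by simp
  have o2 := orderOf_eq_prime ((pow_two _).trans h.sq) h.ne
  obtain ⟨P, s⟩ := exists_sit h
  have S := rep_sc (isHerm_uForm hF n) (by omega) (suEquiv hF n)
  obtain ⟨h7, h4⟩ := s.char7 H13.A7.jobLA (rep_inj _) S (by omega) fun x hx => dual hF g (e ▸ s.fix x hx)
  haveI := isSimpleGroup_PSU hF h3 hs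
  have hz : center (PSU n F q) = ⊥ := (Subgroup.normal_of_characteristic _).eq_bot_or_eq_top.resolve_right
    fun k => H14.quasi_not_comm h.qs ⟨⟨fun a b => Subtype.ext (mem_center_iff.1 (k.ge (mem_top b.1)) a)⟩⟩
  rw [fr] at h4
  exact s.seven H13.A7.jobLA h (rep_inj _) S (by omega) h7 hz (n := n)
    (by interval_cases n <;> norm_num) (pow_inn hF (by omega)) (gr49 hF h4 h5 h7 gr o2)

theorem jobU : JobU := by
  intro F _ _ q hF hq n h3 h5 σ A h
  have hs : ¬ (n = 3 ∧ q = 2) := by rintro ⟨-, rfl⟩; exact absurd hq (by decide)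
  obtain ⟨g, τ, rfl⟩ := psu_aut hF h3 hs σ
  by_cases t : τ = 1
  · subst t
    rw [map_one, mul_one] at h
    exact inn hF hq h3 h5 g h
  have sq := (pow_two _).trans h.sq
  have gr : IsGraphAutClassPSU (psuDiag n F q g * psuField n F q τ) := by
    obtain ⟨π, k1, k2⟩ := exists_aut_psu_proj hF h3 hs
    have := congrArg π sq
    rw [map_pow, map_mul, k2, (k1.ge ⟨g, rfl⟩ : π _ = 1), one_mul, map_one] at this
    exact ⟨h3, _, _, τ, by rw [orderOf_eq_prime this t]; exact even_two, (isInnerDiagonalAutPSU_iff _).2 ⟨g, rfl⟩,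
      (isFieldAutPSUOf_iff _ _).2 rfl, rfl⟩
  obtain ⟨g', e⟩ := (H58.isGraphAutClassPSU_iff hF h3 sq).1 gr
  replace e := e.trans ((H57.quotCenterAut _).map_mul (suDiag n F q g') (suField n F q (frobAut hF))).symm
  rw [e] at h gr
  exact graph hF h3 h5 hs gr rfl h

end H55.A7U
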