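/- The maps `f`, `g`, `h` of a split rank one group: `t x t = g(x) h(x) t f(x)`, and the structure
equations H1-H6 (Peterfalvi, part II, chapter IV.1). -/
import Cfsg.Agent.H69.BSDefs

set_option autoImplicit false
set_option linter.unusedSectionVars false

open Cfsg MulAction H69

namespace H55

variable {G Ω : Type*} [Group G] [MulAction G Ω]

/-- The triple `(g(x), h(x), f(x))`. -/
noncomputable def ghf (a : Ω) (t : G) (Q : Subgroup G) (x : G) : G × G × G :=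
  Classical.epsilon fun p => p.1 ∈ Q ∧ p.2.1 ∈ roD a t ∧ p.2.2 ∈ Q ∧
    t * x * t = p.1 * p.2.1 * t * p.2.2

/-- The map `g`. -/
noncomputable def fg (a : Ω) (t : G) (Q : Subgroup G) (x : G) : G := (ghf a t Q x).1

/-- The map `h`. -/
noncomputable def fh (a : Ω) (t : G) (Q : Subgroup G) (x : G) : G := (ghf a t Q x).2.1

/-- The map `f`. -/
noncomputable def ff (a : Ω) (t : G) (Q : Subgroup G) (x : G) : G := (ghf a t Q x).2.2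

variable {a : Ω} {t : G} {Q : Subgroup G}

local notation "𝐠" => fg a t Q
local notation "𝐡" => fh a t Q
local notation "𝐟" => ff a t Q

theorem eq_inv_of_odd_conj {d x : G} (hd : Odd (orderOf d)) (h : d⁻¹ * x * d = x⁻¹) :
    x * x = 1 := by
  obtain ⟨j, hj⟩ := hd
  have h1 := odd_pow_conj_eq_inv (y := d⁻¹) (x := x) (by rwa [inv_inv]) j
  rw [← hj, inv_pow, pow_orderOf_eq_one] at h1
  simp only [inv_one, one_mul, mul_one] at h1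
  exact mul_eq_one_iff_eq_inv.2 h1

namespace BS

variable (hS : IsRankOneSetup G Ω a t Q)
include hS

theorem ghf_spec {x : G} (hx : x ∈ Q) (hx1 : x ≠ 1) :
    𝐠 x ∈ Q ∧ 𝐡 x ∈ roD a t ∧ 𝐟 x ∈ Q ∧ t * x * t = 𝐠 x * 𝐡 x * t * 𝐟 x := by
  obtain ⟨g, hg, h, hh, f, hf, e⟩ := RO.exists_ghf hS (RO.txt_smul_ne hS hx hx1)
  exact Classical.epsilon_spec (p := fun p : G × G × G => p.1 ∈ Q ∧ p.2.1 ∈ roD a t ∧ p.2.2 ∈ Q ∧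
    t * x * t = p.1 * p.2.1 * t * p.2.2) ⟨(g, h, f), hg, hh, hf, e⟩

theorem ghf_eq {x g h f : G} (hg : g ∈ Q) (hh : h ∈ roD a t) (hf : f ∈ Q)
    (e : t * x * t = g * h * t * f) : 𝐠 x = g ∧ 𝐡 x = h ∧ 𝐟 x = f := by
  obtain ⟨h1, h2, h3, h4⟩ := Classical.epsilon_spec
    (p := fun p : G × G × G => p.1 ∈ Q ∧ p.2.1 ∈ roD a t ∧ p.2.2 ∈ Q ∧
      t * x * t = p.1 * p.2.1 * t * p.2.2) ⟨(g, h, f), hg, hh, hf, e⟩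
  exact RO.ghf_unique hS h1 h2 h3 hg hh hf (h4.symm.trans e)

theorem g_mem {x : G} (hx : x ∈ Q) (hx1 : x ≠ 1) : 𝐠 x ∈ Q := (ghf_spec hS hx hx1).1

theorem h_mem {x : G} (hx : x ∈ Q) (hx1 : x ≠ 1) : 𝐡 x ∈ roD a t := (ghf_spec hS hx hx1).2.1

theorem f_mem {x : G} (hx : x ∈ Q) (hx1 : x ≠ 1) : 𝐟 x ∈ Q := (ghf_spec hS hx hx1).2.2.1

theorem txt_eq {x : G} (hx : x ∈ Q) (hx1 : x ≠ 1) : t * x * t = 𝐠 x * 𝐡 x * t * 𝐟 x :=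
  (ghf_spec hS hx hx1).2.2.2

theorem tt (x : G) : t * (t * x) = x := mul_self_cancel_left hS.mul_self x

theorem conj_mem {x d : G} (hx : x ∈ Q) (hd : d ∈ roD a t) : d⁻¹ * x * d ∈ Q :=
  RO.inv_conj_mem_Q hS hd.1 hx

theorem tdt_inv (d : G) : (t * d * t)⁻¹ = t * d⁻¹ * t := by
  rw [mul_inv_rev, mul_inv_rev, RO.t_inv hS, mul_assoc]

theorem f_ne_one {x : G} (hx : x ∈ Q) (hx1 : x ≠ 1) : 𝐟 x ≠ 1 := by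
  intro h
  have e := txt_eq hS hx hx1
  rw [h, mul_one] at e
  have e2 : (t * x) • a = (𝐠 x * 𝐡 x) • a := by rw [mul_right_cancel e]
  rw [mul_smul, mul_smul, RO.smul_a_of_mem_Q hS hx, (h_mem hS hx hx1).1,
    RO.smul_a_of_mem_Q hS (g_mem hS hx hx1)] at e2
  exact RO.ta_ne hS e2

/-- H1. -/
theorem ghf_inv {x : G} (hx : x ∈ Q) (hx1 : x ≠ 1) :
    𝐠 x⁻¹ = (𝐟 x)⁻¹ ∧ 𝐡 x⁻¹ = t * (𝐡 x)⁻¹ * t ∧ 𝐟 x⁻¹ = (𝐠 x)⁻¹ := by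
  refine ghf_eq hS (Q.inv_mem (f_mem hS hx hx1))
    (RO.tdt_mem_D hS ((roD a t).inv_mem (h_mem hS hx hx1))) (Q.inv_mem (g_mem hS hx hx1)) ?_
  rw [← tdt_inv hS, txt_eq hS hx hx1]
  simp [RO.t_inv hS, mul_assoc, tt hS]

theorem f_inv {x : G} (hx : x ∈ Q) (hx1 : x ≠ 1) : 𝐟 x⁻¹ = (𝐠 x)⁻¹ := (ghf_inv hS hx hx1).2.2

theorem g_inv {x : G} (hx : x ∈ Q) (hx1 : x ≠ 1) : 𝐠 x⁻¹ = (𝐟 x)⁻¹ := (ghf_inv hS hx hx1).1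

theorem h_inv {x : G} (hx : x ∈ Q) (hx1 : x ≠ 1) : 𝐡 x⁻¹ = t * (𝐡 x)⁻¹ * t :=
  (ghf_inv hS hx hx1).2.1

theorem g_eq {x : G} (hx : x ∈ Q) (hx1 : x ≠ 1) : 𝐠 x = (𝐟 x⁻¹)⁻¹ := by
  rw [f_inv hS hx hx1, inv_inv]

theorem g_ne_one {x : G} (hx : x ∈ Q) (hx1 : x ≠ 1) : 𝐠 x ≠ 1 := by
  rw [g_eq hS hx hx1, Ne, inv_eq_one]
  exact f_ne_one hS (Q.inv_mem hx) (inv_ne_one.2 hx1)

/-- H2. -/
theorem ghf_f {x : G} (hx : x ∈ Q) (hx1 : x ≠ 1) :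
    𝐠 (𝐟 x) = (𝐡 x)⁻¹ * (𝐠 x)⁻¹ * 𝐡 x ∧ 𝐡 (𝐟 x) = (𝐡 x)⁻¹ ∧ 𝐟 (𝐟 x) = x := by
  refine ghf_eq hS (conj_mem hS (Q.inv_mem (g_mem hS hx hx1)) (h_mem hS hx hx1))
    ((roD a t).inv_mem (h_mem hS hx hx1)) hx ?_
  have e : t * 𝐟 x = (𝐡 x)⁻¹ * (𝐠 x)⁻¹ * (t * x * t) := by rw [txt_eq hS hx hx1]; group
  rw [e]
  simp [mul_assoc, hS.mul_self]

theorem f_f {x : G} (hx : x ∈ Q) (hx1 : x ≠ 1) : 𝐟 (𝐟 x) = x := (ghf_f hS hx hx1).2.2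

theorem h_f {x : G} (hx : x ∈ Q) (hx1 : x ≠ 1) : 𝐡 (𝐟 x) = (𝐡 x)⁻¹ := (ghf_f hS hx hx1).2.1

theorem g_f {x : G} (hx : x ∈ Q) (hx1 : x ≠ 1) : 𝐠 (𝐟 x) = (𝐡 x)⁻¹ * (𝐠 x)⁻¹ * 𝐡 x :=
  (ghf_f hS hx hx1).1

/-- The values at `g(x)` (equivalent to H5). -/
theorem ghf_g {x : G} (hx : x ∈ Q) (hx1 : x ≠ 1) :
    𝐠 (𝐠 x) = x ∧ 𝐡 (𝐠 x) = (𝐡 x)⁻¹ ∧
      𝐟 (𝐠 x) = (t * (𝐡 x)⁻¹ * t)⁻¹ * (𝐟 x)⁻¹ * (t * (𝐡 x)⁻¹ * t) := by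
  refine ghf_eq hS hx ((roD a t).inv_mem (h_mem hS hx hx1))
    (conj_mem hS (Q.inv_mem (f_mem hS hx hx1))
      (RO.tdt_mem_D hS ((roD a t).inv_mem (h_mem hS hx hx1)))) ?_
  have e : 𝐠 x = (t * x * t) * (𝐟 x)⁻¹ * t⁻¹ * (𝐡 x)⁻¹ := by rw [txt_eq hS hx hx1]; group
  rw [e]
  simp [RO.t_inv hS, mul_assoc, tt hS]

theorem g_g {x : G} (hx : x ∈ Q) (hx1 : x ≠ 1) : 𝐠 (𝐠 x) = x := (ghf_g hS hx hx1).1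

theorem f_g {x : G} (hx : x ∈ Q) (hx1 : x ≠ 1) :
    𝐟 (𝐠 x) = (t * (𝐡 x)⁻¹ * t)⁻¹ * (𝐟 x)⁻¹ * (t * (𝐡 x)⁻¹ * t) := (ghf_g hS hx hx1).2.2

/-- H3 and H4. -/
theorem ghf_conj {x d : G} (hx : x ∈ Q) (hx1 : x ≠ 1) (hd : d ∈ roD a t) :
    𝐠 (d⁻¹ * x * d) = (t * d * t)⁻¹ * 𝐠 x * (t * d * t) ∧
      𝐡 (d⁻¹ * x * d) = (t * d * t)⁻¹ * 𝐡 x * d ∧
      𝐟 (d⁻¹ * x * d) = (t * d * t)⁻¹ * 𝐟 x * (t * d * t) := by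
  have hd' := RO.tdt_mem_D hS hd
  refine ghf_eq hS (conj_mem hS (g_mem hS hx hx1) hd')
    ((roD a t).mul_mem ((roD a t).mul_mem ((roD a t).inv_mem hd') (h_mem hS hx hx1)) hd)
    (conj_mem hS (f_mem hS hx hx1) hd') ?_
  have e : t * (d⁻¹ * x * d) * t = (t * d * t)⁻¹ * (t * x * t) * (t * d * t) := by
    simp [RO.t_inv hS, mul_assoc, tt hS]
  rw [e, txt_eq hS hx hx1]
  simp [RO.t_inv hS, mul_assoc, tt hS]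

theorem f_conj {x d : G} (hx : x ∈ Q) (hx1 : x ≠ 1) (hd : d ∈ roD a t) :
    𝐟 (d⁻¹ * x * d) = (t * d * t)⁻¹ * 𝐟 x * (t * d * t) := (ghf_conj hS hx hx1 hd).2.2

theorem g_conj {x d : G} (hx : x ∈ Q) (hx1 : x ≠ 1) (hd : d ∈ roD a t) :
    𝐠 (d⁻¹ * x * d) = (t * d * t)⁻¹ * 𝐠 x * (t * d * t) := (ghf_conj hS hx hx1 hd).1

theorem h_conj {x d : G} (hx : x ∈ Q) (hx1 : x ≠ 1) (hd : d ∈ roD a t) :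
    𝐡 (d⁻¹ * x * d) = (t * d * t)⁻¹ * 𝐡 x * d := (ghf_conj hS hx hx1 hd).2.1

theorem tvt {v : G} (hv : v ∈ roV a t) : t * v * t = v := by
  rw [(mem_roV.1 hv).2, mul_self_cancel_right hS.mul_self]

theorem tkt {k : G} (hk : k ∈ roK a t) : t * k * t = k⁻¹ := by
  rw [RO.t_mul_K hS hk, mul_self_cancel_right hS.mul_self]

theorem f_conj_V {x v : G} (hx : x ∈ Q) (hx1 : x ≠ 1) (hv : v ∈ roV a t) :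
    𝐟 (v⁻¹ * x * v) = v⁻¹ * 𝐟 x * v := by rw [f_conj hS hx hx1 hv.1, tvt hS hv]

theorem g_conj_V {x v : G} (hx : x ∈ Q) (hx1 : x ≠ 1) (hv : v ∈ roV a t) :
    𝐠 (v⁻¹ * x * v) = v⁻¹ * 𝐠 x * v := by rw [g_conj hS hx hx1 hv.1, tvt hS hv]

theorem h_conj_V {x v : G} (hx : x ∈ Q) (hx1 : x ≠ 1) (hv : v ∈ roV a t) :
    𝐡 (v⁻¹ * x * v) = v⁻¹ * 𝐡 x * v := by rw [h_conj hS hx hx1 hv.1, tvt hS hv]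

theorem f_conj_K {x k : G} (hx : x ∈ Q) (hx1 : x ≠ 1) (hk : k ∈ roK a t) :
    𝐟 (k⁻¹ * x * k) = k * 𝐟 x * k⁻¹ := by rw [f_conj hS hx hx1 hk.1, tkt hS hk, inv_inv]

theorem g_conj_K {x k : G} (hx : x ∈ Q) (hx1 : x ≠ 1) (hk : k ∈ roK a t) :
    𝐠 (k⁻¹ * x * k) = k * 𝐠 x * k⁻¹ := by rw [g_conj hS hx hx1 hk.1, tkt hS hk, inv_inv]

theorem h_conj_K {x k : G} (hx : x ∈ Q) (hx1 : x ≠ 1) (hk : k ∈ roK a t) :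
    𝐡 (k⁻¹ * x * k) = k * 𝐡 x * k := by rw [h_conj hS hx hx1 hk.1, tkt hS hk, inv_inv]

theorem f_mul_g_ne_one {x y : G} (hx : x ∈ Q) (hx1 : x ≠ 1) (hy : y ∈ Q) (hy1 : y ≠ 1)
    (hxy : x * y ≠ 1) : 𝐟 x * 𝐠 y ≠ 1 := by
  intro h
  apply hxy
  rw [g_eq hS hy hy1, mul_inv_eq_one] at h
  have := congrArg 𝐟 h
  rw [f_f hS hx hx1, f_f hS (Q.inv_mem hy) (inv_ne_one.2 hy1)] at this
  rw [this, inv_mul_cancel]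

/-- H6. -/
theorem ghf_mul {x y : G} (hx : x ∈ Q) (hx1 : x ≠ 1) (hy : y ∈ Q) (hy1 : y ≠ 1)
    (hxy : x * y ≠ 1) :
    𝐠 (x * y) = 𝐠 x * (𝐡 x * 𝐠 (𝐟 x * 𝐠 y) * (𝐡 x)⁻¹) ∧
      𝐡 (x * y) = 𝐡 x * 𝐡 (𝐟 x * 𝐠 y) * 𝐡 y ∧
      𝐟 (x * y) = (t * 𝐡 y * t)⁻¹ * 𝐟 (𝐟 x * 𝐠 y) * (t * 𝐡 y * t) * 𝐟 y := by
  have hz := Q.mul_mem (f_mem hS hx hx1) (g_mem hS hy hy1)
  have hz1 := f_mul_g_ne_one hS hx hx1 hy hy1 hxy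
  refine ghf_eq hS (Q.mul_mem (g_mem hS hx hx1) (RO.conj_mem_Q hS (h_mem hS hx hx1).1
      (g_mem hS hz hz1)))
    ((roD a t).mul_mem ((roD a t).mul_mem (h_mem hS hx hx1) (h_mem hS hz hz1)) (h_mem hS hy hy1))
    (Q.mul_mem (conj_mem hS (f_mem hS hz hz1) (RO.tdt_mem_D hS (h_mem hS hy hy1)))
      (f_mem hS hy hy1)) ?_
  have e : t * (x * y) * t = (t * x * t) * (t * y * t) := by simp [mul_assoc, tt hS]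
  have e2 : t * (x * y) * t = 𝐠 x * 𝐡 x * (t * (𝐟 x * 𝐠 y) * t) * (t * 𝐡 y * t) * 𝐟 y := by
    rw [e, txt_eq hS hx hx1, txt_eq hS hy hy1]
    simp [mul_assoc, tt hS]
  rw [e2, txt_eq hS hz hz1]
  simp [RO.t_inv hS, mul_assoc, tt hS]

theorem f_mul {x y : G} (hx : x ∈ Q) (hx1 : x ≠ 1) (hy : y ∈ Q) (hy1 : y ≠ 1) (hxy : x * y ≠ 1) :
    𝐟 (x * y) = (t * 𝐡 y * t)⁻¹ * 𝐟 (𝐟 x * 𝐠 y) * (t * 𝐡 y * t) * 𝐟 y :=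
  (ghf_mul hS hx hx1 hy hy1 hxy).2.2

theorem h_mul {x y : G} (hx : x ∈ Q) (hx1 : x ≠ 1) (hy : y ∈ Q) (hy1 : y ≠ 1) (hxy : x * y ≠ 1) :
    𝐡 (x * y) = 𝐡 x * 𝐡 (𝐟 x * 𝐠 y) * 𝐡 y := (ghf_mul hS hx hx1 hy hy1 hxy).2.1

end BS

end H55
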