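/- Split rank one groups with field structure in which `s t` has order three: the values of `f, g, h`
on `Q₀` and the first steps of Peterfalvi, part II, chapter IV.2. -/
import Cfsg.Agent.H55.BS1

set_option autoImplicit false
set_option linter.unusedSectionVars false

open Cfsg MulAction H69

namespace H55

variable {G Ω : Type*} [Group G] [MulAction G Ω]

/-- The rank one set-up with field structure, `s t` of order three. -/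
structure Ctx (a : Ω) (t : G) (Q : Subgroup G) (F : Type) [Field F] extends FS a t Q F where
  hS : IsRankOneSetup G Ω a t Q
  h2 : TwoRank G
  h3 : Ord3 a t

/-- Elements of `Q` outside `Q₀`. -/
def NI (Q : Subgroup G) (x : G) : Prop := x ∈ Q ∧ x * x ≠ 1

variable {a : Ω} {t : G} {Q : Subgroup G} {F : Type} [Field F]

local notation "𝐠" => fg a t Q
local notation "𝐡" => fh a t Q
local notation "𝐟" => ff a t Q

theorem NI.ne_one {x : G} (h : NI Q x) : x ≠ 1 := fun h1 => h.2 (by rw [h1, mul_one])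

theorem NI.inv {x : G} (h : NI Q x) : NI Q x⁻¹ :=
  ⟨Q.inv_mem h.1, fun h1 => h.2 (by rwa [← mul_inv_rev, inv_eq_one] at h1)⟩

theorem conj_sq_eq_one {x d : G} : d⁻¹ * x * d * (d⁻¹ * x * d) = 1 ↔ x * x = 1 := by
  have : d⁻¹ * x * d * (d⁻¹ * x * d) = d⁻¹ * (x * x) * d := by group
  rw [this, mul_assoc, inv_mul_eq_one, right_eq_mul, eq_comm]

namespace Ctx

variable (C : Ctx a t Q F)

theorem ι_zero : C.ι 0 = 1 := by
  have := C.ι_add 0 0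
  rw [add_zero] at this
  exact left_eq_mul.1 this

theorem ι_eq_one {x : F} : C.ι x = 1 ↔ x = 0 := by
  rw [← C.ι_zero, C.ι_inj.eq_iff]

theorem ι_mem_roI {x : F} (hx : x ≠ 0) : C.ι x ∈ roI G a := (C.mem_roI _).2 ⟨x, hx, rfl⟩

theorem ι_mem (x : F) : C.ι x ∈ Q := by
  by_cases hx : x = 0
  · rw [hx, C.ι_zero]; exact Q.one_mem
  · exact RO.roI_subset_Q C.hS (C.ι_mem_roI hx)

theorem ι_sq (x : F) : C.ι x * C.ι x = 1 := by
  by_cases hx : x = 0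
  · rw [hx, C.ι_zero, mul_one]
  · exact (C.ι_mem_roI hx).2.2

include C in
theorem add_self (x : F) : x + x = 0 := C.ι_eq_one.1 (by rw [C.ι_add, C.ι_sq])

include C in
theorem two_eq_zero : (2 : F) = 0 := by rw [← C.add_self 1]; norm_num

include C in
theorem charP : CharP F 2 := (CharP.charP_iff_prime_eq_zero Nat.prime_two).2 C.two_eq_zero

theorem ι_inv (x : F) : (C.ι x)⁻¹ = C.ι x := inv_eq_of_mul_self (C.ι_sq x)

theorem exists_ι {x : G} (hx : x ∈ Q) (h : x * x = 1) : ∃ y, x = C.ι y := by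
  by_cases h1 : x = 1
  · exact ⟨0, by rw [h1, C.ι_zero]⟩
  · obtain ⟨y, -, hy⟩ := (C.mem_roI x).1 ⟨C.hS.le hx, h1, h⟩
    exact ⟨y, hy⟩

theorem κ_mem_K (c : Fˣ) : C.κ c ∈ roK a t := (C.mem_roK _).2 ⟨c, rfl⟩

theorem κ_mem_D (c : Fˣ) : C.κ c ∈ roD a t := (C.κ_mem_K c).1

theorem κ_comm (c c' : Fˣ) : C.κ c * C.κ c' = C.κ c' * C.κ c := by
  rw [← map_mul, mul_comm, map_mul]

theorem W_comm_κ {w : G} (hw : w ∈ roW a t) (c : Fˣ) : C.κ c * w = w * C.κ c :=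
  hw.2 _ (C.κ_mem_K c)

theorem tκt (c : Fˣ) : t * C.κ c * t = (C.κ c)⁻¹ := BS.tkt C.hS (C.κ_mem_K c)

theorem exists_conj_ι {d : G} (hd : d ∈ roD a t) (y : F) : ∃ z, d⁻¹ * C.ι y * d = C.ι z :=
  C.exists_ι (BS.conj_mem C.hS (C.ι_mem y) hd) (conj_sq_eq_one.2 (C.ι_sq y))

include C in
theorem _root_.H55.NI.conj {x d : G} (h : NI Q x) (hd : d ∈ roD a t) : NI Q (d⁻¹ * x * d) :=
  ⟨BS.conj_mem C.hS h.1 hd, fun h1 => h.2 (conj_sq_eq_one.1 h1)⟩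

variable [Finite G]

theorem ι_comm {x : G} (hx : x ∈ Q) (y : F) : C.ι y * x = x * C.ι y := by
  by_cases hy : y = 0
  · rw [hy, C.ι_zero, one_mul, mul_one]
  · exact RO.roI_comm_Q C.hS C.h2 (C.ι_mem_roI hy) hx

theorem W_comm_ι {w : G} (hw : w ∈ roW a t) (y : F) : C.ι y * w = w * C.ι y := by
  by_cases hy : y = 0
  · rw [hy, C.ι_zero, one_mul, mul_one]
  · exact ((RO.mem_W_iff C.hS).1 hw).2 _ (C.ι_mem_roI hy)

theorem mem_W_of_comm_ι {w : G} (hw : w ∈ roD a t) (h : ∀ y, C.ι y * w = w * C.ι y) :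
    w ∈ roW a t :=
  (RO.mem_W_iff C.hS).2 ⟨hw, fun s hs => by
    obtain ⟨y, -, rfl⟩ := (C.mem_roI s).1 hs
    exact h y⟩

theorem eq_one_of_κ_mem_V {c : Fˣ} (h : C.κ c ∈ roV a t) : c = 1 := by
  have h1 := BS.tvt C.hS h
  rw [C.tκt, eq_comm, ← mul_eq_one_iff_eq_inv] at h1
  exact C.κ_inj (by rw [eq_one_of_odd_of_mul_self (RO.odd_orderOf_K C.hS (C.κ_mem_K c)) h1, map_one])

include C in
theorem finite_F : Finite F := Finite.of_injective C.ι C.ι_inj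

include C in
theorem roq_eq : roq G a = Nat.card F := by
  classical
  have := C.finite_F
  have e : {x : F // x ≠ 0} ≃ roI G a := Equiv.ofBijective (fun x => ⟨C.ι x, C.ι_mem_roI x.2⟩)
    ⟨fun x y h => Subtype.ext (C.ι_inj (congrArg Subtype.val h)), fun s => by
      obtain ⟨x, hx, h⟩ := (C.mem_roI s).1 s.2
      exact ⟨⟨x, hx⟩, Subtype.ext h.symm⟩⟩
  rw [roq, ← Nat.card_congr e, ← Nat.card_congr (Equiv.optionSubtypeNe (0 : F)),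
    Finite.card_option]

theorem t_ι_one : t * C.ι 1 * t = C.ι 1 * t * C.ι 1 := by
  obtain ⟨s, hs, h⟩ := C.h3
  obtain ⟨r, hr, h'⟩ := C.dist
  have := (RO.dist_unique C.hS hs (RO.roI_subset_Q C.hS hs)
    (by rw [h, inv_eq_of_mul_self hs.2.2]) (C.ι_mem_roI one_ne_zero) hr h').1
  rw [← this, h]

theorem ghf_ι (c : Fˣ) :
    𝐠 (C.ι c) = C.ι (c⁻¹ : Fˣ) ∧ 𝐡 (C.ι c) = C.κ (c ^ 2) ∧ 𝐟 (C.ι c) = C.ι (c⁻¹ : Fˣ) := by
  obtain ⟨h1, h2, h3⟩ := BS.ghf_eq C.hS (x := C.ι 1) (C.ι_mem 1) (roD a t).one_mem (C.ι_mem 1)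
    (by rw [mul_one, C.t_ι_one])
  have e : C.ι c = (C.κ c)⁻¹ * C.ι 1 * C.κ c := by rw [C.conj_κ, mul_one]
  have e' : C.ι (c⁻¹ : Fˣ) = C.κ c * C.ι 1 * (C.κ c)⁻¹ := by
    have := C.conj_κ c⁻¹ 1
    rw [map_inv, inv_inv, mul_one] at this
    exact this.symm
  have hn : C.ι 1 ≠ 1 := fun h => one_ne_zero (C.ι_eq_one.1 h)
  rw [e, e', BS.g_conj_K C.hS (C.ι_mem 1) hn (C.κ_mem_K c), BS.f_conj_K C.hS (C.ι_mem 1) hn (C.κ_mem_K c),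
    BS.h_conj_K C.hS (C.ι_mem 1) hn (C.κ_mem_K c), h1, h2, h3, mul_one, pow_two, map_mul]
  exact ⟨rfl, rfl, rfl⟩

theorem ι_unit_ne_one (c : Fˣ) : C.ι c ≠ 1 := fun h => c.ne_zero (C.ι_eq_one.1 h)

theorem mul_ι_sq {x : G} (hx : x ∈ Q) (y : F) : x * C.ι y * (x * C.ι y) = x * x := by
  rw [mul_assoc, ← mul_assoc (C.ι y), C.ι_comm hx, mul_self_cancel_right (C.ι_sq y)]

theorem _root_.H55.NI.mul_ι {x : G} (h : NI Q x) (y : F) : NI Q (x * C.ι y) :=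
  ⟨Q.mul_mem h.1 (C.ι_mem y), by rw [C.mul_ι_sq h.1]; exact h.2⟩

include C in
theorem _root_.H55.NI.f {x : G} (h : NI Q x) : NI Q (𝐟 x) := by
  refine ⟨BS.f_mem C.hS h.1 h.ne_one, fun h1 => h.2 ?_⟩
  obtain ⟨y, hy⟩ := C.exists_ι (BS.f_mem C.hS h.1 h.ne_one) h1
  have hy0 : y ≠ 0 := fun h0 => BS.f_ne_one C.hS h.1 h.ne_one (by rw [hy, h0, C.ι_zero])
  rw [← BS.f_f C.hS h.1 h.ne_one, hy, show y = (Units.mk0 y hy0 : Fˣ) from rfl, (C.ghf_ι _).2.2]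
  exact C.ι_sq _

include C in
theorem _root_.H55.NI.g {x : G} (h : NI Q x) : NI Q (𝐠 x) := by
  rw [BS.g_eq C.hS h.1 h.ne_one]
  exact (h.inv.f C).inv

/-- Step (1). -/
theorem f_mul_ι {x : G} (h : NI Q x) (c : Fˣ) :
    𝐟 (x * C.ι c) =
      C.κ (c ^ 2) * 𝐟 (𝐟 x * C.ι (c⁻¹ : Fˣ)) * (C.κ (c ^ 2))⁻¹ * C.ι (c⁻¹ : Fˣ) := by
  rw [BS.f_mul C.hS h.1 h.ne_one (C.ι_mem _) (C.ι_unit_ne_one c) (h.mul_ι C _).ne_one,
    (C.ghf_ι c).1, (C.ghf_ι c).2.1, (C.ghf_ι c).2.2, C.tκt, inv_inv]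

theorem h_mul_ι {x : G} (h : NI Q x) (c : Fˣ) :
    𝐡 (x * C.ι c) = 𝐡 x * 𝐡 (𝐟 x * C.ι (c⁻¹ : Fˣ)) * C.κ (c ^ 2) := by
  rw [BS.h_mul C.hS h.1 h.ne_one (C.ι_mem _) (C.ι_unit_ne_one c) (h.mul_ι C _).ne_one,
    (C.ghf_ι c).1, (C.ghf_ι c).2.1]

/-- Step (2). -/
theorem f_mul_ι' {x : G} (h : NI Q x) (c : Fˣ) :
    𝐟 (x * C.ι c) =
      (t * 𝐡 x * t)⁻¹ * 𝐟 (𝐠 x * C.ι (c⁻¹ : Fˣ)) * (t * 𝐡 x * t) * 𝐟 x := by
  rw [← C.ι_comm h.1, BS.f_mul C.hS (C.ι_mem _) (C.ι_unit_ne_one c) h.1 h.ne_one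
    (by rw [C.ι_comm h.1]; exact (h.mul_ι C _).ne_one), (C.ghf_ι c).2.2, C.ι_comm (h.g C).1]

/-- Step (4). -/
theorem eq_zero_of_f_mul_ι {x : G} (h : NI Q x) {b y : F} (e : 𝐟 (x * C.ι b) = 𝐟 x * C.ι y) :
    b = 0 := by
  by_contra hb
  rw [show b = (Units.mk0 b hb : Fˣ) from rfl, C.f_mul_ι' h, ← C.ι_comm (h.f C).1,
    mul_left_inj] at e
  have := (((h.g C).mul_ι C ((Units.mk0 b hb)⁻¹ : Fˣ)).f C).2
  rw [Ne, ← conj_sq_eq_one (d := t * 𝐡 x * t), e] at this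
  exact this (C.ι_sq y)

include C in
/-- Step (5), first part. -/
theorem f_ne_conj {x d : G} (h : NI Q x) (hd : d ∈ roD a t) : 𝐟 x ≠ d⁻¹ * x * d := by
  intro e
  have h1 := BS.g_f C.hS h.1 h.ne_one
  rw [e, BS.g_conj C.hS h.1 h.ne_one hd] at h1
  have hd' : t * d * t * (𝐡 x)⁻¹ ∈ roD a t := (roD a t).mul_mem (RO.tdt_mem_D C.hS hd)
    ((roD a t).inv_mem (BS.h_mem C.hS h.1 h.ne_one))
  refine (h.g C).2 (eq_inv_of_odd_conj (RO.odd_orderOf_of_mem_D C.hS hd'.1 hd'.2) ?_)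
  calc (t * d * t * (𝐡 x)⁻¹)⁻¹ * 𝐠 x * (t * d * t * (𝐡 x)⁻¹)
      = 𝐡 x * ((t * d * t)⁻¹ * 𝐠 x * (t * d * t)) * (𝐡 x)⁻¹ := by group
    _ = _ := by rw [h1]; group

/-- The element `(x ι(y))^{κ(c)}`. -/
def P (x : G) (c : Fˣ) (y : F) : G := (C.κ c)⁻¹ * (x * C.ι y) * C.κ c

theorem P_one (x : G) (y : F) : C.P x 1 y = x * C.ι y := by simp [P]

theorem P_eq (x : G) (c : Fˣ) (y : F) :
    C.P x c y = (C.κ c)⁻¹ * x * C.κ c * C.ι (c * y) := by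
  rw [P, ← C.conj_κ]; group

theorem _root_.H55.NI.P {x : G} (h : NI Q x) (c : Fˣ) (y : F) : NI Q (C.P x c y) :=
  (h.mul_ι C y).conj C (C.κ_mem_D c)

theorem P_mul_ι (x : G) (c : Fˣ) (y z : F) :
    C.P x c y * C.ι z = C.P x c (y + (c⁻¹ : Fˣ) * z) := by
  rw [P_eq, P_eq, mul_assoc, ← C.ι_add, mul_add, Units.mul_inv_cancel_left]

theorem P_of_mul_ι (x : G) (c : Fˣ) (y z : F) : C.P (x * C.ι z) c y = C.P x c (z + y) := by
  rw [P, P, C.ι_add, mul_assoc x]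

theorem conj_κ_P (x : G) (c c' : Fˣ) (y : F) :
    (C.κ c')⁻¹ * C.P x c y * C.κ c' = C.P x (c * c') y := by
  rw [P, P, map_mul]; group

theorem conj_κ_P' (x : G) (c c' : Fˣ) (y : F) :
    C.κ c' * C.P x c y * (C.κ c')⁻¹ = C.P x (c * c'⁻¹) y := by
  rw [← conj_κ_P, map_inv, inv_inv]

theorem P_P (x : G) (c c' : Fˣ) (y y' : F) :
    C.P (C.P x c y) c' y' = C.P x (c * c') (y + (c⁻¹ : Fˣ) * y') := by
  rw [← C.conj_κ_P, ← C.P_mul_ι]; rfl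

theorem conj_W_P {w : G} (hw : w ∈ roW a t) (x : G) (c : Fˣ) (y : F) :
    w⁻¹ * C.P x c y * w = C.P (w⁻¹ * x * w) c y := by
  have h1 : w⁻¹ * (C.κ c)⁻¹ = (C.κ c)⁻¹ * w⁻¹ := by
    rw [← mul_inv_rev, ← mul_inv_rev, C.W_comm_κ hw]
  calc w⁻¹ * C.P x c y * w = w⁻¹ * (C.κ c)⁻¹ * x * C.ι y * (C.κ c * w) := by rw [P]; group
    _ = (C.κ c)⁻¹ * w⁻¹ * x * (C.ι y * w) * C.κ c := by rw [h1, C.W_comm_κ hw]; group
    _ = _ := by rw [C.W_comm_ι hw, P]; group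

theorem conj_W_mul_ι {w : G} (hw : w ∈ roW a t) (x : G) (y : F) :
    w⁻¹ * (x * C.ι y) * w = w⁻¹ * x * w * C.ι y := by
  rw [← C.P_one, C.conj_W_P hw, C.P_one]

theorem eq_P_symm {x x' : G} {c : Fˣ} {y : F} (e : x = C.P x' c y) :
    x' = C.P x c⁻¹ (c * y) := by
  rw [e, P_P, mul_inv_cancel, Units.inv_mul_cancel_left, C.add_self, P_one, C.ι_zero, mul_one]

theorem f_P {x : G} (h : NI Q x) (c : Fˣ) (y : F) :
    𝐟 (C.P x c y) = C.κ c * 𝐟 (x * C.ι y) * (C.κ c)⁻¹ :=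
  BS.f_conj_K C.hS (h.mul_ι C y).1 (h.mul_ι C y).ne_one (C.κ_mem_K c)

/-- The relation `f(x ι(b)) = (x' ι(y))^{κ(c)}` is symmetric. -/
theorem f_eq_P_symm {x x' : G} (h : NI Q x) (h' : NI Q x') {b y : F} {c : Fˣ}
    (e : 𝐟 (x * C.ι b) = C.P x' c y) : 𝐟 (x' * C.ι y) = C.P x c b := by
  have := congrArg 𝐟 e
  rw [BS.f_f C.hS (h.mul_ι C b).1 (h.mul_ι C b).ne_one, C.f_P h'] at this
  rw [P, this]; group

/-- Step (5), second part. -/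
theorem f_ne_P {x : G} (h : NI Q x) (c : Fˣ) (y : F) : 𝐟 x ≠ C.P x c y := by
  intro e
  have e1 : 𝐟 (x * C.ι 0) = C.P x c y := by rwa [C.ι_zero, mul_one]
  have e2 := C.f_eq_P_symm h h e1
  have e3 : 𝐟 (x * C.ι y) = 𝐟 x * C.ι (c * y) := by
    rw [e2, e, P_mul_ι, Units.inv_mul_cancel_left, C.add_self]
  rw [C.eq_zero_of_f_mul_ι h e3, P, C.ι_zero, mul_one] at e
  exact C.f_ne_conj h (C.κ_mem_D c) e

/-- Step (6). -/
theorem eq_zero_of_f_eq_P {x : G} (h : NI Q x) {b y : F} {c : Fˣ}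
    (e : 𝐟 (x * C.ι b) = C.P (𝐟 x) c y) : b = 0 := by
  by_contra hb
  obtain ⟨u, rfl⟩ : ∃ u : Fˣ, b = u := ⟨Units.mk0 b hb, rfl⟩
  rw [C.f_mul_ι h] at e
  apply C.f_ne_P ((h.f C).mul_ι C (u⁻¹ : Fˣ)) (c * u ^ 2)
    ((u⁻¹ : Fˣ) + (y + (c⁻¹ : Fˣ) * (u⁻¹ : Fˣ)))
  rw [P_of_mul_ι, ← add_assoc, C.add_self, zero_add, ← conj_κ_P, ← P_mul_ι, ← e,
    mul_self_cancel_right (C.ι_sq _)]
  group

/-- Step (7). -/
theorem eq_of_f_eq_P {x x' : G} (h : NI Q x) {b b' y y' : F} {c c' : Fˣ}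
    (e : 𝐟 (x * C.ι b) = C.P x' c y) (e' : 𝐟 (x * C.ι b') = C.P x' c' y') : b = b' := by
  have e1 : 𝐟 (x * C.ι b * C.ι (b + b')) = C.P (𝐟 (x * C.ι b)) (c⁻¹ * c') (c * (y + y')) := by
    rw [mul_assoc, ← C.ι_add, ← add_assoc, C.add_self, zero_add, e', e, P_P, mul_inv_cancel_left,
      Units.inv_mul_cancel_left, ← add_assoc, C.add_self, zero_add]
  have := C.eq_zero_of_f_eq_P (h.mul_ι C b) e1
  linear_combination this - b' * C.two_eq_zero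

end Ctx

end H55
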