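/- Peterfalvi, part II, chapter IV.2, steps (8)-(20): representatives `ω` with
`f(ω) = (ω ι(α))^ζ`. -/
import Cfsg.Agent.H55.BS2

set_option autoImplicit false
set_option linter.unusedSectionVars false

open Cfsg MulAction H69

namespace H55

variable {G Ω : Type*} [Group G] [MulAction G Ω] {a : Ω} {t : G} {Q : Subgroup G} {F : Type}
  [Field F]

local notation "𝐠" => fg a t Q
local notation "𝐡" => fh a t Q
local notation "𝐟" => ff a t Q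

/-- `W` acts without fixed points on `Q - Q₀`. -/
def WFree (a : Ω) (t : G) (Q : Subgroup G) : Prop :=
  ∀ w ∈ roW a t, w ≠ 1 → ∀ x ∈ Q, w * x = x * w → x * x = 1

theorem comm_of_sq_comm {w x : G} (hw : Odd (orderOf w)) (h : w * w * x = x * (w * w)) :
    w * x = x * w := by
  have h4 : Commute (w * w) x := h
  rw [← sqrtOdd_mul_self' hw]
  exact h4.pow_left _

namespace Ctx

variable [Finite G] (C : Ctx a t Q F)

/-- An element `w κ(c)` centralising an element of `Q^#` lies in `W`. -/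
theorem eq_one_of_Wκ_comm {w x : G} (hw : w ∈ roW a t) {c : Fˣ} (hx : x ∈ Q) (hx1 : x ≠ 1)
    (h : w * C.κ c * x = x * (w * C.κ c)) : c = 1 := by
  have hd : w * C.κ c ∈ roD a t := (roD a t).mul_mem hw.1.1 (C.κ_mem_D c)
  have hX : ({w * C.κ c} : Set G) ⊆ (roD a t : Set G) := by rintro _ rfl; exact hd
  obtain ⟨k, hk, h1⟩ := RO.exists_conj_into_V C.hS hX
    (RO.three_fix_of_comm C.hS hX hx hx1 (by rintro _ rfl; exact h))
  obtain ⟨c', rfl⟩ := (C.mem_roK k).1 hk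
  have h2 := h1 _ rfl
  rw [← mul_assoc, C.W_comm_κ hw, mul_assoc w, C.κ_comm, ← mul_assoc, mul_inv_cancel_right] at h2
  exact C.eq_one_of_κ_mem_V ((Subgroup.mul_mem_cancel_left _ hw.1).1 h2)

/-- `K W` acts semiregularly on the non-trivial cosets of `Q₀` in `Q`. -/
theorem semireg (hU : WFree a t Q) {w x : G} (hw : w ∈ roW a t) (hx : NI Q x) {c : Fˣ} {y z : F}
    (e : C.P (w⁻¹ * x * w) c y = x * C.ι z) : w = 1 ∧ c = 1 ∧ y = z := by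
  have hc : c = 1 := by
    by_contra hc
    have h1 : (1 : F) + c ≠ 0 := fun h => hc (Units.ext (by
      rw [Units.val_one]; linear_combination -h + (c : F) * C.two_eq_zero))
    refine hc (C.eq_one_of_Wκ_comm hw (hx.mul_ι C ((z + c * y) / (1 + c))).1
      (hx.mul_ι C _).ne_one ?_)
    have e1 : C.P (w⁻¹ * x * w) c ((z + c * y) / (1 + c)) = x * C.ι ((z + c * y) / (1 + c)) := by
      have : (z + c * y) / (1 + c) = y + (c⁻¹ : Fˣ) * (z + (z + c * y) / (1 + c)) := by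
        rw [Units.val_inv_eq_inv_val]
        have := c.ne_zero
        field_simp
        linear_combination (-(c : F) * y - (c : F) ^ 2 * y - z) * C.two_eq_zero + (c : F) ^ 2 * y * C.two_eq_zero
      nth_rewrite 1 [this]
      rw [← C.P_mul_ι, e, mul_assoc, ← C.ι_add, ← add_assoc, C.add_self, zero_add]
    rw [← C.conj_W_P hw, P] at e1
    rw [← C.W_comm_κ hw]
    nth_rewrite 1 [← e1]
    group
  subst hc
  rw [P_one] at e
  have e1 : w⁻¹ * x * w = x * C.ι (z + y) := by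
    rw [C.ι_add, ← mul_assoc, ← e, mul_self_cancel_right (C.ι_sq y)]
  have hw1 : w = 1 := by
    by_contra hw1
    refine hx.2 (hU w hw hw1 x hx.1 (comm_of_sq_comm
      (RO.odd_orderOf_of_mem_D C.hS hw.1.1.1 hw.1.1.2) ?_))
    have e2 : w⁻¹ * (w⁻¹ * x * w) * w = x := by
      rw [e1, C.conj_W_mul_ι hw, e1, mul_self_cancel_right (C.ι_sq _)]
    nth_rewrite 1 [← e2]
    group
  subst hw1
  rw [inv_one, one_mul, mul_one, mul_right_inj] at e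
  exact ⟨rfl, rfl, C.ι_inj e⟩

theorem P_inj {x : G} (hx : NI Q x) {c c' : Fˣ} {y y' : F} (e : C.P x c y = C.P x c' y') :
    c = c' ∧ y = y' := by
  have h1 : C.P x (c * c'⁻¹) y = x * C.ι y' := by
    rw [← C.conj_κ_P', e, C.conj_κ_P', mul_inv_cancel, P_one]
  have hc : c * c'⁻¹ = 1 := by
    by_contra hc
    generalize c * c'⁻¹ = d at h1 hc
    have h2 : (1 : F) + d ≠ 0 := fun h => hc (Units.ext (by
      rw [Units.val_one]; linear_combination -h + (d : F) * C.two_eq_zero))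
    have e1 : C.P x d ((y' + d * y) / (1 + d)) = x * C.ι ((y' + d * y) / (1 + d)) := by
      have : (y' + d * y) / (1 + d) = y + (d⁻¹ : Fˣ) * (y' + (y' + d * y) / (1 + d)) := by
        rw [Units.val_inv_eq_inv_val]
        have := d.ne_zero
        field_simp
        linear_combination (-(d : F) * y - y') * C.two_eq_zero
      nth_rewrite 1 [this]
      rw [← C.P_mul_ι, h1, mul_assoc, ← C.ι_add, ← add_assoc, C.add_self, zero_add]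
    refine hc (C.eq_one_of_Wκ_comm (roW a t).one_mem (hx.mul_ι C ((y' + d * y) / (1 + d))).1
      (hx.mul_ι C _).ne_one ?_)
    rw [P] at e1
    nth_rewrite 1 [← e1]
    group
  rw [hc, P_one, mul_right_inj] at h1
  exact ⟨mul_inv_eq_one.1 hc, C.ι_inj h1⟩

include C in
theorem card_NI : Nat.card {x // NI Q x} + Nat.card F = Nat.card Q := by
  classical
  have e1 : F ≃ {x : Q // (x : G) * x = 1} := Equiv.ofBijective
    (fun y => ⟨⟨C.ι y, C.ι_mem y⟩, C.ι_sq y⟩)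
    ⟨fun x y h => C.ι_inj (congrArg (fun z => z.1.1) h), fun x => by
      obtain ⟨y, hy⟩ := C.exists_ι x.1.2 x.2
      exact ⟨y, Subtype.ext (Subtype.ext hy.symm)⟩⟩
  have e2 : {x // NI Q x} ≃ {x : Q // ¬ (x : G) * x = 1} :=
    ⟨fun x => ⟨⟨x.1, x.2.1⟩, x.2.2⟩, fun x => ⟨x.1.1, x.1.2, x.2⟩, fun _ => rfl, fun _ => rfl⟩
  rw [Nat.card_congr e1, Nat.card_congr e2, add_comm, ← Nat.card_sum,
    Nat.card_congr (Equiv.sumCompl _)]

/-- Step (8): the elements `x` and `f(x ι(b))` represent the classes modulo `Q₀ K`. -/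
theorem exists_P (hc : Nat.card Q = Nat.card F ^ 3) {x x' : G} (hx : NI Q x) (hx' : NI Q x') :
    (∃ c y, x' = C.P x c y) ∨ ∃ b c y, x' = C.P (𝐟 (x * C.ι b)) c y := by
  classical
  have := C.finite_F
  let Φ : Option F × Fˣ × F → {x // NI Q x} := fun p => match p.1 with
    | none => ⟨C.P x p.2.1 p.2.2, hx.P C _ _⟩
    | some b => ⟨C.P (𝐟 (x * C.ι b)) p.2.1 p.2.2, ((hx.mul_ι C b).f C).P C _ _⟩
  have key : ∀ b c y c' y', C.P (𝐟 (x * C.ι b)) c y ≠ C.P x c' y' := by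
    intro b c y c' y' e
    have := C.eq_P_symm e.symm
    rw [P_P] at this
    refine C.f_ne_P (hx.mul_ι C b) (c' * c⁻¹) (b + (y' + (c'⁻¹ : Fˣ) * (c * y))) ?_
    rw [P_of_mul_ι, ← add_assoc, C.add_self, zero_add, this]
  have hinj : Function.Injective Φ := by
    rintro ⟨_ | b, c, y⟩ ⟨_ | b', c', y'⟩ e
    · obtain ⟨rfl, rfl⟩ := C.P_inj hx (congrArg Subtype.val e)
      rfl
    · exact absurd (congrArg Subtype.val e).symm (key _ _ _ _ _)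
    · exact absurd (congrArg Subtype.val e) (key _ _ _ _ _)
    · have e1 : C.P (𝐟 (x * C.ι b)) c y = C.P (𝐟 (x * C.ι b')) c' y' := congrArg Subtype.val e
      obtain rfl : b = b' := C.eq_of_f_eq_P hx (C.eq_P_symm rfl) (C.eq_P_symm e1)
      obtain ⟨rfl, rfl⟩ := C.P_inj ((hx.mul_ι C b).f C) e1
      rfl
  have hcard : Nat.card (Option F × Fˣ × F) = Nat.card {x // NI Q x} := by
    have h1 := C.card_NI
    have h2 : 1 ≤ Nat.card F := Nat.card_pos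
    rw [Nat.card_prod, Nat.card_prod, Finite.card_option, Nat.card_units]
    rw [hc] at h1
    obtain ⟨n, hn⟩ := Nat.exists_eq_add_of_le h2
    rw [hn] at h1 ⊢
    simp only [Nat.add_sub_cancel_left]
    nlinarith
  obtain ⟨⟨_ | b, c, y⟩, h⟩ :=
    ((Nat.bijective_iff_injective_and_card Φ).2 ⟨hinj, hcard⟩).2 ⟨x', hx'⟩
  · exact Or.inl ⟨c, y, (congrArg Subtype.val h).symm⟩
  · exact Or.inr ⟨b, c, y, (congrArg Subtype.val h).symm⟩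

/-- `f(ω) = (ω ι(α))^ζ`. -/
structure Rep (ζ ω : G) (α : F) : Prop where
  ni : NI Q ω
  eq : 𝐟 ω = ζ⁻¹ * ω * ζ * C.ι α

include C in
theorem exists_sq (c : Fˣ) : ∃ e : Fˣ, c = e ^ 2 := by
  have := C.finite_F
  have := C.charP
  obtain ⟨r, hr⟩ := FiniteField.isSquare_of_char_two (ringChar.eq F 2) (c : F)
  have h0 : r ≠ 0 := fun h => c.ne_zero (by rw [hr, h, mul_zero])
  exact ⟨Units.mk0 r h0, Units.ext (by rw [hr]; simp [pow_two])⟩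

/-- Step (9). -/
theorem exists_rep (hU : WFree a t Q) (hc : Nat.card Q = Nat.card F ^ 3) {ζ : G}
    (hζ : ζ ∈ roW a t) (hζ1 : ζ ≠ 1) {x : G} (hx : NI Q x) :
    ∃ ω α c y, C.Rep ζ ω α ∧ x = C.P ω c y := by
  rcases C.exists_P hc hx (hx.conj C hζ.1.1) with ⟨c, y, h⟩ | ⟨b, c, y, h⟩
  · have := C.eq_P_symm h
    nth_rewrite 1 [← mul_one x, ← C.ι_zero] at this
    exact absurd (C.semireg hU hζ hx this.symm).1 hζ1
  · obtain ⟨e, he⟩ := C.exists_sq c⁻¹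
    have h1 := C.eq_P_symm h
    refine ⟨C.P x e b, e * (b + c * y), e⁻¹, e * b, ⟨hx.P C _ _, ?_⟩, C.eq_P_symm rfl⟩
    rw [C.f_P hx, h1, conj_κ_P', C.conj_W_P hζ, P_mul_ι, Units.inv_mul_cancel_left,
      ← add_assoc, C.add_self, zero_add, he, pow_two, mul_inv_cancel_right]

variable {C}

theorem Rep.conj {ζ ω w : G} {α : F} (h : C.Rep ζ ω α) (hw : w ∈ roW a t) (hc : w * ζ = ζ * w) :
    C.Rep ζ (w⁻¹ * ω * w) α := by
  refine ⟨h.ni.conj C hw.1.1, ?_⟩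
  rw [BS.f_conj_V C.hS h.ni.1 h.ni.ne_one hw.1, h.eq, C.conj_W_mul_ι hw]
  congr 1
  calc w⁻¹ * (ζ⁻¹ * ω * ζ) * w = (ζ * w)⁻¹ * ω * (ζ * w) := by group
    _ = _ := by rw [← hc]; group

/-- Step (10). -/
theorem Rep.f_step {ζ ω : G} {α : F} (h : C.Rep ζ ω α) (hζ : ζ ∈ roW a t) {x : G} {c c' : Fˣ}
    {y b : F} (hb : b = α + (c⁻¹ : Fˣ)) (e : 𝐟 (ω * C.ι b) = C.P x c' y) :
    𝐟 (ω * C.ι c) = C.P (ζ⁻¹ * x * ζ) (c' * (c ^ 2)⁻¹) (y + (c'⁻¹ : Fˣ) * c) := by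
  rw [C.f_mul_ι h.ni, h.eq, mul_assoc _ (C.ι α), ← C.ι_add, ← hb, ← C.conj_W_mul_ι hζ,
    BS.f_conj_V C.hS (h.ni.mul_ι C b).1 (h.ni.mul_ι C b).ne_one hζ.1, e, C.conj_W_P hζ,
    conj_κ_P', P_mul_ι]
  congr 2
  simp only [Units.val_inv_eq_inv_val, Units.val_mul, Units.val_pow_eq_pow_val]
  have := c.ne_zero
  have := c'.ne_zero
  field_simp

theorem Rep.h_step {ζ ω : G} {α : F} (h : C.Rep ζ ω α) (hζ : ζ ∈ roW a t) {c : Fˣ}
    {b : F} (hb : b = α + (c⁻¹ : Fˣ)) :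
    𝐡 (ω * C.ι c) = 𝐡 ω * (ζ⁻¹ * 𝐡 (ω * C.ι b) * ζ) * C.κ (c ^ 2) := by
  rw [C.h_mul_ι h.ni, h.eq, mul_assoc _ (C.ι α), ← C.ι_add, ← hb, ← C.conj_W_mul_ι hζ,
    BS.h_conj_V C.hS (h.ni.mul_ι C b).1 (h.ni.mul_ι C b).ne_one hζ.1]

theorem Rep.mul_ι_eq {ζ ω : G} {α : F} (h : C.Rep ζ ω α) (hζ : ζ ∈ roW a t) :
    ω * C.ι α = ζ⁻¹⁻¹ * 𝐟 ω * ζ⁻¹ := by
  rw [h.eq, ← C.conj_W_mul_ι hζ]; group

theorem Rep.f_last {ζ ω : G} {α : F} (h : C.Rep ζ ω α) (hζ : ζ ∈ roW a t) :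
    𝐟 (ω * C.ι α) = ζ⁻¹⁻¹ * ω * ζ⁻¹ := by
  rw [h.mul_ι_eq hζ, BS.f_conj_V C.hS (h.ni.f C).1 (h.ni.f C).ne_one ((roV a t).inv_mem hζ.1),
    BS.f_f C.hS h.ni.1 h.ni.ne_one]

theorem Rep.h_last {ζ ω : G} {α : F} (h : C.Rep ζ ω α) (hζ : ζ ∈ roW a t) :
    𝐡 (ω * C.ι α) = ζ * (𝐡 ω)⁻¹ * ζ⁻¹ := by
  rw [h.mul_ι_eq hζ, BS.h_conj_V C.hS (h.ni.f C).1 (h.ni.f C).ne_one ((roV a t).inv_mem hζ.1),
    BS.h_f C.hS h.ni.1 h.ni.ne_one, inv_inv]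

/-- Uniqueness of the representative in its class. -/
theorem Rep.unique {ζ ω ω' : G} {α α' : F} (h : C.Rep ζ ω α) (h' : C.Rep ζ ω' α')
    (hζ : ζ ∈ roW a t) {c : Fˣ} {y : F} (e : ω' = C.P ω c y) : y = 0 := by
  have e1 : 𝐟 (ω * C.ι 0) = C.P (ζ⁻¹ * ω * ζ) 1 α := by rw [C.ι_zero, mul_one, P_one, h.eq]
  have e2 : 𝐟 (ω * C.ι y) = C.P (ζ⁻¹ * ω * ζ) (c * c) (y + (c⁻¹ : Fˣ) * α') := by
    have := h'.eq
    rw [e, C.f_P h.ni, C.conj_W_P hζ, P_mul_ι] at this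
    rw [← conj_κ_P, ← this]; group
  exact C.eq_of_f_eq_P h.ni e2 e1

include C in
theorem exists_unit_of_ne {α b : F} (h : b ≠ α) : ∃ u : Fˣ, b = α + (u⁻¹ : Fˣ) :=
  ⟨(Units.mk0 (b - α) (sub_ne_zero.2 h))⁻¹, by simp⟩

/-- Steps (19), (20). -/
theorem Rep.link {ζ ω ω' : G} {α α' : F} (h : C.Rep ζ ω α) (h' : C.Rep ζ ω' α')
    (hζ : ζ ∈ roW a t) {b y : F} {c : Fˣ} (e : 𝐟 (ω * C.ι b) = C.P ω' c y) : y = b + α := by
  have hζ' := (roW a t).inv_mem hζ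
  by_cases hb : b = α
  · subst hb
    rw [h.f_last hζ] at e
    rw [C.add_self]
    exact h'.unique (h.conj hζ' (by group)) hζ e
  obtain ⟨u, hu⟩ := C.exists_unit_of_ne hb
  have e1 := C.f_eq_P_symm h.ni (h'.ni.conj C hζ.1.1) (h.f_step hζ hu e)
  rw [← C.conj_W_mul_ι hζ, BS.f_conj_V C.hS (h'.ni.mul_ι C _).1 (h'.ni.mul_ι C _).ne_one hζ.1] at e1
  have e2 : 𝐟 (ω' * C.ι (y + (c⁻¹ : Fˣ) * u)) = C.P (ζ⁻¹⁻¹ * ω * ζ⁻¹) (c * (u ^ 2)⁻¹) u := by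
    rw [← C.conj_W_P hζ', ← e1]; group
  by_cases hy : y + (c⁻¹ : Fˣ) * u = α'
  · rw [hy, h'.f_last hζ] at e2
    exact absurd ((h.conj hζ' (by group)).unique (h'.conj hζ' (by group)) hζ e2) u.ne_zero
  obtain ⟨u', hu'⟩ := C.exists_unit_of_ne hy
  have e3 := h'.f_step hζ hu' e2
  rw [show ζ⁻¹ * (ζ⁻¹⁻¹ * ω * ζ⁻¹) * ζ = ω by group] at e3
  have e4 := C.f_eq_P_symm h.ni h'.ni e
  obtain rfl : y = u' := C.eq_of_f_eq_P h'.ni e4 e3
  have e5 := (C.P_inj h.ni (e4.symm.trans e3)).1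
  have e6 : ((u : F) * u') ^ 2 = 1 := by
    have : (u * u') ^ 2 = 1 := by
      rw [mul_assoc, left_eq_mul, ← mul_inv, inv_eq_one] at e5
      rw [mul_pow, e5]
    simpa using congrArg Units.val this
  have e7 : (u : F) * u' = 1 := by
    have : ((u : F) * u' - 1) ^ 2 = 0 := by
      linear_combination e6 + (1 - (u : F) * u') * C.two_eq_zero
    exact sub_eq_zero.1 (pow_eq_zero_iff two_ne_zero |>.1 this)
  rw [hu, Units.val_inv_eq_inv_val, ← eq_inv_of_mul_eq_one_right e7]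
  linear_combination -α * C.two_eq_zero

/-- Steps (11)-(18). -/
theorem Rep.h_pow (hU : WFree a t Q) {ζ ω : G} {α : F} (h : C.Rep ζ ω α) (hζ : ζ ∈ roW a t) :
    (𝐡 ω * ζ⁻¹) ^ orderOf ζ = 1 := by
  by_contra hne
  have key : ∀ i, i < orderOf ζ → ∃ u v c,
      𝐟 (ω * C.ι u) = C.P ((ζ ^ (i + 1))⁻¹ * ω * ζ ^ (i + 1)) c v ∧
        𝐡 (ω * C.ι u) = (𝐡 ω * ζ⁻¹) ^ (i + 1) * ζ ^ (i + 1) * C.κ c⁻¹ := by
    intro i
    induction i with
    | zero =>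
      refine fun _ => ⟨0, α, 1, ?_, ?_⟩
      · rw [C.ι_zero, mul_one, zero_add, pow_one, P_one, h.eq]
      · simp [C.ι_zero]
    | succ i ih =>
      intro hi
      obtain ⟨u, v, c, e1, e2⟩ := ih (by omega)
      by_cases hu : u = α
      · exfalso
        subst hu
        rw [h.f_last hζ] at e1
        rw [h.h_last hζ] at e2
        have e3 : C.P ((ζ ^ (i + 2))⁻¹ * ω * ζ ^ (i + 2)) c v = ω * C.ι 0 := by
          rw [C.ι_zero, mul_one, show (ζ ^ (i + 2))⁻¹ * ω * ζ ^ (i + 2) =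
            ζ⁻¹ * ((ζ ^ (i + 1))⁻¹ * ω * ζ ^ (i + 1)) * ζ by group, ← C.conj_W_P hζ, ← e1]
          group
        obtain ⟨h1, rfl, -⟩ := C.semireg hU ((roW a t).pow_mem hζ _) h.ni e3
        have h2 : orderOf ζ = i + 2 :=
          le_antisymm (orderOf_le_of_pow_eq_one (by omega) h1) (by omega)
        apply hne
        rw [h2, pow_succ _ (i + 1)]
        rw [inv_one, map_one, mul_one] at e2
        calc (𝐡 ω * ζ⁻¹) ^ (i + 1) * (𝐡 ω * ζ⁻¹)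
            = (𝐡 ω * ζ⁻¹) ^ (i + 1) * ζ ^ (i + 2) * (𝐡 ω * ζ⁻¹) := by rw [h1, mul_one]
          _ = (𝐡 ω * ζ⁻¹) ^ (i + 1) * ζ ^ (i + 1) * ζ * (𝐡 ω * ζ⁻¹) := by
            rw [pow_succ ζ (i + 1), mul_assoc _ _ ζ]
          _ = 1 := by rw [← e2]; group
      · obtain ⟨w, hw⟩ := C.exists_unit_of_ne hu
        refine ⟨w, v + (c⁻¹ : Fˣ) * w, c * (w ^ 2)⁻¹, ?_, ?_⟩
        · rw [h.f_step hζ hw e1]
          congr 1
          group
        · rw [h.h_step hζ hw, e2, pow_succ' _ (i + 1), pow_succ ζ (i + 1), mul_inv, inv_inv,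
            map_mul, mul_assoc _ _ ζ, mul_assoc _ _ ζ, C.W_comm_κ hζ]
          group
  have hpos := orderOf_pos ζ
  obtain ⟨u, v, c, e1, -⟩ := key (orderOf ζ - 1) (by omega)
  rw [Nat.sub_add_cancel hpos, pow_orderOf_eq_one, inv_one, one_mul, mul_one] at e1
  refine C.f_ne_P (h.ni.mul_ι C u) c (u + v) ?_
  rw [P_of_mul_ι, ← add_assoc, C.add_self, zero_add, e1]

theorem P_inv {x : G} (hx : x ∈ Q) {r : F} (hr : x * x = C.ι r) (c : Fˣ) (y : F) :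
    (C.P x c y)⁻¹ = C.P x c (r + y) := by
  have : (x * C.ι y)⁻¹ = x * C.ι (r + y) := by
    rw [inv_eq_iff_mul_eq_one, C.ι_add, ← hr, mul_assoc, ← mul_assoc (C.ι y), C.ι_comm hx,
      hr, mul_assoc x, ← mul_assoc x x, hr, ← C.ι_add, ← C.ι_add, ← C.ι_add, C.ι_eq_one]
    linear_combination (r + y) * C.two_eq_zero
  rw [P, P, ← this]; group

/-- End of chapter IV.2. -/
theorem exists_rep_sq (hU : WFree a t Q) (hc : Nat.card Q = Nat.card F ^ 3) {ζ : G}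
    (hζ : ζ ∈ roW a t) (hζ1 : ζ ≠ 1) (hsq : ∀ x ∈ Q, ∃ r, x * x = C.ι r) {ω₀ : G} {α₀ : F}
    (h₀ : C.Rep ζ ω₀ α₀) (hW : 𝐡 ω₀ ∈ roW a t) (hcomm : 𝐡 ω₀ * ζ = ζ * 𝐡 ω₀) :
    ∃ ω α, C.Rep ζ ω α ∧ ω * ω = C.ι α := by
  obtain ⟨r₀, hr₀⟩ := hsq ω₀ h₀.ni.1
  obtain ⟨ω, α, c, y, h, e⟩ := C.exists_rep hU hc hζ hζ1 ((h₀.ni.mul_ι C r₀).f C)
  obtain ⟨r, hr⟩ := hsq ω h.ni.1
  refine ⟨ω, α, h, ?_⟩
  have hy := h₀.link h hζ e
  have hinv : ω₀⁻¹ = ω₀ * C.ι r₀ := by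
    have := P_inv h₀.ni.1 hr₀ 1 0
    rwa [P_one, P_one, C.ι_zero, mul_one, add_zero] at this
  have hw : ζ * (𝐡 ω₀)⁻¹ ∈ roW a t := (roW a t).mul_mem hζ ((roW a t).inv_mem hW)
  have e1 := BS.f_g C.hS h₀.ni.1 h₀.ni.ne_one
  rw [BS.g_eq C.hS h₀.ni.1 h₀.ni.ne_one, hinv, e, P_inv h.ni.1 hr, C.f_P h.ni,
    BS.tvt C.hS ((roV a t).inv_mem hW.1), h₀.eq, ← C.conj_W_mul_ι hζ] at e1
  have e2 : 𝐟 (ω * C.ι (r + y)) =
      C.P ((ζ * (𝐡 ω₀)⁻¹)⁻¹ * ω₀ * (ζ * (𝐡 ω₀)⁻¹)) c (r₀ + α₀) := by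
    rw [← C.conj_W_P hw, ← one_mul c, ← conj_κ_P, ← P_inv h₀.ni.1 hr₀, P_one]
    have e3 : C.κ c * (ζ * (𝐡 ω₀)⁻¹) = ζ * (𝐡 ω₀)⁻¹ * C.κ c := C.W_comm_κ hw c
    calc 𝐟 (ω * C.ι (r + y))
        = (C.κ c)⁻¹ * (C.κ c * 𝐟 (ω * C.ι (r + y)) * (C.κ c)⁻¹) * C.κ c := by group
      _ = (ζ * (𝐡 ω₀)⁻¹ * C.κ c)⁻¹ * (ω₀ * C.ι α₀)⁻¹ * (ζ * (𝐡 ω₀)⁻¹ * C.κ c) := by
        rw [e1]; group
      _ = _ := by rw [← e3]; group
  have e4 := h.link (h₀.conj hw (by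
    rw [mul_assoc, (show Commute (𝐡 ω₀) ζ from hcomm).inv_left.eq, ← mul_assoc])) hζ e2
  rw [hr]
  congr 1
  linear_combination -e4 - hy - α * C.two_eq_zero

end Ctx

end H55
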