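/- Split rank one groups with `|Q| = q³` and `W ≠ 1` acting without fixed points on `Q/Q₀`:
`Q/Q₀` is irreducible under `K⟨ζ⟩`, elementary abelian, and a field on which `K` and `ζ` act
by multiplications. -/
import Cfsg.Agent.H55.BS3
import Cfsg.Agent.H55.Schur
import Cfsg.Agent.H5.FrobAction

set_option autoImplicit false
set_option linter.unusedSectionVars false

open Cfsg MulAction H69

namespace H55

universe u

variable {G : Type u} {Ω : Type*} [Group G] [MulAction G Ω] {a : Ω} {t : G} {Q : Subgroup G}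
  {F : Type} [Field F]

namespace Ctx

variable [Finite G] (C : Ctx a t Q F)

include C in
theorem exists_card_F : ∃ n, 0 < n ∧ Nat.card F = 2 ^ n := by
  have := C.finite_F
  have := C.charP
  have := Fintype.ofFinite F
  obtain ⟨n, -, hn⟩ := FiniteField.card F 2
  exact ⟨n, n.2, by rw [Nat.card_eq_fintype_card, hn]⟩

/-- A `K⟨ζ⟩`-invariant subgroup strictly between `Q₀` and `Q` does not exist. -/
theorem eq_Q_of_invariant (hU : WFree a t Q) (hc : Nat.card Q = Nat.card F ^ 3) {ζ : G}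
    (hζ : ζ ∈ roW a t) (hζ1 : ζ ≠ 1) {X : Subgroup G} (hX : X ≤ Q) (h0 : ∀ y, C.ι y ∈ X)
    (hK : ∀ c, ∀ x ∈ X, (C.κ c)⁻¹ * x * C.κ c ∈ X) (hz : ∀ x ∈ X, ζ⁻¹ * x * ζ ∈ X) {x : G}
    (hx : x ∈ X) (hx2 : x * x ≠ 1) : X = Q := by
  classical
  have := C.finite_F
  have hN : NI Q x := ⟨hX hx, hx2⟩
  obtain ⟨n, hn, hF⟩ := C.exists_card_F
  have hd : Nat.card X ∣ 2 ^ (n * 3) := by
    rw [pow_mul, ← hF, ← hc]; exact Subgroup.card_dvd_of_le hX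
  obtain ⟨j, hj, hXj⟩ := (Nat.dvd_prime_pow Nat.prime_two).1 hd
  have hmod : Nat.card X ≡ 1 [MOD Nat.card C.κ.range] := by
    refine H5.card_modEq_one_of_fpf_subgroup (H1.le_normalizer_of_conj_mem ?_) ?_
    · rintro _ ⟨c, rfl⟩ y hy
      have := hK c⁻¹ y hy
      rwa [map_inv, inv_inv] at this
    · rintro _ ⟨c, rfl⟩ h1
      rw [eq_bot_iff]
      rintro y ⟨hy, hy'⟩
      exact RO.eq_one_of_K_comm_Q C.hS (C.κ_mem_K c) h1 (hX hy)
        (Subgroup.mem_centralizer_singleton_iff.1 hy').symm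
  rw [← Nat.card_congr (MonoidHom.ofInjective C.κ_inj).toEquiv, Nat.card_units, hF, hXj] at hmod
  have hdvd : n ∣ j := by
    have h1 := (Nat.modEq_iff_dvd' Nat.one_le_two_pow).1 hmod.symm
    have h2 := Nat.pow_sub_one_mod_pow_sub_one 2 n j
    rw [Nat.mod_eq_zero_of_dvd h1] at h2
    have h3 : 2 ^ (j % n) = 1 := by
      have : 1 ≤ 2 ^ (j % n) := Nat.one_le_two_pow
      omega
    exact Nat.dvd_of_mod_eq_zero (by simpa using h3)
  have hP : ∀ c y, C.P x c y ∈ X := fun c y => hK c _ (X.mul_mem hx (h0 y))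
  let Φ : Option (Option Fˣ × F) → X := fun p => match p with
    | none => ⟨ζ⁻¹ * x * ζ, hz x hx⟩
    | some (none, y) => ⟨C.ι y, h0 y⟩
    | some (some c, y) => ⟨C.P x c y, hP c y⟩
  have k1 : ∀ y, ζ⁻¹ * x * ζ ≠ C.ι y := fun y h => (hN.conj C hζ.1.1).2 (by rw [h, C.ι_sq])
  have k2 : ∀ c y, ζ⁻¹ * x * ζ ≠ C.P x c y := fun c y h => by
    have := C.eq_P_symm h
    nth_rewrite 1 [← mul_one x, ← C.ι_zero] at this
    exact hζ1 (C.semireg hU hζ hN this.symm).1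
  have k3 : ∀ c y y', C.P x c y ≠ C.ι y' := fun c y y' h => (hN.P C c y).2 (by rw [h, C.ι_sq])
  have hinj : Function.Injective Φ := by
    rintro (_ | ⟨_ | c, y⟩) (_ | ⟨_ | c', y'⟩) e
    · rfl
    · exact absurd (congrArg Subtype.val e) (k1 _)
    · exact absurd (congrArg Subtype.val e) (k2 _ _)
    · exact absurd (congrArg Subtype.val e).symm (k1 _)
    · rw [C.ι_inj (congrArg Subtype.val e)]
    · exact absurd (congrArg Subtype.val e).symm (k3 _ _ _)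
    · exact absurd (congrArg Subtype.val e).symm (k2 _ _)
    · exact absurd (congrArg Subtype.val e) (k3 _ _ _)
    · obtain ⟨rfl, rfl⟩ := C.P_inj hN (congrArg Subtype.val e)
      rfl
  have hle := Nat.card_le_card_of_injective Φ hinj
  rw [Finite.card_option, Nat.card_prod, Finite.card_option, Nat.card_units,
    Nat.sub_add_cancel Nat.card_pos, hF, hXj, ← pow_add] at hle
  have hlt : n + n < j := (Nat.pow_lt_pow_iff_right (by norm_num : 1 < 2)).1 hle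
  obtain ⟨k, rfl⟩ := hdvd
  have hk : k = 3 := by
    have h1 : k ≤ 3 := Nat.le_of_mul_le_mul_left hj hn
    have h2 : 2 < k := by
      by_contra h
      have := Nat.mul_le_mul_left n (not_lt.1 h)
      omega
    omega
  apply Subgroup.eq_of_le_of_card_ge hX
  rw [hXj, hc, hF, hk, pow_mul]

/-- The subgroup `Q₀`. -/
def Q0 : Subgroup G where
  carrier := Set.range C.ι
  one_mem' := ⟨0, C.ι_zero⟩
  mul_mem' := by
    rintro _ _ ⟨x, rfl⟩ ⟨y, rfl⟩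
    exact ⟨x + y, C.ι_add x y⟩
  inv_mem' := by
    rintro _ ⟨x, rfl⟩
    exact ⟨x, (C.ι_inv x).symm⟩

theorem mem_Q0 {x : G} : x ∈ C.Q0 ↔ ∃ y, C.ι y = x := Iff.rfl

theorem ι_mem_Q0 (y : F) : C.ι y ∈ C.Q0 := ⟨y, rfl⟩

theorem mem_Q0_iff {x : G} (hx : x ∈ Q) : x ∈ C.Q0 ↔ x * x = 1 :=
  ⟨by rintro ⟨y, rfl⟩; exact C.ι_sq y, fun h => by
    obtain ⟨y, rfl⟩ := C.exists_ι hx h
    exact ⟨y, rfl⟩⟩

theorem Q0_le : C.Q0 ≤ Q := by rintro _ ⟨y, rfl⟩; exact C.ι_mem y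

theorem conj_mem_Q0 {d x : G} (hd : d ∈ roD a t) (hx : x ∈ C.Q0) : d⁻¹ * x * d ∈ C.Q0 := by
  obtain ⟨y, rfl⟩ := hx
  obtain ⟨z, hz⟩ := C.exists_conj_ι hd y
  exact ⟨z, hz.symm⟩

theorem card_Q0 : Nat.card C.Q0 = Nat.card F :=
  (Nat.card_congr (Equiv.ofInjective C.ι C.ι_inj)).symm

instance normal_Q0 : (C.Q0.subgroupOf Q).Normal := ⟨fun x hx g => by
  obtain ⟨y, hy⟩ := Subgroup.mem_subgroupOf.1 hx
  refine Subgroup.mem_subgroupOf.2 ⟨y, ?_⟩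
  rw [Subgroup.coe_mul, Subgroup.coe_mul, ← hy, ← C.ι_comm g.2, Subgroup.coe_inv,
    mul_inv_cancel_right]⟩

/-- The group `Q/Q₀`. -/
abbrev Qb : Type u := Q ⧸ C.Q0.subgroupOf Q

/-- The action of `D` on `Q/Q₀`. -/
def act : roD a t →* MulAut C.Qb :=
  H5.quotAut (H1.restrictAut (H1.conjAut (roD a t)) Q fun d _ hx => RO.conj_mem_Q C.hS d.2.1 hx)
    (C.Q0.subgroupOf Q) fun d x hx => by
      have := C.conj_mem_Q0 ((roD a t).inv_mem d.2) (Subgroup.mem_subgroupOf.1 hx)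
      rw [inv_inv] at this
      exact Subgroup.mem_subgroupOf.2 this

theorem act_mk (d : roD a t) (x : Q) :
    C.act d (x : C.Qb) = ((⟨d * x * (d : G)⁻¹, RO.conj_mem_Q C.hS d.2.1 x.2⟩ : Q) : C.Qb) := rfl

theorem act_inv_mk {d : G} (hd : d ∈ roD a t) (x : Q) :
    C.act ⟨d, hd⟩⁻¹ (x : C.Qb) = ((⟨d⁻¹ * x * d, BS.conj_mem C.hS x.2 hd⟩ : Q) : C.Qb) := by
  rw [act_mk]
  congr 2
  simp

theorem mk_eq_one {x : Q} : (x : C.Qb) = 1 ↔ (x : G) * x = 1 := by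
  rw [QuotientGroup.eq_one_iff, Subgroup.mem_subgroupOf, C.mem_Q0_iff x.2]

theorem nontrivial_Qb (hc : Nat.card Q = Nat.card F ^ 3) : Nontrivial C.Qb := by
  have := C.finite_F
  rw [QuotientGroup.nontrivial_iff]
  intro h
  have h1 := Subgroup.card_le_of_le (Subgroup.subgroupOf_eq_top.1 h)
  rw [hc, C.card_Q0] at h1
  have h2 : 1 < Nat.card F := Finite.one_lt_card
  have h3 : Nat.card F ^ 1 < Nat.card F ^ 3 := Nat.pow_lt_pow_right h2 (by norm_num)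
  rw [pow_one] at h3
  omega

theorem irreducible (hU : WFree a t Q) (hc : Nat.card Q = Nat.card F ^ 3) {ζ : G}
    (hζ : ζ ∈ roW a t) (hζ1 : ζ ≠ 1) (N : Subgroup C.Qb)
    (hK : ∀ c, ∀ x ∈ N, C.act ⟨C.κ c, C.κ_mem_D c⟩⁻¹ x ∈ N)
    (hz : ∀ x ∈ N, C.act ⟨ζ, hζ.1.1⟩⁻¹ x ∈ N) : N = ⊥ ∨ N = ⊤ := by
  by_cases hN : N = ⊥
  · exact Or.inl hN
  right
  obtain ⟨⟨x, hx⟩, hx1⟩ := Subgroup.ne_bot_iff_exists_ne_one.1 hN
  obtain ⟨x, rfl⟩ := QuotientGroup.mk_surjective x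
  have := C.eq_Q_of_invariant hU hc hζ hζ1
    (X := (N.comap (QuotientGroup.mk' _)).map Q.subtype) (Subgroup.map_subtype_le _)
    (fun y => ⟨⟨C.ι y, C.ι_mem y⟩, by
      have : ((⟨C.ι y, C.ι_mem y⟩ : Q) : C.Qb) = 1 := C.mk_eq_one.2 (C.ι_sq y)
      change ((⟨C.ι y, C.ι_mem y⟩ : Q) : C.Qb) ∈ N
      rw [this]; exact N.one_mem, rfl⟩)
    (by
      rintro c _ ⟨y, hy, rfl⟩
      have := hK c _ hy
      rw [QuotientGroup.mk'_apply, act_inv_mk] at this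
      exact ⟨_, this, rfl⟩)
    (by
      rintro _ ⟨y, hy, rfl⟩
      have := hz _ hy
      rw [QuotientGroup.mk'_apply, act_inv_mk] at this
      exact ⟨_, this, rfl⟩)
    (x := x) ⟨x, hx, rfl⟩ (fun h => hx1 (Subtype.ext (C.mk_eq_one.2 h)))
  rw [eq_top_iff]
  intro y _
  obtain ⟨y, rfl⟩ := QuotientGroup.mk_surjective y
  obtain ⟨z, hz, h⟩ := this.ge y.2
  obtain rfl : z = y := Subtype.ext h
  exact hz

/-- `Q/Q₀` is elementary abelian. -/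
theorem Qb_elem (hU : WFree a t Q) (hc : Nat.card Q = Nat.card F ^ 3) (hp : IsPGroup 2 Q) {ζ : G}
    (hζ : ζ ∈ roW a t) (hζ1 : ζ ≠ 1) (x : C.Qb) : x * x = 1 ∧ ∀ y, y * x = x * y := by
  have := C.nontrivial_Qb hc
  have hp' : IsPGroup 2 C.Qb := hp.to_quotient _
  let N : Subgroup C.Qb :=
    { carrier := {x | x * x = 1 ∧ ∀ y, y * x = x * y}
      one_mem' := ⟨mul_one _, fun y => by rw [mul_one, one_mul]⟩
      mul_mem' := fun {x y} hx hy => ⟨by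
        rw [mul_assoc, ← mul_assoc y, hx.2 y, mul_assoc, hy.1, mul_one, hx.1], fun z => by
        rw [← mul_assoc, hx.2, mul_assoc, hy.2, mul_assoc]⟩
      inv_mem' := fun {x} hx => by rwa [inv_eq_of_mul_self hx.1] }
  have hN : ∀ (φ : MulAut C.Qb), ∀ x ∈ N, φ x ∈ N := fun φ x hx =>
    ⟨by rw [← map_mul, hx.1, map_one], fun y => by
      obtain ⟨y, rfl⟩ := φ.surjective y
      rw [← map_mul, hx.2, map_mul]⟩
  rcases C.irreducible hU hc hζ hζ1 N (fun c => hN _) (hN _) with h | h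
  · exfalso
    have h1 := hp'.center_nontrivial
    obtain ⟨n, hn⟩ := IsPGroup.iff_card.1 (hp'.to_subgroup (Subgroup.center C.Qb))
    have h2 : Even (Nat.card (Subgroup.center C.Qb)) := by
      rcases n with _ | n
      · exact absurd hn Finite.one_lt_card.ne'
      · rw [hn, pow_succ]; simp
    obtain ⟨z, hz, hz1, hz2⟩ := exists_invol_of_even h2
    exact hz1 (h.le (show z ∈ N from ⟨hz2, Subgroup.mem_center_iff.1 hz⟩))
  · exact h.ge (Subgroup.mem_top x)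

theorem exists_sq_eq_ι (hU : WFree a t Q) (hc : Nat.card Q = Nat.card F ^ 3) (hp : IsPGroup 2 Q)
    {ζ : G} (hζ : ζ ∈ roW a t) (hζ1 : ζ ≠ 1) (x : G) (hx : x ∈ Q) : ∃ r, x * x = C.ι r := by
  have := (C.Qb_elem hU hc hp hζ hζ1 ((⟨x, hx⟩ : Q) : C.Qb)).1
  rw [← QuotientGroup.mk_mul, QuotientGroup.eq_one_iff, Subgroup.mem_subgroupOf] at this
  obtain ⟨r, hr⟩ := this
  exact ⟨r, hr.symm⟩

/-- Field coordinates on `Q/Q₀`. -/
theorem exists_coord (hU : WFree a t Q) (hc : Nat.card Q = Nat.card F ^ 3) (hp : IsPGroup 2 Q)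
    {ζ : G} (hζ : ζ ∈ roW a t) (hζ1 : ζ ≠ 1) {ω : G} (hω : NI Q ω) :
    ∃ (E : Type u) (_ : Field E) (_ : Finite E) (π : G → E) (k : Fˣ →* E) (z : E),
      (2 : E) = 0 ∧ π ω = 1 ∧ (∀ x ∈ Q, ∀ y ∈ Q, π (x * y) = π x + π y) ∧
      (∀ x ∈ Q, π x = 0 ↔ x * x = 1) ∧ (∀ e, ∃ x ∈ Q, π x = e) ∧
      (∀ c, ∀ x ∈ Q, π ((C.κ c)⁻¹ * x * C.κ c) = k c * π x) ∧
      (∀ x ∈ Q, π (ζ⁻¹ * x * ζ) = z * π x) ∧ Function.Injective k ∧ ∀ c, k c ≠ z := by
  classical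
  let _ : CommGroup C.Qb :=
    { mul_comm := fun x y => (C.Qb_elem hU hc hp hζ hζ1 y).2 x }
  let ρ : roD a t → AddMonoid.End (Additive C.Qb) := fun d =>
    MonoidHom.toAdditive (C.act d⁻¹).toMonoidHom
  have hρ : ∀ d d', ρ d * ρ d' = ρ (d' * d) := fun d d' => AddMonoidHom.ext fun x => by
    change C.act d⁻¹ (C.act d'⁻¹ x.toMul) = C.act (d' * d)⁻¹ x.toMul
    rw [mul_inv_rev, map_mul, MulAut.mul_apply]
  obtain ⟨E, _, e, he, h⟩ := exists_field_of_irreducible (M := Additive C.Qb)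
    (Additive.ofMul ((⟨ω, hω.1⟩ : Q) : C.Qb)) (fun h => hω.2 (C.mk_eq_one.1 h))
    (insert (ρ ⟨ζ, hζ.1.1⟩) (Set.range fun c => ρ ⟨C.κ c, C.κ_mem_D c⟩)) (by
      rintro _ (rfl | ⟨c, rfl⟩) _ (rfl | ⟨c', rfl⟩)
      · rfl
      · rw [hρ, hρ]; exact congrArg ρ (Subtype.ext (C.W_comm_κ hζ c'))
      · rw [hρ, hρ]; exact congrArg ρ (Subtype.ext (C.W_comm_κ hζ c).symm)
      · rw [hρ, hρ]; exact congrArg ρ (Subtype.ext (C.κ_comm c' c))) (fun N hN => by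
      rcases C.irreducible hU hc hζ hζ1 (AddSubgroup.toSubgroup' N)
        (fun c x hx => hN _ (Or.inr ⟨c, rfl⟩) _ hx) (fun x hx => hN _ (Or.inl rfl) _ hx) with h | h
      · exact Or.inl (eq_bot_iff.2 fun x hx => h.le hx)
      · exact Or.inr (eq_top_iff.2 fun x _ => h.ge (Subgroup.mem_top x.toMul)))
  let π : G → E := fun x => if hx : x ∈ Q then e (Additive.ofMul ((⟨x, hx⟩ : Q) : C.Qb)) else 0
  have hπ : ∀ x (hx : x ∈ Q), π x = e (Additive.ofMul ((⟨x, hx⟩ : Q) : C.Qb)) := fun x hx =>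
    dif_pos hx
  have hπρ : ∀ d (hd : d ∈ roD a t) x (hx : x ∈ Q),
      π (d⁻¹ * x * d) = e (ρ ⟨d, hd⟩ (Additive.ofMul ((⟨x, hx⟩ : Q) : C.Qb))) := fun d hd x hx => by
    rw [hπ _ (BS.conj_mem C.hS hx hd)]
    exact congrArg (fun y => e (Additive.ofMul y)) (C.act_inv_mk hd ⟨x, hx⟩).symm
  have hω1 : π ω = 1 := by rw [hπ _ hω.1, he]
  have hadd : ∀ x ∈ Q, ∀ y ∈ Q, π (x * y) = π x + π y := fun x hx y hy => by
    rw [hπ _ hx, hπ _ hy, hπ _ (Q.mul_mem hx hy), ← map_add]; rfl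
  have hzero : ∀ x ∈ Q, π x = 0 ↔ x * x = 1 := fun x hx => by
    rw [hπ _ hx, e.map_eq_zero_iff]; exact C.mk_eq_one
  obtain ⟨z, hz⟩ := h _ (Or.inl rfl)
  choose k hk using fun c => h _ (Or.inr ⟨c, rfl⟩)
  have hk' : ∀ c, ∀ x ∈ Q, π ((C.κ c)⁻¹ * x * C.κ c) = k c * π x := fun c x hx => by
    rw [hπρ _ (C.κ_mem_D c) x hx, hk, hπ _ hx]
  have hz' : ∀ x ∈ Q, π (ζ⁻¹ * x * ζ) = z * π x := fun x hx => by
    rw [hπρ _ hζ.1.1 x hx, hz, hπ _ hx]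
  have h2 : (2 : E) = 0 := by
    obtain ⟨r, hr⟩ := C.exists_sq_eq_ι hU hc hp hζ hζ1 ω hω.1
    have := hadd ω hω.1 ω hω.1
    rw [hr, (hzero _ (C.ι_mem r)).2 (C.ι_sq r), hω1] at this
    linear_combination -this
  have hcos : ∀ x ∈ Q, ∀ y ∈ Q, π x = π y → ∃ r, x = y * C.ι r := fun x hx y hy h => by
    have h1 := hadd _ hy _ (Q.mul_mem (Q.inv_mem hy) hx)
    rw [mul_inv_cancel_left, h, left_eq_add, hzero _ (Q.mul_mem (Q.inv_mem hy) hx)] at h1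
    obtain ⟨r, hr⟩ := C.exists_ι (Q.mul_mem (Q.inv_mem hy) hx) h1
    exact ⟨r, by rw [← hr, mul_inv_cancel_left]⟩
  let k' : Fˣ →* E :=
    { toFun := k
      map_one' := by simpa [hω1] using (hk' 1 ω hω.1).symm
      map_mul' := fun c c' => by
        have h1 := hk' (c * c') ω hω.1
        have h3 := hk' c' _ (BS.conj_mem C.hS hω.1 (C.κ_mem_D c))
        rw [hk' c ω hω.1, hω1, mul_one] at h3
        rw [hω1, mul_one] at h1
        rw [← h1, mul_comm (k c), ← h3, map_mul]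
        congr 1
        group }
  refine ⟨E, inferInstance, Finite.of_equiv _ e.toEquiv, π, k', z, h2, hω1, hadd, hzero,
    fun y => ?_, hk', hz', fun c c' h => ?_, fun c h => ?_⟩
  · obtain ⟨x, rfl⟩ := e.surjective y
    obtain ⟨x, hx⟩ := QuotientGroup.mk_surjective x.toMul
    exact ⟨x, x.2, by rw [hπ _ x.2, hx]; rfl⟩
  · obtain ⟨r, hr⟩ := hcos _ (BS.conj_mem C.hS hω.1 (C.κ_mem_D c)) _
      (BS.conj_mem C.hS hω.1 (C.κ_mem_D c')) (by rw [hk' _ _ hω.1, hk' _ _ hω.1]; exact congrArg (· * _) h)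
    refine (C.P_inj hω (c := c) (c' := c') (y := 0) (y' := (c'⁻¹ : Fˣ) * r) ?_).1
    rw [P_eq, P_eq, mul_zero, C.ι_zero, mul_one, Units.mul_inv_cancel_left, hr]
  · obtain ⟨r, hr⟩ := hcos _ (BS.conj_mem C.hS hω.1 hζ.1.1) _
      (BS.conj_mem C.hS hω.1 (C.κ_mem_D c)) (by rw [hk' _ _ hω.1, hz' _ hω.1]; exact congrArg (· * _) h.symm)
    have h1 : ζ⁻¹ * ω * ζ = C.P ω c ((c⁻¹ : Fˣ) * r) := by
      rw [P_eq, Units.mul_inv_cancel_left, hr]
    have := C.eq_P_symm h1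
    nth_rewrite 1 [← mul_one ω, ← C.ι_zero] at this
    exact hζ1 (C.semireg hU hζ hω this.symm).1

end Ctx

end H55
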