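/- Peterfalvi, part II, chapter IV.4: the field computation showing that `h(ω) ∈ W`. -/
import Cfsg.Agent.H55.BS4

set_option autoImplicit false
set_option linter.unusedSectionVars false

open Cfsg MulAction H69 Polynomial

namespace H55

theorem sq_eq_of_equations {F E : Type*} [Field F] [Finite F] [Field E] (hF : (2 : F) = 0)
    (hE : (2 : E) = 0) (k : F →*₀ E) (hk : Function.Injective k) {z : E} (hz : ∀ x, k x ≠ z)
    (σ : F ≃+* F) {α b₀ : F} (hα0 : α ≠ 0) (hα : σ α = α) (hb₀ : σ b₀ = b₀) (h0 : b₀ ≠ 0)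
    (h1 : b₀ ≠ α) (Z : F → E) (hA : ∀ b, b ≠ α → k (b + α) ^ 2 * Z b = z * Z (σ b) + 1)
    (hB : ∀ b, b ≠ 0 → k (σ b) ^ 2 * Z (σ b) = z⁻¹ * Z b + 1) (b : F) : σ (σ b) = b := by
  classical
  have := Fintype.ofFinite F
  have : CharP F 2 := (CharP.charP_iff_prime_eq_zero Nat.prime_two).2 hF
  have : CharP E 2 := (CharP.charP_iff_prime_eq_zero Nat.prime_two).2 hE
  obtain ⟨n, -, hn⟩ := FiniteField.card F 2
  let φ := iterateFrobenius E 2 n
  have hφk : ∀ x, φ (k x) = k x := fun x => by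
    rw [iterateFrobenius_def, ← map_pow, ← hn, FiniteField.pow_card]
  have hz0 : z ≠ 0 := fun h => hz 0 (by rw [map_zero, h])
  have hφz : φ z ≠ z := by
    intro h
    refine FiniteField.X_pow_card_sub_X_ne_zero E (p := Fintype.card F) Fintype.one_lt_card
      (eq_zero_of_natDegree_lt_card_of_eval_eq_zero' _ (insert z (Finset.univ.image k)) ?_ ?_)
    · intro x hx
      have : φ x = x := by
        rcases Finset.mem_insert.1 hx with rfl | hx
        · exact h
        · obtain ⟨y, -, rfl⟩ := Finset.mem_image.1 hx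
          exact hφk y
      rw [iterateFrobenius_def, ← hn] at this
      simp [this]
    · rw [FiniteField.X_pow_card_sub_X_natDegree_eq E Fintype.one_lt_card,
        Finset.card_insert_of_notMem (by simpa using hz), Finset.card_image_of_injective _ hk]
      simp
  have hφz0 : φ z ≠ 0 := by simpa using hz0
  let u : F → E := fun b => k (((b + α) * σ b) ^ 2)
  have hu : ∀ b, u b = k (b + α) ^ 2 * k (σ b) ^ 2 := fun b => by simp [u, mul_pow]
  have e1 : ∀ b, b ≠ 0 → b ≠ α → Z b * (1 + u b) = z + k (σ b) ^ 2 := fun b hb hb' => by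
    have h1 := hA b hb'
    have h2 := hB b hb
    have h3 : z * z⁻¹ = 1 := mul_inv_cancel₀ hz0
    rw [hu]
    linear_combination k (σ b) ^ 2 * h1 + z * h2 + Z b * h3 + Z b * hE
  have e2 : ∀ b, b ≠ 0 → b ≠ α → Z (σ b) * (1 + u b) * z = 1 + z * k (b + α) ^ 2 :=
    fun b hb hb' => by
    have h1 := hA b hb'
    have h2 := hB b hb
    have h3 : z * z⁻¹ = 1 := mul_inv_cancel₀ hz0
    rw [hu]
    linear_combination h1 + z * k (b + α) ^ 2 * h2 + k (b + α) ^ 2 * Z b * h3 + z * Z (σ b) * hE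
  have e3 : ∀ b, b ≠ 0 → b ≠ α → 1 + u (σ b) = z * φ z * (1 + u b) := fun b hb hb' => by
    have h1 := e2 b hb hb'
    have h2 := e1 (σ b) (by simpa using hb) (by rw [← hα]; simpa using hb')
    have h3 : (1 + z * k (b + α) ^ 2) * (1 + u (σ b)) =
        z * (z + k (σ (σ b)) ^ 2) * (1 + u b) := by
      linear_combination (-(1 + u (σ b))) * h1 + (1 + u b) * z * h2
    have h4 := congrArg φ h3
    simp only [map_mul, map_add, map_one, map_pow, hφk, u] at h4
    simp only [map_mul, map_pow, u] at h3 ⊢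
    apply mul_left_cancel₀ (sub_ne_zero.2 hφz)
    linear_combination (φ z) * h3 - z * h4 +
      (z * φ z * (z - φ z) * (1 + (k (b + α) * k (σ b)) ^ 2)) * hE
  have e4 : z * φ z = 1 := by
    have h2 := e3 b₀ h0 h1
    have h3 := e1 b₀ h0 h1
    rw [hb₀] at h2
    have h4 : 1 + u b₀ ≠ 0 := fun h => hz (σ b₀ ^ 2) (by
      rw [h, mul_zero] at h3
      rw [map_pow]
      linear_combination -h3 - z * hE)
    exact (mul_right_cancel₀ h4 (by rw [← h2, one_mul])).symm
  have e5 : ∀ b, b ≠ 0 → b ≠ α → (σ b + α) * σ (σ b) = (b + α) * σ b := fun b hb hb' => by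
    have h2 := e3 b hb hb'
    rw [e4, one_mul, add_right_inj] at h2
    have h3 := hk h2
    have h4 : ((σ b + α) * σ (σ b) - (b + α) * σ b) ^ 2 = 0 := by
      linear_combination h3 + (((b + α) * σ b) ^ 2 - (σ b + α) * σ (σ b) * ((b + α) * σ b)) * hF
    exact sub_eq_zero.1 (pow_eq_zero_iff two_ne_zero |>.1 h4)
  by_cases hb : b = 0
  · simp [hb]
  by_cases hb' : b = α
  · rw [hb', hα, hα]
  have h2 := e5 b hb hb'
  have h3 := e5 (b + α) (fun h => hb' (by linear_combination h - α * hF)) (by simpa using hb)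
  simp only [map_add, hα] at h3
  apply mul_left_cancel₀ hα0
  linear_combination h2 - h3 + (α * σ (σ b) - α * b + α * σ b - α * b
    + α * σ (σ b) + α ^ 2 - α * σ b - α ^ 2 - α * σ (σ b) + α * b) * hF

end H55
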