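/- Peterfalvi, part II, chapters III.3 (1), IV.2 and IV.4: the unitary configuration (job D2). -/
import Cfsg.Agent.H55.BS5
import Cfsg.Agent.H90.Free

set_option autoImplicit false
set_option linter.unusedSectionVars false

open Cfsg MulAction H69

namespace H55

universe u v

/-- In a group of odd order acting without fixed points subgroups of prime order are normal. -/
theorem conj_mem_zpowers_of_free {D : Type*} [Group D] [Finite D] (h : H90.Free D)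
    (hodd : Odd (Nat.card D)) {x : D} (hx : (orderOf x).Prime) (g : D) :
    g * x * g⁻¹ ∈ Subgroup.zpowers x := by
  obtain ⟨L, _, _, K, f, hf, hK, hN, hfpf⟩ := h.bridge
  have := H5.isZGroup_of_fpf_of_odd hK hN hfpf
    (by rwa [← Nat.card_congr (MonoidHom.ofInjective hf).toEquiv])
  have h1 := H5.le_normalizer_zpowers_of_fpf hK hN hfpf (x := f x) ⟨x, rfl⟩
    (by rwa [orderOf_injective f hf])
  obtain ⟨k, hk⟩ := H1.conj_mem_of_le_normalizer h1 ⟨g, rfl⟩ (Subgroup.mem_zpowers (f x))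
  exact ⟨k, hf (by simpa using hk)⟩

theorem exists_pow_prime_order {G : Type*} [Group G] [Finite G] {d : G} (hd : d ≠ 1) :
    ∃ n : ℕ, (orderOf (d ^ n)).Prime := by
  obtain ⟨p, hp, hd⟩ := Nat.exists_prime_and_dvd (mt orderOf_eq_one_iff.1 hd)
  exact ⟨orderOf d / p, by rwa [orderOf_pow_orderOf_div (orderOf_pos d).ne' hd]⟩

variable {G : Type u} {Ω : Type*} [Group G] [MulAction G Ω] {a : Ω} {t : G} {Q : Subgroup G}
  {F : Type} [Field F]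

local notation "𝐠" => fg a t Q
local notation "𝐡" => fh a t Q
local notation "𝐟" => ff a t Q

namespace Ctx

variable [Finite G] (C : Ctx a t Q F)

include C in
theorem unit3_of (hU : WFree a t Q) {ζ ω : G} (hζ : ζ ∈ roW a t) (hζ1 : ζ ≠ 1) (hω : NI Q ω)
    (hf : 𝐟 ω = ζ⁻¹ * ω⁻¹ * ζ) (hh : 𝐡 ω ∈ roW a t) : Unit3 a t Q :=
  ⟨hU, ζ, hζ, hζ1, ω, hω.1, hω.2, 𝐠 ω, BS.g_mem C.hS hω.1 hω.ne_one, 𝐡 ω, hh, by
    rw [← hf, BS.txt_eq C.hS hω.1 hω.ne_one]⟩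

theorem inv_eq_mul_ι {ω : G} {α : F} (h : ω * ω = C.ι α) : ω⁻¹ = ω * C.ι α := by
  rw [inv_eq_iff_mul_eq_one, ← mul_assoc, h, C.ι_sq]

include C in
theorem wFree_of_loc [FaithfulSMul G Ω] (hL : Loc a t Q) (hc : Nat.card Q = roq G a ^ 3) :
    WFree a t Q := by
  intro w hw hw1 x hx hwx
  have hI : roIc a (Subgroup.zpowers w) = roI G a := by
    refine Set.inter_eq_left.2 fun s hs => ?_
    rintro _ ⟨n, rfl⟩
    exact (show Commute w s from (((RO.mem_W_iff C.hS).1 hw).2 s hs).symm).zpow_left n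
  have hq : roql a (Subgroup.zpowers w) = roq G a := by rw [roql, hI, roq]
  have h2 : 2 < roq G a := by
    obtain ⟨s, hs, s', hs', h⟩ := RO.exists_two_roI C.hS C.h2
    have : Nontrivial (roI G a) := ⟨⟨⟨s, hs⟩, ⟨s', hs'⟩, fun e => h (congrArg Subtype.val e)⟩⟩
    have := Finite.one_lt_card (α := roI G a)
    rw [roq]; omega
  obtain ⟨-, h | h | h⟩ := hL (Subgroup.zpowers w) (Subgroup.zpowers_le.2 hw.1) (by simpa using hw1)
    (by rwa [hq])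
  · refine h x ⟨hx, ?_⟩
    rintro _ ⟨n, rfl⟩
    exact (show Commute w x from hwx).zpow_left n
  · exact absurd C.h3 h.2.2
  · exfalso
    have h1 := Subgroup.eq_of_le_of_card_ge (inf_le_left : Q ⊓ Subgroup.centralizer
      (Subgroup.zpowers w : Set G) ≤ Q) (by rw [h.2.1, hq, hc])
    refine hw1 (eq_of_smul_eq_smul (α := Ω) fun b => ?_)
    rw [one_smul]
    by_cases hb : b = a
    · rw [hb]; exact hw.1.1.1
    · obtain ⟨y, hy, rfl⟩ := RO.exists_Q_smul_ta C.hS hb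
      rw [← mul_smul, (h1.ge hy).2 w (Subgroup.mem_zpowers w), mul_smul, hw.1.1.2]

/-! ### The case in which `D` acts without fixed points on `Q/Q₀` -/

include C in
theorem free_D (hp : IsPGroup 2 Q) (hc : Nat.card Q = Nat.card F ^ 3)
    (hD : ∀ d ∈ roD a t, d ≠ 1 → ∀ x ∈ Q, d * x = x * d → x * x = 1) : H90.Free (roD a t) := by
  have := C.nontrivial_Qb hc
  refine H90.Free.of_fpf C.act fun d hd x hx => ?_
  obtain ⟨x, rfl⟩ := QuotientGroup.mk_surjective x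
  rw [act_mk, eq_comm, QuotientGroup.eq, Subgroup.mem_subgroupOf] at hx
  have hN : ∀ e ∈ roD a t, ∀ y ∈ C.Q0, e * y * e⁻¹ ∈ C.Q0 := fun e he y hy => by
    have := C.conj_mem_Q0 ((roD a t).inv_mem he) hy
    rwa [inv_inv] at this
  have hle : Subgroup.zpowers (d : G) ≤ roD a t := Subgroup.zpowers_le.2 d.2
  obtain ⟨n, hn, h⟩ := H1.exists_centralizer_mem_coset (A := Subgroup.zpowers (d : G)) (N := C.Q0)
    (H1.le_normalizer_of_conj_mem fun e he => hN e (hle he)) (by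
      obtain ⟨k, hk⟩ := IsPGroup.iff_card.1 (hp.to_le C.Q0_le)
      rw [hk, Nat.card_zpowers]
      exact (Nat.coprime_two_right.2 (RO.odd_orderOf_of_mem_D C.hS d.2.1 d.2.2)).pow_right k)
    (Or.inl (Group.isSolvable_of_comm fun x y => mul_comm' x y)) (x : G) (by
      intro e he
      obtain ⟨m, rfl⟩ := mem_powers_iff_mem_zpowers.2 he
      simp only
      induction m with
      | zero => simp
      | succ m ih =>
        have h1 := C.Q0.mul_mem hx (hN d d.2 _ (ih (Subgroup.npow_mem_zpowers _ _)))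
        convert h1 using 1
        simp only [Subgroup.coe_mul, Subgroup.coe_inv, pow_succ']
        group)
  obtain ⟨y, rfl⟩ := hn
  have h1 := hD d d.2 (fun h => hd (Subtype.ext h)) _ (Q.mul_mem x.2 (C.ι_mem y))
    (h d (Subgroup.mem_zpowers _))
  rw [C.mul_ι_sq x.2] at h1
  exact C.mk_eq_one.2 h1

include C in
theorem unit3_of_free (hU : WFree a t Q) (hp : IsPGroup 2 Q) (hc : Nat.card Q = Nat.card F ^ 3)
    (hV : roV a t ≠ ⊥) (hD : H90.Free (roD a t)) : Unit3 a t Q := by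
  obtain ⟨⟨v, hv⟩, hv1⟩ := Subgroup.ne_bot_iff_exists_ne_one.1 hV
  obtain ⟨n, hn⟩ := exists_pow_prime_order (d := v) fun h => hv1 (Subtype.ext h)
  obtain ⟨ζ, hζV, hζp⟩ : ∃ ζ ∈ roV a t, (orderOf ζ).Prime := ⟨_, (roV a t).pow_mem hv n, hn⟩
  have hζ1 : ζ ≠ 1 := by
    rintro rfl
    rw [orderOf_one] at hζp
    exact Nat.not_prime_one hζp
  have hζp' : (orderOf (⟨ζ, hζV.1⟩ : roD a t)).Prime := by rwa [Subgroup.orderOf_mk]
  have hnorm := conj_mem_zpowers_of_free hD C.hS.odd_card hζp'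
  have hζ : ζ ∈ roW a t := by
    refine ⟨hζV, fun k hk => RO.K_comm_of_conj_mem_V C.hS hk hζV ?_⟩
    obtain ⟨m, hm⟩ := hnorm ⟨k, hk.1⟩
    have : ζ ^ m = k * ζ * k⁻¹ := congrArg Subtype.val hm
    rw [← this]
    exact (roV a t).zpow_mem hζV m
  have hh : ∀ ω α, C.Rep ζ ω α → 𝐡 ω ∈ Subgroup.zpowers ζ := by
    intro ω α h
    have he : 𝐡 ω * ζ⁻¹ ∈ roD a t :=
      (roD a t).mul_mem (BS.h_mem C.hS h.ni.1 h.ni.ne_one) ((roD a t).inv_mem hζV.1)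
    have hd : orderOf (⟨_, he⟩ : roD a t) ∣ orderOf (⟨ζ, hζV.1⟩ : roD a t) := by
      rw [Subgroup.orderOf_mk, Subgroup.orderOf_mk]
      exact orderOf_dvd_of_pow_eq_one (h.h_pow hU hζ)
    have h1 : (⟨_, he⟩ : roD a t) ∈ Subgroup.zpowers (⟨ζ, hζV.1⟩ : roD a t) := by
      rcases (Nat.dvd_prime hζp').1 hd with h1 | h1
      · rw [orderOf_eq_one_iff.1 h1]; exact Subgroup.one_mem _
      · exact hD.mem_zpowers_of_commute
          (hD.commute_of_prime_order (by rwa [h1]) hζp' (hnorm _)) hd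
    obtain ⟨m, hm⟩ := h1
    have : ζ ^ m = 𝐡 ω * ζ⁻¹ := congrArg Subtype.val hm
    exact ⟨m + 1, by simp only [zpow_add_one, this, inv_mul_cancel_right]⟩
  have := C.nontrivial_Qb hc
  obtain ⟨x, hx⟩ := exists_ne (1 : C.Qb)
  obtain ⟨x, rfl⟩ := QuotientGroup.mk_surjective x
  obtain ⟨ω₀, α₀, -, -, h₀, -⟩ := C.exists_rep hU hc hζ hζ1 (x := x)
    ⟨x.2, fun h => hx (C.mk_eq_one.2 h)⟩
  have hle : Subgroup.zpowers ζ ≤ roW a t := Subgroup.zpowers_le.2 hζ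
  obtain ⟨ω, α, h, hsq⟩ := exists_rep_sq hU hc hζ hζ1 (C.exists_sq_eq_ι hU hc hp hζ hζ1) h₀
    (hle (hh _ _ h₀)) (by
      obtain ⟨m, hm⟩ := hh _ _ h₀
      rw [← hm]
      exact (Commute.refl ζ).zpow_left m)
  refine C.unit3_of hU hζ hζ1 h.ni ?_ (hle (hh _ _ h))
  rw [h.eq, C.inv_eq_mul_ι hsq, C.conj_W_mul_ι hζ]

/-! ### The case in which an element of `V` of prime order has a fixed point on `Q/Q₀` -/

theorem conj_pow_ι {v : G} {σ : F ≃+* F} (h : ∀ y, v⁻¹ * C.ι y * v = C.ι (σ y)) (n : ℕ) (y : F) :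
    (v ^ n)⁻¹ * C.ι y * v ^ n = C.ι ((σ ^ n) y) := by
  induction n generalizing y with
  | zero => simp
  | succ n ih =>
    rw [pow_succ σ, RingAut.mul_apply, ← ih, ← h, pow_succ']
    group

include C in
theorem exists_eq_W_mul_pow {v w : G} (hv : v ∈ roV a t) (hw : w ∈ roWc a t (Subgroup.zpowers v)) :
    ∃ n : ℕ, ∃ w' ∈ roW a t, w = w' * v ^ n ∧ v * w' = w' * v := by
  have := C.finite_F
  obtain ⟨σ, hσ, -⟩ := C.conj_V v hv
  obtain ⟨τ, hτ, -⟩ := C.conj_V w hw.1.1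
  obtain ⟨n, rfl⟩ := exists_eq_pow_of_fix σ τ fun y hy => by
    by_cases hy0 : y = 0
    · rw [hy0, map_zero]
    have h1 : v * C.ι y = C.ι y * v := by
      nth_rewrite 1 [← hy]
      rw [← hσ]; group
    have h2 : C.ι y * w = w * C.ι y := hw.2 _ ⟨C.ι_mem_roI hy0, by
      rintro _ ⟨m, rfl⟩
      exact (show Commute v (C.ι y) from h1).zpow_left m⟩
    apply C.ι_inj
    rw [← hτ, mul_assoc, h2]; group
  have hc : Commute v w := hw.1.2 v (Subgroup.mem_zpowers v)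
  refine ⟨n, w * (v ^ n)⁻¹, C.mem_W_of_comm_ι ((roD a t).mul_mem hw.1.1.1
    ((roD a t).inv_mem ((roD a t).pow_mem hv.1 n))) fun y => ?_, by group,
    (hc.mul_right ((Commute.refl v).pow_right n).inv_right).eq⟩
  have h1 := hτ y
  rw [← C.conj_pow_ι hσ] at h1
  calc C.ι y * (w * (v ^ n)⁻¹) = w * (w⁻¹ * C.ι y * w) * (v ^ n)⁻¹ := by group
    _ = _ := by rw [h1]; group

theorem coord_eq {E : Type*} [Field E] {π : G → E} {k : Fˣ →* E} {z : E}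
    (hadd : ∀ x ∈ Q, ∀ y ∈ Q, π (x * y) = π x + π y) (hzero : ∀ x ∈ Q, π x = 0 ↔ x * x = 1)
    (hk : ∀ c, ∀ x ∈ Q, π ((C.κ c)⁻¹ * x * C.κ c) = k c * π x) {ζ η ω : G}
    (hz : ∀ x ∈ Q, π (ζ⁻¹ * x * ζ) = z * π x) (hζ : ζ ∈ roW a t) (hη : η ∈ roV a t)
    (hc : η * ζ = ζ * η) (hω : NI Q ω) (hf : 𝐟 ω = ζ⁻¹ * ω⁻¹ * ζ) (hh : 𝐡 ω = ζ ^ 3 * η) {α : F}
    (hα : ω * ω = C.ι α) (c : Fˣ) :
    k c ^ 2 * π (𝐟 (ω * C.ι (α + c))) = z * π (η⁻¹ * 𝐟 (ω * C.ι (α + c)) * η) + π ω := by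
  have hinv := C.inv_eq_mul_ι hα
  have hR : C.Rep ζ ω α := ⟨hω, by rw [hf, hinv, C.conj_W_mul_ι hζ]⟩
  have hN := hω.mul_ι C (α + c)
  have hX := hN.f C
  have hζ' := (roW a t).inv_mem hζ
  have hι : ∀ y, π (C.ι y) = 0 := fun y => (hzero _ (C.ι_mem y)).2 (C.ι_sq y)
  have e1 := hR.f_step hζ (c := c⁻¹) (c' := 1) (y := 0) (x := 𝐟 (ω * C.ι (α + c))) (b := α + c)
    (by rw [inv_inv]) (by rw [P_one, C.ι_zero, mul_one])
  have e2 := C.f_mul_ι' hω c⁻¹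
  have hg : 𝐠 ω * C.ι (c⁻¹⁻¹ : Fˣ) = ζ⁻¹⁻¹ * (ω * C.ι (α + c)) * ζ⁻¹ := by
    rw [BS.g_eq C.hS hω.1 hω.ne_one, hinv, hR.f_last hζ, inv_inv c, C.ι_add, ← mul_assoc ω, ← hinv,
      C.conj_W_mul_ι hζ']
    group
  have hhV : 𝐡 ω ∈ roV a t := by
    rw [hh]; exact (roV a t).mul_mem ((roV a t).pow_mem hζ.1 3) hη
  rw [hg, BS.f_conj_V C.hS hN.1 hN.ne_one hζ'.1, BS.tvt C.hS hhV, hh, hf, e1] at e2
  set X := 𝐟 (ω * C.ι (α + c))
  have e3 : (ζ ^ 3 * η)⁻¹ * (ζ⁻¹⁻¹ * X * ζ⁻¹) * (ζ ^ 3 * η) =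
      ζ⁻¹ * (ζ⁻¹ * (η⁻¹ * X * η) * ζ) * ζ := by
    have : ζ * ζ * η = η * ζ * ζ := by rw [hc, mul_assoc, ← hc, ← mul_assoc, ← hc]
    calc (ζ ^ 3 * η)⁻¹ * (ζ⁻¹⁻¹ * X * ζ⁻¹) * (ζ ^ 3 * η)
        = (ζ * ζ * η)⁻¹ * X * (ζ * ζ * η) := by rw [pow_three']; group
      _ = _ := by rw [this]; group
  have hY := hX.conj C hη.1
  have hπinv : π ω⁻¹ = π ω := by rw [hinv, hadd _ hω.1 _ (C.ι_mem α), hι, add_zero]
  have e4 := congrArg π e2
  rw [e3, P, hk _ _ ((hX.conj C hζ.1.1).mul_ι C _).1, hadd _ (hX.conj C hζ.1.1).1 _ (C.ι_mem _), hι,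
    hz _ hX.1, hadd _ ((hY.conj C hζ.1.1).conj C hζ.1.1).1 _ (hω.inv.conj C hζ.1.1).1,
    hz _ (hY.conj C hζ.1.1).1, hz _ hY.1, hz _ hω.inv.1, hπinv, one_mul, inv_pow, inv_inv,
    map_pow] at e4
  have hz0 : z ≠ 0 := fun h => (hω.conj C hζ.1.1).2 ((hzero _ (hω.conj C hζ.1.1).1).1 (by
    rw [hz _ hω.1, h, zero_mul]))
  apply mul_left_cancel₀ hz0
  linear_combination e4

include C in
theorem unit3_of_lunit3 (hU : WFree a t Q) (hp : IsPGroup 2 Q) (hc : Nat.card Q = Nat.card F ^ 3)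
    {v : G} (hv : v ∈ roV a t) (hl : 2 < roql a (Subgroup.zpowers v))
    (hL : LUnit3 a t Q (Subgroup.zpowers v)) : Unit3 a t Q := by
  classical
  have := C.finite_F
  obtain ⟨-, ζ₁, hζ₁, ω, hωQ, hω2, hne, g, hg, w₁, hw₁, e⟩ := hL
  have hω : NI Q ω := ⟨hωQ.1, hω2⟩
  have hvω : Commute v ω := hωQ.2 v (Subgroup.mem_zpowers v)
  obtain ⟨n, ζ, hζ, rfl, hvζ⟩ := C.exists_eq_W_mul_pow hv hζ₁
  obtain ⟨m, w, hw, rfl, hvw⟩ := C.exists_eq_W_mul_pow hv hw₁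
  have hvζ : Commute v ζ := hvζ
  have hζ1 : ζ ≠ 1 := by
    rintro rfl
    exact hne (by rw [one_mul]; exact hvω.pow_left n)
  obtain ⟨-, hh, hf⟩ := BS.ghf_eq C.hS hg hw₁.1.1.1 (BS.conj_mem C.hS (Q.inv_mem hω.1) hζ₁.1.1.1) e
  have hf : 𝐟 ω = ζ⁻¹ * ω⁻¹ * ζ := by
    have h1 : Commute (v ^ n) (ζ⁻¹ * ω⁻¹ * ζ) :=
      ((hvζ.inv_right.mul_right hvω.inv_right).mul_right hvζ).pow_left n
    rw [hf]
    calc (ζ * v ^ n)⁻¹ * ω⁻¹ * (ζ * v ^ n) = (v ^ n)⁻¹ * (ζ⁻¹ * ω⁻¹ * ζ * v ^ n) := by group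
      _ = _ := by rw [← h1.eq]; group
  set η := v ^ m with hηdef
  have hη : η ∈ roV a t := (roV a t).pow_mem hv m
  have hηω : Commute η ω := hvω.pow_left m
  have hηζ : Commute η ζ := hvζ.pow_left m
  have hζ' := (roW a t).inv_mem hζ
  have hfi : 𝐟 ω⁻¹ = ζ⁻¹⁻¹ * ω⁻¹⁻¹ * ζ⁻¹ := by
    rw [show ω⁻¹ = ζ⁻¹⁻¹ * 𝐟 ω * ζ⁻¹ by rw [hf]; group,
      BS.f_conj_V C.hS (hω.f C).1 (hω.f C).ne_one hζ'.1, BS.f_f C.hS hω.1 hω.ne_one, hf]
    group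
  have hw3 : w = ζ ^ 3 := by
    have h1 := BS.f_g C.hS hω.1 hω.ne_one
    rw [BS.g_eq C.hS hω.1 hω.ne_one, hfi,
      show (ζ⁻¹⁻¹ * ω⁻¹⁻¹ * ζ⁻¹)⁻¹ = ζ⁻¹⁻¹ * ω⁻¹ * ζ⁻¹ by group,
      BS.f_conj_V C.hS hω.inv.1 hω.inv.ne_one hζ'.1, hfi, hh, hf,
      BS.tvt C.hS ((roV a t).inv_mem hw₁.1.1)] at h1
    have h2 : Commute η (ζ⁻¹ * ω * ζ) := (hηζ.inv_right.mul_right hηω).mul_right hηζ
    have h3 : ζ⁻¹ * ζ⁻¹ * w * ζ⁻¹ = 1 := by
      by_contra h3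
      refine hω2 (hU _ ((roW a t).mul_mem ((roW a t).mul_mem ((roW a t).mul_mem hζ' hζ') hw) hζ')
        h3 ω hω.1 ?_)
      calc ζ⁻¹ * ζ⁻¹ * w * ζ⁻¹ * ω = ζ⁻¹ * ζ⁻¹ * w * (ζ⁻¹ * ω * ζ * η) * η⁻¹ * ζ⁻¹ := by group
        _ = ζ⁻¹ * ζ⁻¹ * ((w * η)⁻¹⁻¹ * (ζ⁻¹ * ω⁻¹ * ζ)⁻¹ * (w * η)⁻¹) * w * ζ⁻¹ := by
          rw [← h2.eq]; group
        _ = _ := by rw [← h1]; group
    calc w = ζ * ζ * (ζ⁻¹ * ζ⁻¹ * w * ζ⁻¹) * ζ := by group
      _ = _ := by rw [h3, mul_one, pow_three']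
  subst hw3
  have hhi : 𝐡 ω⁻¹ = ζ⁻¹ ^ 3 * η⁻¹ := by
    rw [BS.h_inv C.hS hω.1 hω.ne_one, hh, BS.tvt C.hS ((roV a t).inv_mem hw₁.1.1),
      ← (hηζ.pow_right 3).eq]
    group
  obtain ⟨α, hα⟩ := C.exists_sq_eq_ι hU hc hp hζ hζ1 ω hω.1
  have hα' : ω⁻¹ * ω⁻¹ = C.ι α := by rw [← mul_inv_rev, hα, C.ι_inv]
  obtain ⟨E, _, _, π, k, z, h2, hω1, hadd, hzero, -, hk, hz, hkinj, hkz⟩ :=
    C.exists_coord hU hc hp hζ hζ1 hω
  have hz0 : z ≠ 0 := fun h => (hω.conj C hζ.1.1).2 ((hzero _ (hω.conj C hζ.1.1).1).1 (by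
    rw [hz _ hω.1, h, zero_mul]))
  have hz' : ∀ x ∈ Q, π (ζ⁻¹⁻¹ * x * ζ⁻¹) = z⁻¹ * π x := fun x hx => by
    have := hz _ (BS.conj_mem C.hS hx hζ'.1.1)
    rw [show ζ⁻¹ * (ζ⁻¹⁻¹ * x * ζ⁻¹) * ζ = x by group] at this
    rw [this, inv_mul_cancel_left₀ hz0]
  obtain ⟨σ, hσ, -⟩ := C.conj_V η hη
  have hfix : ∀ y, η * C.ι y = C.ι y * η → σ y = y := fun y h => C.ι_inj (by
    rw [← hσ, mul_assoc, ← h]; group)
  have hfσ : ∀ b, η⁻¹ * 𝐟 (ω * C.ι b) * η = 𝐟 (ω * C.ι (σ b)) := fun b => by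
    rw [← BS.f_conj_V C.hS (hω.mul_ι C b).1 (hω.mul_ι C b).ne_one hη, ← hσ]
    congr 1
    rw [← mul_assoc, hηω.inv_left.eq]; group
  have hk0 : ∀ c, k c ≠ 0 := fun c => ((Group.isUnit c).map k).ne_zero
  let k₀ : F →*₀ E :=
    { toFun := fun x => if h : x = 0 then 0 else k (Units.mk0 x h)
      map_zero' := dif_pos rfl
      map_one' := by simp
      map_mul' := fun x y => by
        by_cases hx : x = 0
        · simp [hx]
        by_cases hy : y = 0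
        · simp [hy]
        rw [dif_neg hx, dif_neg hy, dif_neg (mul_ne_zero hx hy), ← map_mul, Units.mk0_mul] }
  have hk₀ : ∀ c : Fˣ, k₀ c = k c := fun c => by
    change (if h : (c : F) = 0 then 0 else k (Units.mk0 c h)) = _
    rw [dif_neg c.ne_zero, Units.mk0_val]
  have hcases : ∀ x : F, x = 0 ∨ ∃ c : Fˣ, x = c := fun x =>
    (eq_or_ne x 0).imp id fun h => ⟨Units.mk0 x h, rfl⟩
  obtain ⟨b₀, hb₀, hb₀α, hb₀σ⟩ : ∃ b₀, b₀ ≠ 0 ∧ b₀ ≠ α ∧ σ b₀ = b₀ := by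
    have : Nontrivial (roIc a (Subgroup.zpowers v)) :=
      Finite.one_lt_card_iff_nontrivial.1 (by rw [roql] at hl; omega)
    have key : ∀ s : roIc a (Subgroup.zpowers v), ∃ b, b ≠ 0 ∧ s = C.ι b ∧ σ b = b := by
      rintro ⟨s, hs, hs'⟩
      obtain ⟨b, hb, rfl⟩ := (C.mem_roI s).1 hs
      exact ⟨b, hb, rfl, hfix b (hs' η (Subgroup.npow_mem_zpowers v m))⟩
    obtain ⟨s, s', hss⟩ := exists_pair_ne (roIc a (Subgroup.zpowers v))
    obtain ⟨b, hb, hb1, hb2⟩ := key s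
    obtain ⟨b', hb', hb1', hb2'⟩ := key s'
    by_cases h : b = α
    · exact ⟨b', hb', fun h' => hss (Subtype.ext (by rw [hb1, hb1', h, h'])), hb2'⟩
    · exact ⟨b, hb, h, hb2⟩
  have hσ2 := sq_eq_of_equations C.two_eq_zero h2 k₀ (fun x y h => by
      rcases hcases x with rfl | ⟨c, rfl⟩ <;> rcases hcases y with rfl | ⟨c', rfl⟩
      · rfl
      · rw [map_zero, hk₀] at h; exact absurd h.symm (hk0 _)
      · rw [map_zero, hk₀] at h; exact absurd h (hk0 _)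
      · rw [hk₀, hk₀] at h; rw [hkinj h])
    (z := z) (fun x => by
      rcases hcases x with rfl | ⟨c, rfl⟩
      · rw [map_zero]; exact hz0.symm
      · rw [hk₀]; exact hkz c) σ (α := α) (b₀ := b₀)
    (fun h => hω2 (by rw [hα, h, C.ι_zero]))
    (hfix α (by rw [← hα]; exact (hηω.mul_right hηω).eq)) hb₀σ hb₀ hb₀α
    (fun b => π (𝐟 (ω * C.ι b))) (fun b hb => by
      obtain ⟨c, hc⟩ := (hcases (b + α)).resolve_left fun h =>
        hb (by linear_combination h - α * C.two_eq_zero)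
      have h1 := C.coord_eq hadd hzero hk hz hζ hη hηζ.eq hω hf hh hα c
      rwa [← hk₀, ← hc, add_comm b, ← add_assoc, C.add_self, zero_add, add_comm α, hfσ, hω1] at h1)
    (fun b hb => by
      obtain ⟨c, hc⟩ := (hcases (σ b)).resolve_left (by simpa using hb)
      have h1 := C.coord_eq hadd hzero hk hz' hζ' ((roV a t).inv_mem hη)
        hηζ.inv_inv.eq hω.inv hfi hhi hα' c
      have h3 : π ω⁻¹ = 1 := by
        rw [C.inv_eq_mul_ι hα, hadd _ hω.1 _ (C.ι_mem α), (hzero _ (C.ι_mem α)).2 (C.ι_sq α),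
          add_zero, hω1]
      rw [h3, ← hk₀, ← hc, C.inv_eq_mul_ι hα, mul_assoc ω, ← C.ι_add, ← add_assoc, C.add_self,
        zero_add] at h1
      rw [h1, ← hfσ]
      congr 3
      group)
  have hηW : η ∈ roW a t := C.mem_W_of_comm_ι hη.1 fun y =>
    (comm_of_sq_comm (RO.odd_orderOf_of_mem_D C.hS hη.1.1 hη.1.2) (by
      nth_rewrite 1 [← hσ2 y]
      rw [← hσ, ← hσ]
      group)).symm
  exact C.unit3_of hU hζ hζ1 hω hf (by rw [hh]; exact (roW a t).mul_mem hw hηW)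

end Ctx

/-- Job D2: the unitary configuration. -/
theorem jobD2 : JobD2.{u, v} := by
  intro G Ω _ _ _ _ a t Q F _ _ S hS h2 hL hC hp _ hc h3
  let C : Ctx a t Q F := ⟨S, hS, h2, h3⟩
  have hU := C.wFree_of_loc hL hc
  rw [C.roq_eq] at hc
  by_cases hD : ∀ d ∈ roD a t, d ≠ 1 → ∀ x ∈ Q, d * x = x * d → x * x = 1
  · exact C.unit3_of_free hU hp hc hC.1 (C.free_D hp hc hD)
  push Not at hD
  obtain ⟨d, hd, hd1, x, hx, hdx, hx2⟩ := hD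
  have hN : NI Q x := ⟨hx, hx2⟩
  obtain ⟨n, hn⟩ := exists_pow_prime_order hd1
  have hdx' : d ^ n * x = x * d ^ n := (show Commute d x from hdx).pow_left n
  have hX : ({d ^ n} : Set G) ⊆ (roD a t : Set G) := by rintro _ rfl; exact (roD a t).pow_mem hd n
  obtain ⟨k, hk, h1⟩ := RO.exists_conj_into_V hS hX
    (RO.three_fix_of_comm hS hX hx hN.ne_one (by rintro _ rfl; exact hdx'))
  have hv := h1 _ rfl
  have hvp : (Nat.card (Subgroup.zpowers (k * d ^ n * k⁻¹))).Prime := by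
    rwa [Nat.card_zpowers, ← (SemiconjBy.orderOf_eq k
      (show SemiconjBy k (d ^ n) (k * d ^ n * k⁻¹) by simp [SemiconjBy]))]
  have hl := hC.2 _ (Subgroup.zpowers_le.2 hv) hvp
  obtain ⟨-, h | h | h⟩ := hL _ (Subgroup.zpowers_le.2 hv) (fun h => by
    rw [h, Subgroup.card_bot] at hvp; exact Nat.not_prime_one hvp) hl
  · have hN' := hN.conj C ((roD a t).inv_mem hk.1)
    refine absurd (h _ ⟨hN'.1, ?_⟩) hN'.2
    rintro _ ⟨m, rfl⟩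
    refine Commute.zpow_left (show k * d ^ n * k⁻¹ * _ = _ from ?_) m
    calc k * d ^ n * k⁻¹ * (k⁻¹⁻¹ * x * k⁻¹) = k * (d ^ n * x) * k⁻¹ := by group
      _ = _ := by rw [hdx']; group
  · exact absurd h3 h.2.2
  · exact C.unit3_of_lunit3 hU hp hc hv hl h.2.2.2

end H55
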