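import Cfsg.Agent.H96.U2CenSpec
import Cfsg.Agent.H48.DP3Kit

/-! # S3275, chapter U2F, central case: slot P1 -/

set_option autoImplicit false
set_option linter.unusedSectionVars false

namespace H55.CenP1

open Subgroup Cfsg H98 H48.DP H96.U2I H96.Cen
open scoped commutatorElement

universe u

variable {G : Type u} [Group G] [Finite G] {M M0 Q Q0 F U : Subgroup G} {z g : G}

theorem zp_two {z d : G} (hz : z * z = 1) (h : d ∈ zpowers z) : d = 1 ∨ d = z := by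
  obtain ⟨k, rfl⟩ := mem_powers_iff_mem_zpowers.2 h
  obtain ⟨m, rfl | rfl⟩ := Nat.even_or_odd' k
  · left; simp [pow_mul, pow_two, hz]
  · right; simp [pow_succ _ (2 * m), pow_mul, pow_two, hz]

theorem relIndex_cj (g : G) (H K : Subgroup G) : (cj g H).relIndex (cj g K) = H.relIndex K :=
  relIndex_map_map_of_injective _ _ (MulAut.conj g).injective

theorem el_cj (V : Vx M M0 Q Q0 F U z) (g : G) : ∀ a ∈ cj g U, a * a = 1 := fun a ha => by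
  have := V.el _ (mem_cj.1 ha)
  calc a * a = g * (g⁻¹ * a * g * (g⁻¹ * a * g)) * g⁻¹ := by group
    _ = 1 := by rw [this]; group

theorem comm_mem (V : Vx M M0 Q Q0 F U z) (h1 : cj g U ≤ M0) (h2 : cj g⁻¹ U ≤ M0) {a b : G}
    (ha : a ∈ cj g U) (hb : b ∈ U) : ⁅a, b⁆ ∈ U ∧ ⁅a, b⁆ ∈ cj g U := by
  have hn : b ∈ No (cj g U) := by
    have := conj_mem_cj (g := g) (V.nU (h2 (conj_mem_cj (g := g⁻¹) hb)))
    rwa [cj_normalizer, show g * (g⁻¹ * b * g⁻¹⁻¹) * g⁻¹ = b by group] at this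
  refine ⟨mul_mem (conj_mem_of_mem_normalizer (V.nU (h1 ha)) hb) (inv_mem hb), ?_⟩
  have := mul_mem ha (conj_mem_of_mem_normalizer hn (inv_mem ha))
  simpa only [commutatorElement_def, mul_assoc] using this

theorem g9_of (V : Vx M M0 Q Q0 F U z) {c d : G} (h : G9 F c) (e : d * c ∈ zpowers z) : G9 F d := by
  obtain ⟨E, h1, h2, h3, h4⟩ := h
  refine ⟨E, h1, h2, h3, fun x hx => mem_C1.2 ?_⟩
  have c1 : Commute (d * c) x := by
    rcases zp_two (V.el z V.zU) e with e | e <;> rw [e]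
    · exact Commute.one_left x
    · exact (V.zM x (V.FM (h1 hx))).symm
  have c2 : Commute c x := mem_C1.1 (h4 hx)
  simpa using (c1.mul_left c2.inv_left).eq

theorem step (kb : KB.{u}) (tv : TVg.{u}) (tr : TRg.{u}) (V : Vx M M0 Q Q0 F U z) (hg : g ∉ M)
    (h1 : cj g U ≤ M0) (h2 : cj g⁻¹ U ≤ M0) (h3 : ¬ cj g U ≤ Q0)
    (hi : (U ⊓ cj g Q0).relIndex U ≤ (cj g U ⊓ Q0).relIndex (cj g U))
    (hc : ∀ a ∈ cj g U, ∀ b ∈ U ⊓ cj g Q0, Commute a b) :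
    z ∉ cj g U ∧ ∃ a ∈ cj g U, ∃ c, Tv U z a c := by
  obtain ⟨a, ha, -, c, hT⟩ := (tr G M M0 Q Q0 F U _ _ z V h1 (el_cj V g) inf_le_left hc hi).2 _ le_rfl
    fun e => h3 (e.trans inf_le_right)
  refine ⟨fun hz => ?_, a, ha, c, hT⟩
  obtain ⟨b, hb, e⟩ := hT.2.1
  have := comm_mem V h1 h2 ha hb
  rw [e] at this
  exact kb G M M0 Q Q0 F U z g c V hg this.1 this.2 hz hT.1
    (tv G M M0 Q Q0 F U z a c V (h1 ha) (el_cj V g a ha) hT)

theorem jobP1 : JobP1.{u} := by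
  intro kb tv tr G _ _ M M0 Q Q0 F U z g V hg h1 h2 h3 h4 hi hc
  have : Fact (Nat.Prime 3) := ⟨Nat.prime_three⟩
  have zz := V.el z V.zU
  obtain ⟨hz, -⟩ := step kb tv tr V hg h1 h2 h3 hi hc
  obtain ⟨i1, hK⟩ := tr G M M0 Q Q0 F U _ _ z V h1 (el_cj V g) inf_le_left hc hi
  have hcen : ∀ q ∈ cj g U ⊓ Q0, ∀ b ∈ U, Commute q b := fun q hq b hb =>
    commutatorElement_eq_one_iff_commute.1 ((V.cQ q hq.2 b hb).resolve_right fun e =>
      hz (e ▸ (comm_mem V h1 h2 hq.1 hb).2))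
  have h1' : cj g⁻¹⁻¹ U ≤ M0 := by rwa [inv_inv]
  obtain ⟨hz', a', ha', c', hT'⟩ := step kb tv tr V (g := g⁻¹) (fun e => hg (by simpa using inv_mem e))
    h2 h1' h4 (by
      rw [← relIndex_cj g (U ⊓ cj g⁻¹ Q0), ← relIndex_cj g (cj g⁻¹ U ⊓ Q0), cj_inf, cj_inf, cj_cj_inv,
        cj_cj_inv]
      exact i1) fun a ha b hb => by
      have e1 : g * a * g⁻¹ ∈ U := by simpa using mem_cj.1 ha
      have e2 : g * b * g⁻¹ ∈ Q0 := by simpa using mem_cj.1 hb.2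
      have := (hcen _ ⟨conj_mem_cj hb.1, e2⟩ _ e1).eq
      calc a * b = g⁻¹ * (g * a * g⁻¹ * (g * b * g⁻¹)) * g := by group
        _ = b * a := by rw [← this]; group
  have hb : g * a' * g⁻¹ ∈ U := by simpa using mem_cj.1 ha'
  obtain ⟨a, ha, haK, c, hT⟩ := hK (C1 (g * a' * g⁻¹)) (fun q hq => mem_C1.2 (hcen q hq _ hb).symm.eq)
    fun e => by
      obtain ⟨b0, hb0, e0⟩ := hT'.2.1
      have := mem_C1.1 (e (conj_mem_cj (g := g) hb0))
      refine hT'.1 (e0 ▸ ?_)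
      rw [commutatorElement_eq_one_iff_mul_comm.2 (show a' * b0 = b0 * a' by
        calc a' * b0 = g⁻¹ * (g * a' * g⁻¹ * (g * b0 * g⁻¹)) * g := by group
          _ = _ := by rw [this]; group)]
      exact one_mem _
  have hd := comm_mem V h1 h2 ha hb
  have hd1 : ⁅a, g * a' * g⁻¹⁆ ≠ 1 := fun e =>
    haK (mem_C1.2 (commutatorElement_eq_one_iff_mul_comm.1 e).symm)
  have hdz : ⁅a, g * a' * g⁻¹⁆ ∉ zpowers z := fun e =>
    (zp_two zz e).elim hd1 fun e => hz (e ▸ hd.2)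
  have hM : C1 ⁅a, g * a' * g⁻¹⁆ ≤ M := V.good _ hd1 (V.el _ hd.1) (g9_of V
    (tv G M M0 Q Q0 F U z a c V (h1 ha) (el_cj V g a ha) hT) ((hT.2.2 _ hb).resolve_left hdz))
  have hu : g⁻¹ * a * g ∈ U := mem_cj.1 ha
  have ed : g * ⁅a', g⁻¹ * a * g⁆ * g⁻¹ = ⁅a, g * a' * g⁻¹⁆⁻¹ := by
    simp only [commutatorElement_def]; group
  have hdz' : ⁅a', g⁻¹ * a * g⁆ ∉ zpowers z := fun e => (zp_two zz e).elim
    (fun e => hd1 (inv_eq_one.1 (by rw [← ed, e]; group)))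
    fun e => hz' (e ▸ (comm_mem V h2 h1' ha' hu).2)
  obtain ⟨E, e1, e2, e3, e4⟩ := g9_of V
    (tv G M M0 Q Q0 F U z a' c' V (h2 ha') (el_cj V g⁻¹ a' ha') hT') ((hT'.2.2 _ hu).resolve_left hdz')
  have : Nontrivial E := Finite.one_lt_card_iff_nontrivial.1 (by omega)
  obtain ⟨x, hx⟩ := exists_ne (1 : E)
  refine hg (V.ti x g (orderOf_eq_prime (e2.2 x x.2) fun e => hx (Subtype.ext e))
    (V.MM (V.FM (e1 x.2))) (hM (mem_C1.2 ?_)))
  have c1 : Commute (g * ⁅a', g⁻¹ * a * g⁆ * g⁻¹) (g * x * g⁻¹) := by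
    have := mem_C1.1 (e4 x.2)
    calc g * ⁅a', g⁻¹ * a * g⁆ * g⁻¹ * (g * x * g⁻¹) = g * (⁅a', g⁻¹ * a * g⁆ * x) * g⁻¹ := by group
      _ = _ := by rw [this]; group
  rw [ed] at c1
  simpa using c1.inv_left.eq

end H55.CenP1
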