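import Cfsg.Agent.H14.FESpec
import Cfsg.Agent.S0215
import Cfsg.Agent.H14.Quasi
import Cfsg.Agent.H42.OddOrder

/-! Tower FE, slot K2b. -/

set_option autoImplicit false
set_option linter.unusedSectionVars false

namespace H55.FEK2b

open Cfsg Subgroup MulAction H14 H98 H1.Gold H31.S2 H14.GC H14.FE
open scoped commutatorElement

universe u

variable {G : Type u} [Group G] [Finite G]

theorem ni_of_odd {Y : Subgroup G} (h : Odd (Nat.card Y)) : NI Y := fun d hd hi => by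
  have h2 : orderOf (⟨d, hd⟩ : Y) = 2 := by rw [← inv_iff.1 hi]; exact (Subgroup.orderOf_coe _).symm
  have := orderOf_dvd_natCard (⟨d, hd⟩ : Y)
  rw [h2] at this
  exact (Nat.not_even_iff_odd.2 h) (even_iff_two_dvd.2 this)

theorem one_of_ni {Y P : Subgroup G} (h : NI Y) (hP : IsPGroup 2 P) {x : G} (hx : x ∈ Y) (hp : x ∈ P) :
    x = 1 := by
  obtain ⟨n, hn⟩ := isPGroup_iff_forall.1 hP x hp
  by_cases h2 : x * x = 1
  · by_contra h1
    exact h x hx ⟨h1, h2⟩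
  · obtain ⟨m, hm⟩ := exists_pow_sq_of_two hn h2
    exact absurd hm (h _ (mul_mem (pow_mem hx m) (pow_mem hx m)))

theorem te_cj {Q : Subgroup G} (h : IsTightlyEmbedded Q) (a b : G) (hne : cj a Q ≠ cj b Q) :
    NI (cj a Q ⊓ cj b Q) := fun d hd hi => by
  have ho : a⁻¹ * b ∉ normalizer (Q : Set G) := fun e => hne (by
    have := congrArg (cj a) (cj_eq_self e)
    rw [cj_cj, mul_inv_cancel_left] at this
    exact this.symm)
  refine ni_of_odd (h.2 _ ho) (a⁻¹ * d * a⁻¹⁻¹) ⟨?_, ?_⟩ (hi.conj a⁻¹)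
  · rw [inv_inv]; exact mem_cj.1 hd.1
  · change a⁻¹ * d * a⁻¹⁻¹ ∈ cj (a⁻¹ * b) Q
    rw [← cj_cj]; exact conj_mem_cj hd.2

theorem nor_of_cen {Q : Subgroup G} (h : IsTightlyEmbedded Q) {a d x : G} (hd : d ∈ cj a Q) (hi : Inv d)
    (hx : x * d = d * x) : x ∈ nor (cj a Q) := by
  by_contra hn
  refine te_cj h (x * a) a (fun e => hn (cj_eq_self_iff.1 (by rw [cj_cj, e]))) d ⟨?_, hd⟩ hi
  change d ∈ cj (x * a) Q
  rw [← cj_cj]
  have := conj_mem_cj (g := x) hd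
  rwa [hx, mul_inv_cancel_right] at this

theorem zstar {P Y : Subgroup G} {w : G} (hP : IsSyl 2 P Y) (hw : w ∈ P) (hi : Inv w)
    (h : ∀ g ∈ Y, g * w * g⁻¹ ∈ P → g * w * g⁻¹ = w) :
    ∃ N : Subgroup G, Y ≤ nor N ∧ Odd (Nat.card N) ∧ ∀ g ∈ Y, w * g * w⁻¹ * g⁻¹ ∈ N := by
  obtain ⟨Q, hQ⟩ := hP.exists_sylow
  obtain ⟨N, hN, o, e⟩ := Cfsg.Agent.S0215.result Q ⟨w, hP.le hw⟩
    (orderOf_eq_prime (Subtype.ext (by simpa [sq] using hi.2)) fun e => hi.1 (congrArg Subtype.val e))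
    (by rw [← SetLike.mem_coe, ← Sylow.coe_coe, hQ]; exact hw) fun g e => Subtype.ext (h g g.2 (by
      rw [← SetLike.mem_coe, ← Sylow.coe_coe, hQ] at e; exact e))
  exact ⟨N.map Y.subtype, le_normalizer_map_subtype N,
    by rwa [card_map_of_injective Y.subtype_injective], fun g hg => ⟨_, e ⟨g, hg⟩, rfl⟩⟩

theorem exists_cen_inv {T : Subgroup G} (hT : IsPGroup 2 T) (hne : T ≠ ⊥) :
    ∃ z ∈ T, Inv z ∧ ∀ t ∈ T, t * z = z * t := by
  haveI : Fact (Nat.Prime 2) := ⟨Nat.prime_two⟩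
  haveI : Nontrivial T := (nontrivial_iff_ne_bot T).2 hne
  haveI := hT.center_nontrivial
  obtain ⟨x, hx⟩ := exists_ne (1 : center T)
  by_contra hn
  have hni : NI (T ⊓ cen T) := fun d hd hi => hn ⟨d, hd.1, hi, fun t ht => hd.2 t ht⟩
  refine hx (Subtype.ext (Subtype.ext (one_of_ni hni hT (x := x.1.1) ⟨x.1.2, fun t ht => ?_⟩ x.1.2)))
  exact congrArg Subtype.val (mem_center_iff.1 x.2 ⟨t, ht⟩)

theorem cen_of_isolated {K N : Subgroup G} {z : G} (hK : IsQuasisimple K) (hz : Inv z) (hn : z ∈ nor K)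
    (hN : K ≤ nor N) (ho : Odd (Nat.card N)) (h : ∀ g ∈ K, z * g * z⁻¹ * g⁻¹ ∈ N) : z ∈ cen K := by
  rcases quasi_sub_normalized hK hN with h1 | h1
  · exact absurd (H42.odd_order (Odd.of_dvd_nat ho (card_dvd_of_le h1))) (quasi_not_solvable hK)
  have h2 : ⁅zpowers z, K⁆ ≤ N ⊓ K := by
    refine commutator_le.2 fun x hx k hk => ?_
    have : x = 1 ∨ x = z := by
      classical
      rw [mem_zpowers_iff_mem_range_orderOf, inv_iff.1 hz] at hx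
      simp only [Finset.mem_image, Finset.mem_range] at hx
      obtain ⟨n, hn, rfl⟩ := hx
      interval_cases n
      · exact .inl (pow_zero _)
      · exact .inr (pow_one _)
    rcases this with rfl | rfl
    · simp
    · exact mem_inf.2 ⟨h k hk, mul_mem (conj_mem_of_mem_normalizer hn hk) (inv_mem hk)⟩
  have h3 := commutator_eq_bot_of_perfect (quasi_sub_perfect hK) (commutator_eq_bot_mono h1 h2 le_rfl)
  exact commutator_eq_bot_iff_le_centralizer.1 h3 (mem_zpowers z)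

theorem jobK2b : H14.FE.JobK2b.{u} := by
  intro G _ _ K hK g R T hE hNI S hS hST
  haveI : Fact (Nat.Prime 2) := ⟨Nat.prime_two⟩
  by_cases hb : T = ⊥
  · intro a ha b hb'
    rw [hb, mem_bot] at ha
    rw [ha, one_mul, mul_one]
  obtain ⟨z, hzT, hz, hzc⟩ := exists_cen_inv hE.sylT.isPGroup hb
  have te := hE.te
  have hTK : T ≤ nor K := hE.le.trans hK.2.2.2.ge
  have hst : ∀ s ∈ S, ∀ t ∈ T, t * s = s * t := fun s hs t ht => hST hs t ht
  have hTS : T ≤ nor S := le_normalizer_of_le_centralizer fun t ht s hs => (hst s hs t ht).symm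
  have hP2 : IsPGroup 2 ↥(S ⊔ T) := hS.isPGroup.to_sup_of_normal_left' hE.sylT.isPGroup hTS
  have hKS : ∀ U : Subgroup G, IsPGroup 2 U → S ≤ U → ∀ x ∈ U, x ∈ K → x ∈ S := fun U hU h1 x hx hk => by
    have := hS.eq_of_le (Q := U ⊓ K) (hU.to_le inf_le_left) (le_inf h1 hS.le) inf_le_right
    rw [← this]; exact ⟨hx, hk⟩
  have hP : IsSyl 2 (S ⊔ T) (K ⊔ T) := ⟨sup_le_sup_right hS.le _, hP2, fun U hU h1 h2 =>
    le_antisymm (fun x hx => by
      obtain ⟨k, hk, t, ht, rfl⟩ := (mem_sup_right_norm hTK).1 (h2 hx)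
      have : k ∈ U := by
        simpa using mul_mem hx (inv_mem (h1 (mem_sup_right ht)))
      exact mul_mem (mem_sup_left (hKS U hU (le_sup_left.trans h1) k this hk)) (mem_sup_right ht)) h1⟩
  have hYK : K ⊔ T ≤ nor K := sup_le le_normalizer hTK
  by_cases hiso : ∀ y ∈ K ⊔ T, y * z * y⁻¹ ∈ S ⊔ T → y * z * y⁻¹ = z
  · obtain ⟨N, h1, h2, h3⟩ := zstar hP (mem_sup_right hzT) hz hiso
    have := cen_of_isolated hK.1 hz (hTK hzT) (le_sup_left.trans h1) h2 fun k hk => h3 k (mem_sup_left hk)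
    exact absurd hz (ni_of_odd (te.2 g hE.out) z ⟨this, hE.sylT.le hzT⟩)
  push Not at hiso
  obtain ⟨y, hy, hyP, hyz⟩ := hiso
  obtain ⟨k, hk, τ0, hτ0, rfl⟩ := (mem_sup_right_norm hTK).1 hy
  have e0 : k * τ0 * z * (k * τ0)⁻¹ = k * z * k⁻¹ := by rw [mul_assoc k, hzc τ0 hτ0]; group
  rw [e0] at hyP hyz
  have hsK : k * z * k⁻¹ * z⁻¹ ∈ K := by
    have := mul_mem hk (conj_mem_of_mem_normalizer (hTK hzT) (inv_mem hk))
    simpa only [mul_assoc] using this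
  have hsS : k * z * k⁻¹ * z⁻¹ ∈ S :=
    hKS _ hP2 le_sup_left _ (mul_mem hyP (inv_mem (mem_sup_right hzT))) hsK
  obtain ⟨s, hs⟩ : ∃ s, s = k * z * k⁻¹ * z⁻¹ := ⟨_, rfl⟩
  rw [← hs] at hsK hsS
  have ez : k * z * k⁻¹ = s * z := by rw [hs]; group
  have hz' : Inv (k * z * k⁻¹) := hz.conj k
  have hsI : Inv s := by
    refine ⟨fun e => hyz (by rw [ez, e, one_mul]), ?_⟩
    have := hz'.2
    rw [ez, mul_assoc, ← mul_assoc z, hst s hsS z hzT, mul_assoc, hz.2, mul_one] at this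
    exact this
  have hPz : S ⊔ T ≤ cen1 z := sup_le (fun x hx => mem_cen1.2 (hst x hx z hzT).symm)
    fun x hx => mem_cen1.2 (hzc x hx)
  have hkP : cj k (S ⊔ T) ≤ cen1 (k * z * k⁻¹) := fun x hx => mem_cen1.2 (by
    have := mem_cen1.1 (hPz (mem_cj.1 hx))
    calc x * (k * z * k⁻¹) = k * (k⁻¹ * x * k * z) * k⁻¹ := by group
      _ = _ := by rw [this]; group)
  have hPk := hP.cj_of_mem (mem_sup_left hk : k ∈ K ⊔ T)
  have hC : IsSyl 2 (cj k (S ⊔ T)) (cen1 (k * z * k⁻¹) ⊓ (K ⊔ T)) :=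
    hPk.of_le (le_inf hkP hPk.le) inf_le_right
  have hTC : T ≤ cen1 (k * z * k⁻¹) ⊓ (K ⊔ T) := le_inf (fun t ht => mem_cen1.2 (by
    rw [ez, ← mul_assoc, hst s hsS t ht, mul_assoc, hzc t ht, mul_assoc])) le_sup_right
  obtain ⟨c, hc, hcT⟩ := hC.exists_cj_le hE.sylT.isPGroup hTC
  have hzQ : z ∈ cj g (cen K) := hE.sylT.le hzT
  have hz'Q : k * z * k⁻¹ ∈ cj (k * g) (cen K) := by rw [← cj_cj]; exact conj_mem_cj hzQ
  have hCn : cen1 (k * z * k⁻¹) ≤ nor (cj (k * g) (cen K)) := fun x hx =>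
    nor_of_cen te hz'Q hz' (mem_cen1.1 hx)
  have hne : cj (c * g) (cen K) ≠ cj (k * g) (cen K) := fun e => by
    rw [← cj_eq_self (hCn hc.1), ← cj_cj, cj_inj] at e
    rw [← e] at hz'Q
    refine hNI s (mem_inf.2 ⟨hsK, ?_⟩) hsI
    rw [hs]; exact mul_mem hz'Q (inv_mem hzQ)
  have hcz : c * (k * z * k⁻¹) * c⁻¹ = k * z * k⁻¹ := by rw [mem_cen1.1 hc.1, mul_inv_cancel_right]
  have ec : c * z * c⁻¹ = (c * s * c⁻¹)⁻¹ * (k * z * k⁻¹) := by rw [← hcz, ez]; group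
  have hcs : k⁻¹ * (c * s * c⁻¹) * k ∈ S := by
    refine hKS _ hP2 le_sup_left _ (mem_cj.1 ?_) (mul_mem (mul_mem (inv_mem hk)
      (conj_mem_of_mem_normalizer (hYK hc.2) hsK)) hk)
    have e : c * s * c⁻¹ = k * z * k⁻¹ * (c * z * c⁻¹)⁻¹ := by rw [ec]; group
    rw [e]
    exact mul_mem (conj_mem_cj (mem_sup_right hzT)) (inv_mem (hcT (conj_mem_cj hzT)))
  have hzcQ : c * z * c⁻¹ ∈ cj (c * g) (cen K) := by rw [← cj_cj]; exact conj_mem_cj hzQ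
  have key : ∀ a ∈ T, ∀ b ∈ T, k * a * k⁻¹ * (c * b * c⁻¹) = c * b * c⁻¹ * (k * a * k⁻¹) := by
    intro a ha b hb
    have hu : k * a * k⁻¹ ∈ cj k (S ⊔ T) := conj_mem_cj (mem_sup_right ha)
    have hv : c * b * c⁻¹ ∈ cj k (S ⊔ T) := hcT (conj_mem_cj hb)
    have huQ : k * a * k⁻¹ ∈ cj (k * g) (cen K) := by rw [← cj_cj]; exact conj_mem_cj (hE.sylT.le ha)
    have hvQ : c * b * c⁻¹ ∈ cj (c * g) (cen K) := by rw [← cj_cj]; exact conj_mem_cj (hE.sylT.le hb)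
    have c1 : Commute (k * a * k⁻¹) (c * s * c⁻¹) := by
      have := hst _ hcs a ha
      calc k * a * k⁻¹ * (c * s * c⁻¹) = k * (a * (k⁻¹ * (c * s * c⁻¹) * k)) * k⁻¹ := by group
        _ = _ := by rw [this]; group
    have c2 : Commute (k * a * k⁻¹) (k * z * k⁻¹) := mem_cen1.1 (hkP hu)
    have hun : k * a * k⁻¹ ∈ nor (cj (c * g) (cen K)) :=
      nor_of_cen te hzcQ (hz.conj c) (by rw [ec]; exact (c1.inv_right.mul_right c2).eq)
    have hvn := hCn (hkP hv)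
    obtain ⟨p, hp⟩ : ∃ p, p = k * a * k⁻¹ := ⟨_, rfl⟩
    obtain ⟨v, hv'⟩ : ∃ v, v = c * b * c⁻¹ := ⟨_, rfl⟩
    rw [← hp] at hu huQ hun ⊢
    rw [← hv'] at hv hvQ hvn ⊢
    have := one_of_ni (te_cj te _ _ hne) hPk.isPGroup (x := p * v * p⁻¹ * v⁻¹)
      (mem_inf.2 ⟨mul_mem (conj_mem_of_mem_normalizer hun hvQ) (inv_mem hvQ), by
        have := mul_mem huQ (conj_mem_of_mem_normalizer hvn (inv_mem huQ))
        simpa only [mul_assoc] using this⟩)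
      (mul_mem (mul_mem (mul_mem hu hv) (inv_mem hu)) (inv_mem hv))
    exact commutatorElement_eq_one_iff_mul_comm.1 this
  obtain ⟨κ, hκ, τ, hτ, rfl⟩ := (mem_sup_right_norm hTK).1 hc.2
  intro a ha b hb
  have h1 := key a ha (τ⁻¹ * b * τ) (mul_mem (mul_mem (inv_mem hτ) hb) hτ)
  have e1 : κ * τ * (τ⁻¹ * b * τ) * (κ * τ)⁻¹ = κ * b * κ⁻¹ := by group
  rw [e1] at h1
  have hα : k * (a * k⁻¹ * a⁻¹) ∈ K := mul_mem hk (conj_mem_of_mem_normalizer (hTK ha) (inv_mem hk))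
  have hβ : κ * (b * κ⁻¹ * b⁻¹) ∈ K := mul_mem hκ (conj_mem_of_mem_normalizer (hTK hb) (inv_mem hκ))
  have hin : a * b * a⁻¹ * b⁻¹ ∈ K := by
    have := mul_mem (inv_mem (mul_mem hα (conj_mem_of_mem_normalizer (hTK ha) hβ)))
      (mul_mem hβ (conj_mem_of_mem_normalizer (hTK hb) hα))
    convert this using 1
    calc a * b * a⁻¹ * b⁻¹ = (k * (a * k⁻¹ * a⁻¹) * (a * (κ * (b * κ⁻¹ * b⁻¹)) * a⁻¹))⁻¹ *
          (k * a * k⁻¹ * (κ * b * κ⁻¹)) * a⁻¹ * b⁻¹ := by group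
      _ = _ := by rw [h1]; group
  have hT : a * b * a⁻¹ * b⁻¹ ∈ T := mul_mem (mul_mem (mul_mem ha hb) (inv_mem ha)) (inv_mem hb)
  exact commutatorElement_eq_one_iff_mul_comm.1
    (one_of_ni hNI hE.sylT.isPGroup ⟨hin, hE.sylT.le hT⟩ hT)

end H55.FEK2b
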