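/- FS tower: the field, the two modules and the torus of a finite Moufang hexagon. -/
import Cfsg.Agent.H7.FSSpec

set_option autoImplicit false
set_option linter.unusedSectionVars false

namespace H55.FS

open H12.BN H59.BN H21.BN H7.FS Subgroup
open scoped commutatorElement

variable {G : Type} [Group G] [Finite G] {x : MP 6 G}

theorem m6 (x : MP 6 G) : MK x := H21.BN.mk (by decide)

theorem U_eq (x : MP 6 G) {i j : ℤ} (h : (i - j) % 12 = 0) : x.U i = x.U j := by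
  have p : Function.Periodic x.U 12 := fun k => x.per k
  rw [← p.int_mul ((i - j) / 12) j]
  congr 1
  simp only [Int.cast_id]
  omega

theorem mv {i : ℤ} (j : ℤ) {g : G} (hg : g ∈ x.U i) (h : (i - j) % 12 = 0 := by omega) :
    g ∈ x.U j := U_eq x h ▸ hg

theorem inII {k : ℤ} (i j : ℤ) {g : G} (hg : g ∈ x.U k) (h : i ≤ k ∧ k ≤ j := by omega) :
    g ∈ II x.U i j := le_II _ h.1 h.2 hg

theorem moII {k l : ℤ} (i j : ℤ) {g : G} (hg : g ∈ II x.U k l) (h : i ≤ k ∧ l ≤ j := by omega) :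
    g ∈ II x.U i j := II_mono _ h.1 h.2 hg

theorem dL {i k l : ℤ} {g : G} (hg : g ∈ x.U i) (h : g ∈ II x.U k l)
    (e : i < k ∧ l ≤ i + 6 := by omega) : g = 1 := x.disj i g hg (moII _ _ h)

theorem dR {i k l : ℤ} {g : G} (hg : g ∈ x.U i) (h : g ∈ II x.U k l)
    (e : i - 6 ≤ k ∧ l < i := by omega) : g = 1 := x.disj' i g hg (moII _ _ h)

theorem cm (h : Long6 x) {i j : ℤ} {a b : G} (ha : a ∈ x.U i) (hb : b ∈ x.U j)
    (e : i % 2 = 0 ∧ (j - i + 3) % 12 ≤ 6 := by omega) : Commute a b :=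
  h i (i - 3 + (j - i + 3) % 12) e.1 (by omega) (by omega) a ha b (mv _ hb)

theorem muL {i k : ℤ} (l : ℤ) {a g : G} (ha : a ∈ x.U i) (h1 : a ≠ 1) (hg : g ∈ x.U k)
    (e : (2 * i + 6 - k - l) % 12 = 0 := by omega) : x.mu i a * g * (x.mu i a)⁻¹ ∈ x.U l :=
  mv l (x.mu_conj ha h1 hg)

theorem muR {i k : ℤ} (l : ℤ) {a g : G} (ha : a ∈ x.U i) (h1 : a ≠ 1) (hg : g ∈ x.U k)
    (e : (2 * i + 6 - k - l) % 12 = 0 := by omega) : (x.mu i a)⁻¹ * g * x.mu i a ∈ x.U l :=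
  mv l ((m6 x).mu_conj' i a ha h1 k g hg)

theorem mu_inv {i : ℤ} {a : G} (ha : a ∈ x.U i) (h1 : a ≠ 1) : x.mu i a⁻¹ = (x.mu i a)⁻¹ :=
  ((m6 x).inv i a ha h1).2.2

/-- an element which commutes with `U i` and `U (i + 6)` commutes with `μ(a)` -/
theorem cm_mu {i : ℤ} {a g : G} (ha : a ∈ x.U i) (h1 : a ≠ 1) (c : Commute a g)
    (c' : ∀ v ∈ x.U (i + 6), Commute v g) : Commute (x.mu i a) g :=
  ((c' _ (x.ka_mem ha h1)).mul_left c).mul_left (c' _ (x.la_mem ha h1))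

/-- `h` normalises all root groups -/
def Tor (x : MP 6 G) (h : G) : Prop := ∀ l, ∀ g ∈ x.U l, h * g * h⁻¹ ∈ x.U l ∧ h⁻¹ * g * h ∈ x.U l

theorem tor_mu {i : ℤ} {a b : G} (ha : a ∈ x.U i) (a1 : a ≠ 1) (hb : b ∈ x.U i) (b1 : b ≠ 1) :
    Tor x ((x.mu i a)⁻¹ * x.mu i b) := fun l g hg =>
  ⟨by simpa [mul_assoc] using muR l ha a1 (x.mu_conj hb b1 hg),
    by simpa [mul_assoc] using muR l hb b1 (x.mu_conj ha a1 hg)⟩

theorem mu_cj {i j : ℤ} {h a : G} (h1 : ∀ g ∈ x.U i, h⁻¹ * g * h ∈ x.U j)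
    (h2 : ∀ g ∈ x.U j, h * g * h⁻¹ ∈ x.U i) (h3 : ∀ g ∈ x.U (i + 6), h⁻¹ * g * h ∈ x.U (j + 6))
    (h4 : ∀ g ∈ x.U (j + 6), h * g * h⁻¹ ∈ x.U (i + 6)) (ha : a ∈ x.U i) (a1 : a ≠ 1) :
    x.mu j (h⁻¹ * a * h) = h⁻¹ * x.mu i a * h := by
  simpa using ((m6 x).conj i j h⁻¹
    (fun y => ⟨by simpa using h1 y, fun e => by simpa [mul_assoc] using h2 _ e⟩)
    (fun y => ⟨by simpa using h3 y, fun e => by simpa [mul_assoc] using h4 _ e⟩) a ha a1).2.2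

theorem Tor.mu {i : ℤ} {h a : G} (t : Tor x h) (ha : a ∈ x.U i) (a1 : a ≠ 1) :
    x.mu i (h⁻¹ * a * h) = h⁻¹ * x.mu i a * h :=
  mu_cj (fun g e => (t _ g e).2) (fun g e => (t _ g e).1) (fun g e => (t _ g e).2)
    (fun g e => (t _ g e).1) ha a1

section long
variable (h : Long6 x)
include h

section pi
variable {i : ℤ} (hi : i % 2 = 0) {u b : G} (hu : u ∈ x.U i) (hb : b ∈ x.U (i + 4))
include hi hu hb

theorem pi_a (b1 : b ≠ 1) : ∃ e ∈ II x.U (i - 1) (i + 1),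
    b * u * b⁻¹ = e * (x.mu (i + 4) b * u * (x.mu (i + 4) b)⁻¹) := by
  have hw := muL (i + 2) hb b1 hu
  have hk := mv (i - 2) (x.ka_mem hb b1)
  have hl := (cm h (x.la_mem hb b1) hu).eq
  refine ⟨_, moII _ _ (x.comm _ _ (by omega) (by omega) _ (inv_mem hk) _ hw), ?_⟩
  rw [commutatorElement_def, inv_mul_cancel_right, MP.mu, mul_assoc _ _ u, hl]
  group

theorem pi_b (u1 : u ≠ 1) : ∃ e ∈ II x.U (i + 3) (i + 5),
    u⁻¹ * b * u = ((x.mu i u)⁻¹ * b * x.mu i u) * e := by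
  have hw := muR (i + 2) hu u1 hb
  have hk := (cm h (x.ka_mem hu u1) hb).eq
  refine ⟨_, moII _ _ (x.comm _ _ (by omega) (by omega) _ (inv_mem hw) _ (x.la_mem hu u1)), ?_⟩
  have : (x.ka i u)⁻¹ * b * x.ka i u = b := by rw [mul_assoc, ← hk, inv_mul_cancel_left]
  rw [commutatorElement_def, MP.mu]
  conv_lhs => rw [← this]
  group

theorem pi_mem : u⁻¹ * b * u * b⁻¹ ∈ x.U (i + 2) := by
  by_cases u1 : u = 1
  · simp [u1]
  by_cases b1 : b = 1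
  · simp [b1]
  obtain ⟨e, he, e1⟩ := pi_a h hi hu hb b1
  obtain ⟨f, hf, f1⟩ := pi_b h hi hu hb u1
  have hd := x.comm _ _ (by omega) (by omega) _ (inv_mem hu) _ hb
  rw [commutatorElement_def, inv_inv] at hd
  obtain ⟨d1, h1, d, hd', e2⟩ := (m6 x).splitL _ _ (by omega) _ hd
  obtain ⟨d2, h2, d3, h3, rfl⟩ := (m6 x).splitR _ _ (by omega) _ hd'
  have h2' : d2 ∈ x.U (i + 2) := (II_self x.U _).le (moII _ _ h2)
  have z1 : d1 = 1 := dL h1 (k := i + 2) (l := i + 5) (by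
    rw [show d1 = u⁻¹ * b * u * b⁻¹ * (d2 * d3)⁻¹ by rw [e2]; group, f1]
    exact mul_mem (mul_mem (mul_mem (inII _ _ (muR (i + 2) hu u1 hb)) (moII _ _ hf))
      (inv_mem (inII _ _ hb))) (inv_mem (moII _ _ hd')))
  have z3 : d3 = 1 := dR h3 (k := i - 1) (l := i + 2) (by
    rw [show d3 = d2⁻¹ * (d1⁻¹ * (u⁻¹ * (b * u * b⁻¹))) by
      rw [← mul_assoc u⁻¹, ← mul_assoc u⁻¹, e2]; group, e1]
    exact mul_mem (inv_mem (inII _ _ h2')) (mul_mem (inv_mem (inII _ _ h1)) (mul_mem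
      (inv_mem (inII _ _ hu)) (mul_mem (moII _ _ he) (inII _ _ (muL (i + 2) hb b1 hu))))))
  rwa [e2, z1, z3, one_mul, mul_one]

theorem pi_L (b1 : b ≠ 1) :
    u⁻¹ * b * u * b⁻¹ = x.mu (i + 4) b * u * (x.mu (i + 4) b)⁻¹ := by
  obtain ⟨e, he, e1⟩ := pi_a h hi hu hb b1
  refine mul_inv_eq_one.1 (dR (mul_mem (pi_mem h hi hu hb) (inv_mem (muL (i + 2) hb b1 hu)))
    (k := i - 1) (l := i + 1) ?_)
  rw [show u⁻¹ * b * u * b⁻¹ = u⁻¹ * (b * u * b⁻¹) by group, e1, ← mul_assoc, mul_inv_cancel_right]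
  exact mul_mem (inv_mem (inII _ _ hu)) he

theorem pi_R (u1 : u ≠ 1) : u⁻¹ * b * u * b⁻¹ = (x.mu i u)⁻¹ * b * x.mu i u := by
  obtain ⟨e, he, e1⟩ := pi_b h hi hu hb u1
  refine (inv_mul_eq_one.1 (dL (mul_mem (inv_mem (muR (i + 2) hu u1 hb)) (pi_mem h hi hu hb))
    (k := i + 3) (l := i + 5) ?_)).symm
  rw [e1, mul_assoc _ e, inv_mul_cancel_left]
  exact mul_mem he (inv_mem (inII _ _ hb))

theorem ka_pi (b1 : b ≠ 1) : x.ka (i + 4) b * (u⁻¹ * b * u * b⁻¹) * (x.ka (i + 4) b)⁻¹ =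
    u⁻¹ * (u⁻¹ * b * u * b⁻¹) := by
  have hk := (cm h (x.ka_mem hb b1) (inv_mem hu)).eq
  have hl := (cm h (x.la_mem hb b1) hu).eq
  conv_rhs => rw [pi_L h hi hu hb b1, MP.mu, mul_assoc _ _ u, hl]
  calc _ = (x.ka (i + 4) b * u⁻¹) * (b * u * b⁻¹ * (x.ka (i + 4) b)⁻¹) := by group
    _ = _ := by rw [hk]; group

end pi

/-- `κ = λ` for long root elements -/
theorem ka_eq_la {i : ℤ} (hi : i % 2 = 0) {b : G} (hb : b ∈ x.U (i + 4)) (b1 : b ≠ 1) :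
    x.ka (i + 4) b = x.la (i + 4) b := by
  obtain ⟨u, hu, u1⟩ := x.nontriv i
  have e1 := ka_pi h hi hu hb b1
  have e2 := ka_pi h hi hu (inv_mem hb) (inv_ne_one.2 b1)
  have hp := pi_mem h hi hu hb
  have p1 : u⁻¹ * b * u * b⁻¹ ≠ 1 := by rw [pi_L h hi hu hb b1]; simpa using u1
  have hl := x.la_mem hb b1
  have hk := x.ka_mem hb b1
  rw [((m6 x).inv _ b hb b1).1, show u⁻¹ * b⁻¹ * u * b⁻¹⁻¹ = b⁻¹ * ((u⁻¹ * b * u * b⁻¹)⁻¹ * b) by
    group, ← (cm h hb (inv_mem hp)).eq, inv_mul_cancel_left] at e2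
  generalize u⁻¹ * b * u * b⁻¹ = p at *
  generalize x.ka (i + 4) b = k at *
  generalize x.la (i + 4) b = l at *
  by_contra hne
  have v1 : k⁻¹ * l ≠ 1 := fun e => hne (inv_mul_eq_one.1 e)
  have e3 := pi_R h (i := i - 2) (by omega) (mv _ (mul_mem (inv_mem hk) hl)) (mv _ hp) v1
  have c1 := (cm h hk hu).eq
  have c2 := (cm h hp hu).eq
  have e4 : k⁻¹ * p * k = p * u := by
    calc _ = k⁻¹ * (u * (u⁻¹ * p)) * k := by group
      _ = k⁻¹ * u * k * p := by rw [← e1]; group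
      _ = _ := by rw [mul_assoc k⁻¹, ← c1, c2]; group
  have e5 : l⁻¹ * p * l = p * u := by
    calc _ = (l⁻¹ * p⁻¹ * l⁻¹⁻¹)⁻¹ := by group
      _ = _ := by rw [e2]; group
  have e6 : (k⁻¹ * l)⁻¹ * p * (k⁻¹ * l) * p⁻¹ = 1 := by
    have c3 := (cm h hk hl).inv_left.eq
    rw [c3]
    calc _ = k * (l⁻¹ * p * l) * k⁻¹ * p⁻¹ := by group
      _ = _ := by rw [e5, ← e4]; group
  rw [e6] at e3
  exact p1 (conj_eq_one_iff.1 (by rw [inv_inv, ← e3]))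

theorem mka {b : G} (hb : b ∈ x.U 6) (b1 : b ≠ 1) : (x.mu 6 b)⁻¹ * x.ka 6 b * x.mu 6 b = b := by
  obtain ⟨l1, e1, e2⟩ := (m6 x).la 6 b hb b1
  have e3 := ka_eq_la h (i := 8) (by omega) (x.la_mem hb b1) l1
  change x.ka 12 _ = x.la 12 _ at e3
  change x.ka 12 _ = _ at e1
  change x.mu 12 _ = _ at e2
  rw [MP.mu, ← e3, e1] at e2
  calc _ = (x.la 6 b)⁻¹ * b⁻¹ * x.mu 6 b := by rw [MP.mu]; group
    _ = _ := by rw [← e2]; group

theorem nor6 {b : G} (hb : b ∈ x.U 6) : ∀ g ∈ II x.U 2 4, b * g * b⁻¹ ∈ II x.U 2 4 := by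
  refine conj_II fun k h1 h2 g hg => ?_
  rcases eq_or_lt_of_le h1 with rfl | h3
  · rw [← commutatorElement_inv]
    exact inv_mem (by
      simpa [commutatorElement_def] using inII 2 4 (pi_mem h (i := 2) rfl (inv_mem hg) hb))
  · rw [commutatorElement_eq_one_iff_commute.2 (cm h hb hg)]
    exact one_mem _

omit h in
theorem key6 {a b : G} (ha : a ∈ x.U 1) (hb : b ∈ x.U 6) (b1 : b ≠ 1) :
    ∃ d ∈ II x.U 2 4, b * a * b⁻¹ = a * d * (x.mu 6 b * a * (x.mu 6 b)⁻¹) := by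
  simpa [mu_inv hb b1] using (m6 x).key' 6 b⁻¹ (inv_mem hb) (inv_ne_one.2 b1) a ha

theorem ab1 : x.Cm 1 1 := fun a ha a' ha' => by
  obtain ⟨b, hb, b1⟩ := x.nontriv 6
  obtain ⟨d, hd, e⟩ := key6 ha hb b1
  have hc := muL 5 hb b1 ha
  have hz := muL 5 hb b1 ha'
  suffices ⁅x.mu 6 b * a * (x.mu 6 b)⁻¹, x.mu 6 b * a' * (x.mu 6 b)⁻¹⁆ = 1 by
    simpa using commutatorElement_eq_one_iff_mul_comm.1 this
  generalize x.mu 6 b * a' * (x.mu 6 b)⁻¹ = z at *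
  generalize x.mu 6 b * a * (x.mu 6 b)⁻¹ = c at *
  refine dR (k := 2) (l := 4) (mul_mem (mul_mem (mul_mem hc hz) (inv_mem hc)) (inv_mem hz)) ?_
  have h1 := nor6 h hb _ (x.comm 1 5 (by omega) (by omega) a ha z hz)
  have h2 : ⁅a⁻¹, z⁆ ∈ II x.U 2 4 := x.comm 1 5 (by omega) (by omega) _ (inv_mem ha) z hz
  have c1 : b * z * b⁻¹ = z := by rw [(cm h hb hz).eq, mul_inv_cancel_right]
  rw [conjugate_commutatorElement, c1, e] at h1
  rw [show ⁅c, z⁆ = d⁻¹ * (a⁻¹ * ⁅a * d * c, z⁆ * a⁻¹⁻¹) * ⁅a⁻¹, z⁆ * (z * d * z⁻¹) by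
    simp only [commutatorElement_def]; group]
  exact mul_mem (mul_mem (mul_mem (inv_mem hd) ((m6 x).normL 1 4 (by omega) _ (inv_mem ha) _ h1))
    h2) ((m6 x).normR 2 5 (by omega) z hz d hd)

open Classical in
/-- conjugation by `μ(b)` -/
noncomputable def cj (x : MP 6 G) (b g : G) : G :=
  if b = 1 then 1 else x.mu 6 b * g * (x.mu 6 b)⁻¹

omit h in
theorem cj_eq {b : G} (b1 : b ≠ 1) (g : G) : cj x b g = x.mu 6 b * g * (x.mu 6 b)⁻¹ := if_neg b1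

omit h in
theorem cj_one (g : G) : cj x 1 g = 1 := if_pos rfl

omit h in
theorem cj_mul (b g g' : G) : cj x b (g * g') = cj x b g * cj x b g' := by
  by_cases b1 : b = 1
  · simp [b1, cj_one]
  · simp only [cj_eq b1]; group

omit h in
theorem cj_mem {k : ℤ} (l : ℤ) {b g : G} (hb : b ∈ x.U 6) (hg : g ∈ x.U k)
    (e : (6 - k - l) % 12 = 0 := by omega) : cj x b g ∈ x.U l := by
  by_cases b1 : b = 1
  · rw [b1, cj_one]; exact one_mem _
  · rw [cj_eq b1]; exact muL l hb b1 hg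

omit h in
theorem cj1 {a b : G} (ha : a ∈ x.U 1) (hb : b ∈ x.U 6) :
    ∃ d ∈ II x.U 2 4, b * a * b⁻¹ = a * d * cj x b a := by
  by_cases b1 : b = 1
  · exact ⟨1, one_mem _, by simp [b1, cj_one]⟩
  · rw [cj_eq b1]; exact key6 ha hb b1

theorem cj2 {u b : G} (hu : u ∈ x.U 2) (hb : b ∈ x.U 6) : u⁻¹ * b * u * b⁻¹ = cj x b u := by
  by_cases b1 : b = 1
  · simp [b1, cj_one]
  · rw [cj_eq b1]; exact pi_L h (i := 2) rfl hu hb b1

theorem cj_add {g b b' : G} (hg : g ∈ II x.U 1 2) (hb : b ∈ x.U 6) (hb' : b' ∈ x.U 6) :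
    cj x (b * b') g = cj x b g * cj x b' g := by
  obtain ⟨a, ha, u, hu, rfl⟩ := (m6 x).splitL 1 2 (by omega) g hg
  replace hu : u ∈ x.U 2 := (II_self x.U 2).le hu
  have e2 : cj x (b * b') u = cj x b u * cj x b' u := by
    have c := (cm h hb (cj_mem 4 hb' hu)).inv_left.eq
    rw [← cj2 h hu (mul_mem hb hb'), ← cj2 h hu hb, mul_assoc _ b⁻¹, c, ← cj2 h hu hb']
    group
  have e1 : cj x (b * b') a = cj x b a * cj x b' a := by
    obtain ⟨d, hd, e⟩ := cj1 ha hb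
    obtain ⟨d', hd', e'⟩ := cj1 ha hb'
    obtain ⟨d'', hd'', e''⟩ := cj1 ha (mul_mem hb hb')
    have hc := cj_mem 5 hb ha
    have hc' := cj_mem 5 hb' ha
    have c := (cm h hb hc').eq
    refine mul_inv_eq_one.1 (dR (k := 2) (l := 4) (mul_mem (cj_mem 5 (mul_mem hb hb') ha)
      (inv_mem (mul_mem hc hc'))) ?_)
    have : cj x (b * b') a * (cj x b a * cj x b' a)⁻¹ =
        d''⁻¹ * d * (cj x b a * (b * d' * b⁻¹) * (cj x b a)⁻¹) := by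
      calc _ = d''⁻¹ * a⁻¹ * (a * d'' * cj x (b * b') a) * (cj x b a * cj x b' a)⁻¹ := by group
        _ = d''⁻¹ * a⁻¹ * (b * (b' * a * b'⁻¹) * b⁻¹) * (cj x b a * cj x b' a)⁻¹ := by
          rw [← e'']; group
        _ = d''⁻¹ * a⁻¹ * (b * a * b⁻¹) * (b * d' * b⁻¹) * (b * cj x b' a) * b⁻¹ *
          (cj x b a * cj x b' a)⁻¹ := by rw [e']; group
        _ = _ := by rw [e, c]; group
    rw [this]
    exact mul_mem (mul_mem (inv_mem hd'') hd) ((m6 x).normR 2 5 (by omega) _ hc _ (nor6 h hb _ hd'))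
  rw [cj_mul, cj_mul, cj_mul, e1, e2]
  exact ((cm h (cj_mem 4 hb hu) (cj_mem 5 hb' ha)).symm.mul_mul_mul_comm _ _)

theorem mu_sq6 {g b : G} (hg : g ∈ II x.U 1 2) (hb : b ∈ x.U 6) (b1 : b ≠ 1) :
    x.mu 6 b * g * (x.mu 6 b)⁻¹ = (x.mu 6 b)⁻¹ * g⁻¹ * x.mu 6 b := by
  have := cj_add h hg (inv_mem hb) hb
  rw [inv_mul_cancel, cj_one, cj_eq b1, cj_eq (inv_ne_one.2 b1), mu_inv hb b1, inv_inv] at this
  rw [eq_inv_of_mul_eq_one_right this.symm]; group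

omit h in
theorem ex_inv {e b : G} (he : e ∈ x.U 6) (e1 : e ≠ 1) (hb : b ∈ x.U 6) (b1 : b ≠ 1) :
    ∃ c ∈ x.U 6, c ≠ 1 ∧ x.mu 6 c = (x.mu 6 e)⁻¹ * x.mu 6 b * x.mu 6 e := by
  have hw := muR 12 he e1 hb
  obtain ⟨l1, -, l2⟩ := (m6 x).la 12 _ hw fun e => b1 (conj_eq_one_iff.1 (by rwa [inv_inv]))
  refine ⟨_, mv 6 (x.la_mem hw fun e => b1 (conj_eq_one_iff.1 (by rwa [inv_inv]))), l1, ?_⟩
  rw [← ((m6 x).per 6 _).2.2]
  exact l2.trans (mu_cj (fun g hg => muR _ he e1 hg) (fun g hg => muL _ he e1 hg)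
    (fun g hg => muR _ he e1 hg) (fun g hg => muL _ he e1 hg) hb b1)

theorem ab12 : ∀ g ∈ II x.U 1 2, ∀ g' ∈ II x.U 1 2, g * g' = g' * g := by
  intro g hg g' hg'
  obtain ⟨a, ha, u, hu, rfl⟩ := (m6 x).splitL 1 2 (by omega) g hg
  obtain ⟨a', ha', u', hu', rfl⟩ := (m6 x).splitL 1 2 (by omega) g' hg'
  replace hu : u ∈ x.U 2 := (II_self x.U 2).le hu
  replace hu' : u' ∈ x.U 2 := (II_self x.U 2).le hu'
  exact ((Commute.mul_right (ab1 h a ha a' ha') (cm h hu' ha).symm).mul_left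
    ((cm h hu ha').mul_right (cm h hu hu'))).eq

omit h in
theorem back12 {e b g : G} (he : e ∈ x.U 6) (e1 : e ≠ 1) (hb : b ∈ x.U 6) (hg : g ∈ II x.U 1 2) :
    (x.mu 6 e)⁻¹ * cj x b g * x.mu 6 e ∈ II x.U 1 2 := by
  obtain ⟨a, ha, u, hu, rfl⟩ := (m6 x).splitL 1 2 (by omega) g hg
  replace hu : u ∈ x.U 2 := (II_self x.U 2).le hu
  have := mul_mem (inII 1 2 (muR 1 he e1 (cj_mem 5 hb ha))) (inII 1 2 (muR 2 he e1 (cj_mem 4 hb hu)))
  simpa [cj_mul, mul_assoc] using this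

open scoped IsMulCommutative in
/-- the field lemma for `U 6` acting on `U 1 U 2` -/
theorem field6 {e : G} (he : e ∈ x.U 6) (e1 : e ≠ 1) :
    ∃ (F V : Type) (_ : Field F) (_ : Finite F) (_ : AddCommGroup V) (_ : Module F V)
      (y : F → G) (v : V → G), Co y (x.U 6) ∧ Co v (II x.U 1 2) ∧ y 1 = e ∧
        ∀ t b, cj x (y t) (v b) = x.mu 6 e * v (t • b) * (x.mu 6 e)⁻¹ := by
  have : IsMulCommutative (II x.U 1 2) := .of_comm fun a b => Subtype.ext (ab12 h _ a.2 _ b.2)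
  let V := Additive (II x.U 1 2)
  let L : Additive (x.U 6) →+ AddMonoid.End V := AddMonoidHom.mk' (fun a => AddMonoidHom.mk'
    (fun b => Additive.ofMul ⟨(x.mu 6 e)⁻¹ * cj x a.toMul b.toMul * x.mu 6 e,
      back12 he e1 a.toMul.2 b.toMul.2⟩) fun b b' => Subtype.ext (by
        change _ * cj x _ (_ * _) * _ = _ * _ * _ * (_ * _ * _)
        rw [cj_mul]; group)) fun a a' => AddMonoidHom.ext fun b => Subtype.ext (by
      change _ * cj x (_ * _) _ * _ = _ * _ * _ * (_ * _ * _)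
      rw [cj_add h b.toMul.2 a.toMul.2 a'.toMul.2]; group)
  have hL : ∀ a b, ((L a b).toMul : G) = (x.mu 6 e)⁻¹ * cj x a.toMul b.toMul * x.mu 6 e :=
    fun _ _ => rfl
  have ext : ∀ {A B : AddMonoid.End V}, (∀ b, ((A b).toMul : G) = (B b).toMul) → A = B :=
    fun h => AddMonoidHom.ext fun b => Subtype.ext (h b)
  obtain ⟨b0, hb0, b1⟩ := x.nontriv 1
  have hb0' := inII 1 2 hb0
  have : Nontrivial V := ⟨Additive.ofMul ⟨b0, hb0'⟩, 0, fun e => b1 (congrArg Subtype.val e)⟩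
  obtain ⟨F, _, _, _, y, y1, y2, y3, y4⟩ := field_of_End L ((injective_iff_map_eq_zero L).2
    fun a h => by
      by_contra h1
      have := hL a (Additive.ofMul ⟨b0, hb0'⟩)
      rw [h, cj_eq (b := (a.toMul : G)) fun e => h1 (Subtype.ext e)] at this
      have h2 : x.mu 6 a.toMul * b0 * (x.mu 6 a.toMul)⁻¹ = 1 :=
        conj_eq_one_iff.1 (by rw [inv_inv]; exact this.symm)
      exact b1 (conj_eq_one_iff.1 h2)) (e := Additive.ofMul ⟨e, he⟩) (ext fun b => by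
      rw [hL]; change _ * cj x e _ * _ = (b.toMul : G); rw [cj_eq e1]; group) fun a h0 => by
    have a1 : (a.toMul : G) ≠ 1 := fun e => h0 (Subtype.ext e)
    obtain ⟨c, hc, k1, k2⟩ := ex_inv he e1 (inv_mem a.toMul.2) (inv_ne_one.2 a1)
    rw [mu_inv a.toMul.2 a1] at k2
    refine ⟨-Additive.ofMul ⟨c, hc⟩, ?_⟩
    rw [map_neg]
    refine ext fun b => ?_
    change ((x.mu 6 e)⁻¹ * cj x c (L a b).toMul * x.mu 6 e)⁻¹ = (b.toMul : G)
    rw [hL, cj_eq k1, cj_eq a1, k2]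
    calc _ = (x.mu 6 e)⁻¹ * ((x.mu 6 e)⁻¹ * (b.toMul : G)⁻¹ * x.mu 6 e) * x.mu 6 e := by
          simp only [mul_inv_rev, inv_inv, mul_assoc, inv_mul_cancel_left, mul_inv_cancel_left]
      _ = _ := by rw [← mu_sq6 h b.toMul.2 he e1]; group
  refine ⟨F, V, inferInstance, inferInstance, inferInstance, inferInstance,
    fun t => (y t).toMul, fun b => b.toMul, ⟨fun s t => by rw [y1]; rfl,
      fun s t h => y2.1 (Subtype.ext h), fun g => ⟨fun hg => ?_, fun ⟨t, e⟩ => e ▸ (y t).toMul.2⟩⟩,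
    ⟨fun _ _ => rfl, fun _ _ h => Subtype.ext h, fun g => ⟨fun hg => ⟨Additive.ofMul ⟨g, hg⟩, rfl⟩,
      fun ⟨t, e⟩ => e ▸ t.toMul.2⟩⟩, by simp only [y3]; rfl, fun t b => by simp only [y4, hL]; group⟩
  obtain ⟨t, e⟩ := y2.2 (Additive.ofMul ⟨g, hg⟩)
  exact ⟨t, by rw [e]; rfl⟩

/-- coordinates on `U 1`, `U 2`, `U 6` -/
theorem coords : ∃ (F J : Type) (_ : Field F) (_ : AddCommGroup J) (_ : Module F J)
    (x1 : J → G) (x2 x6 : F → G), Co x1 (x.U 1) ∧ Co x2 (x.U 2) ∧ Co x6 (x.U 6) ∧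
      (∀ t a, cj x (x6 t) (x1 a) = x.mu 6 (x6 1) * x1 (t • a) * (x.mu 6 (x6 1))⁻¹) ∧
      ∀ t s, cj x (x6 t) (x2 s) = x.mu 6 (x6 1) * x2 (s * t) * (x.mu 6 (x6 1))⁻¹ := by
  obtain ⟨e, he, e1⟩ := x.nontriv 6
  obtain ⟨F, V, _, _, _, _, y, v, hy, hv, rfl, r⟩ := field6 h he e1
  have sub : ∀ k l : ℤ, 1 ≤ k → k ≤ 2 → k + l = 6 →
      ∃ J : Submodule F V, Co (fun a : J => v a) (x.U k) := fun k l h1 h2 h3 => by
    refine ⟨⟨⟨⟨{a | v a ∈ x.U k}, fun {a b} ha hb => ?_⟩, ?_⟩, fun t a ha => ?_⟩,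
      fun a b => hv.add _ _, fun a b e => Subtype.ext (hv.inj e), fun g => ⟨fun hg => ?_, ?_⟩⟩
    · change v (a + b) ∈ x.U k
      rw [hv.add]; exact mul_mem ha hb
    · change v 0 ∈ x.U k
      rw [hv.zero]; exact one_mem _
    · have := muR k he e1 (cj_mem l (hy.mem' t) ha)
      rw [r] at this
      simpa [mul_assoc] using this
    · obtain ⟨a, rfl⟩ := (hv.mem g).1 (inII 1 2 hg)
      exact ⟨⟨a, hg⟩, rfl⟩
    · rintro ⟨t, rfl⟩
      exact t.2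
  obtain ⟨J, hJ⟩ := sub 1 5 (by omega) (by omega) rfl
  obtain ⟨K, hK⟩ := sub 2 4 (by omega) (by omega) rfl
  obtain ⟨b, hb, b1⟩ := x.nontriv 2
  obtain ⟨b, rfl⟩ := (hK.mem _).1 hb
  have b0 : b ≠ 0 := fun e => b1 (hK.eq_one.2 e)
  have hc : Nat.card F = Nat.card K := by
    rw [← hy.card, ← hK.card]; exact (m6 x).card 1 2
  have : Finite K := Finite.of_injective _ hK.inj
  have h3 := hK.comp (θ := fun s : F => s • b) (fun s t => add_smul s t b)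
    ((Nat.bijective_iff_injective_and_card _).2 ⟨smul_left_injective F b0, hc⟩)
  refine ⟨F, J, inferInstance, inferInstance, inferInstance, _, _, y, hJ, h3, hy,
    fun t a => r t a, fun t s => (r t _).trans ?_⟩
  rw [mul_comm s t, mul_smul]
  rfl

end long

theorem co_conj {A : Type} [AddGroup A] {f : A → G} {H K : Subgroup G} (h : Co f H) {m : G}
    (h1 : ∀ g ∈ H, m * g * m⁻¹ ∈ K) (h2 : ∀ g ∈ K, m⁻¹ * g * m ∈ H) :
    Co (fun t => m * f t * m⁻¹) K := by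
  simpa using h.conj (m := m⁻¹) (by simpa using h1) (by simpa using h2)

theorem jobH5 : JobH5 := by
  intro G _ _ x h
  obtain ⟨F, J, _, _, _, x1, x2, x6, c1, c2, c6, r1, r2⟩ := coords h
  have e1 := c6.ne_one (one_ne_zero (α := F))
  have he := c6.mem' 1
  set m := x.mu 6 (x6 1) with hm
  have c5 := co_conj c1 (m := m) (fun g hg => muL 5 he e1 hg) fun g hg => muR 1 he e1 hg
  have c4 := co_conj c2 (m := m) (fun g hg => muL 4 he e1 hg) fun g hg => muR 2 he e1 hg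
  obtain ⟨f, hf, f1⟩ := x.nontriv 1
  set n := x.mu 1 f with hn
  have c3 := c5.conj (m := n) (fun g hg => muR 3 hf f1 hg) fun g hg => muL 5 hf f1 hg
  have m1 : ∀ t a, t ≠ 0 → x.mu 6 (x6 t) * x1 a * (x.mu 6 (x6 t))⁻¹ = m * x1 (t • a) * m⁻¹ :=
    fun t a ht => by rw [← r1, cj_eq (c6.ne_one ht)]
  have m2 : ∀ t s, t ≠ 0 → x.mu 6 (x6 t) * x2 s * (x.mu 6 (x6 t))⁻¹ = m * x2 (s * t) * m⁻¹ :=
    fun t a ht => by rw [← r2, cj_eq (c6.ne_one ht)]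
  have r26 : ∀ s t, (x2 s)⁻¹ * x6 t * x2 s = m * x2 (s * t) * m⁻¹ * x6 t := fun s t => by
    rw [← r2, ← cj2 h (c2.mem' s) (c6.mem' t), inv_mul_cancel_right]
  obtain ⟨a0, rfl⟩ := (c1.mem f).1 hf
  have a1 : a0 ≠ 0 := fun e => f1 (c1.eq_one.2 e)
  -- conjugation of `U 6` by `n`
  obtain ⟨c, c0, hc⟩ : ∃ c : F, c ≠ 0 ∧ ∀ t, n⁻¹ * x6 t * n = x2 (c * t) := by
    obtain ⟨β, hβ⟩ := (c6.mem _).1 (muR 6 hf f1 (c2.mem' 1))
    rw [← hn] at hβ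
    have key : ∀ t α, n⁻¹ * x6 t * n = x2 α → -(α * β) = t := fun t α e => by
      have k1 := r26 α (-β)
      have k2 : Commute n (m * x2 (1 * t) * m⁻¹) := cm_mu hf f1 (cm h (c4.mem' _) hf).symm
        fun v hv => (cm h (c4.mem' _) hv).symm
      have k3 := (cm h (c2.mem' α) (c4.mem' (1 * t))).eq
      have k4 : (x6 β)⁻¹ * x2 α * x6 β = x2 α * (m * x2 (1 * t) * m⁻¹) := by
        rw [k3, ← hβ, ← e]
        calc _ = n⁻¹ * ((x2 1)⁻¹ * x6 t * x2 1) * n := by group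
          _ = _ := by rw [r26, ← mul_assoc, k2.inv_left.eq]; group
      rw [c6.neg] at k1
      have k5 : m * x2 (α * -β) * m⁻¹ = m * x2 (1 * t) * m⁻¹ := by
        rw [← mul_inv_cancel_right (m * x2 (α * -β) * m⁻¹) (x6 β)⁻¹, ← k1,
          ← inv_mul_cancel_left (x2 α) (m * x2 (1 * t) * m⁻¹), ← k4]
        group
      simpa using c4.inj k5
    have ex := fun t => (c2.mem _).1 (muR 2 hf f1 (c6.mem' t))
    obtain ⟨α, hα⟩ := ex 1
    have k := key 1 α hα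
    refine ⟨α, fun e => by simp [e] at k, fun t => ?_⟩
    obtain ⟨γ, hγ⟩ := ex t
    rw [hγ]
    congr 1
    linear_combination (-γ) * k + α * key t γ hγ
  refine ⟨F, J, J, _, _, _, _, _, ⟨⟨x1, x2, _, _, _, x6, c1, c2, c3, c4, c5, c6, r26, m1, m2,
    fun t ht => mka h (c6.mem' t) (c6.ne_one ht), fun s hs => ?_, fun s hs => ?_⟩⟩⟩
  · obtain ⟨v, hv, v1⟩ := x.nontriv 8
    have ex : ∀ t, t ≠ 0 → ∃ w ∈ x.U 4, w ≠ 1 ∧ (x.mu 4 w)⁻¹ * v * x.mu 4 w = x6 t := fun t ht => by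
      have hw := muR 4 hv v1 (c6.mem' t)
      have w1 : (x.mu 8 v)⁻¹ * x6 t * x.mu 8 v ≠ 1 := fun e =>
        c6.ne_one ht (conj_eq_one_iff.1 (by rwa [inv_inv]))
      refine ⟨_, hw, w1, ?_⟩
      rw [← pi_R h (i := 4) rfl hw hv w1, pi_L h (i := 4) rfl hw hv v1]
      change x.mu 8 v * _ * (x.mu 8 v)⁻¹ = _
      group
    obtain ⟨w, hw, w1, ew⟩ := ex 1 one_ne_zero
    obtain ⟨w', hw', w1', ew'⟩ := ex s hs
    have T := tor_mu hw w1 hw' w1'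
    have cz : ∀ k : ℤ, k = 1 ∨ k = 7 → ∀ g ∈ x.U k, Commute ((x.mu 4 w)⁻¹ * x.mu 4 w') g :=
      fun k hk g hg => (cm_mu hw w1 (cm h hw hg) fun v hv => cm h hv hg).inv_left.mul_left
        (cm_mu hw' w1' (cm h hw' hg) fun v hv => cm h hv hg)
    have e6 : ((x.mu 4 w)⁻¹ * x.mu 4 w')⁻¹ * x6 1 * ((x.mu 4 w)⁻¹ * x.mu 4 w') = x6 s := by
      rw [← ew, ← ew']; group
    generalize (x.mu 4 w)⁻¹ * x.mu 4 w' = k at T cz e6
    have k1 : ∀ a, k⁻¹ * x1 a * k = x1 a := fun a => by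
      rw [mul_assoc, ← (cz 1 (by omega) _ (c1.mem' a)).eq, inv_mul_cancel_left]
    have kn : Commute n k := cm_mu hf f1 (cz 1 (by omega) _ hf).symm
      fun v hv => (cz 7 (by omega) _ hv).symm
    have k56 : ∀ t t', t ≠ 0 → t' ≠ 0 → k⁻¹ * x6 t * k = x6 t' → ∀ a,
        k⁻¹ * (m * x1 (t • a) * m⁻¹) * k = m * x1 (t' • a) * m⁻¹ := fun t t' ht ht' e a => by
      rw [← m1 t a ht, ← m1 t' a ht', ← e, T.mu (c6.mem' t) (c6.ne_one ht)]
      conv_rhs => rw [← k1 a]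
      group
    have k5 : ∀ a, k⁻¹ * (m * x1 a * m⁻¹) * k = m * x1 (s • a) * m⁻¹ := fun a => by
      simpa using k56 1 s one_ne_zero hs e6 a
    have k6 : ∀ t, k⁻¹ * x6 t * k = x6 (s * t) := fun t => by
      by_cases ht : t = 0
      · simp [ht, c6.zero]
      obtain ⟨t', e⟩ := (c6.mem _).1 (T 6 _ (c6.mem' t)).2
      have ht' : t' ≠ 0 := fun z => c6.ne_one ht (conj_eq_one_iff.1 (by
        rw [inv_inv, e, z, c6.zero]))
      have := c5.inj ((k56 t t' ht ht' e a0).symm.trans (k5 _))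
      rw [e, smul_left_injective F a1 (this.trans (mul_smul s t a0).symm)]
    have cn : ∀ g, k⁻¹ * (n⁻¹ * g * n) * k = n⁻¹ * (k⁻¹ * g * k) * n := fun g => by
      calc _ = (n * k)⁻¹ * g * (n * k) := by group
        _ = _ := by rw [kn.eq]; group
    refine ⟨k, k1, fun t => ?_, fun y => by rw [cn, k5], k5, k6⟩
    rw [← mul_div_cancel₀ t c0, ← hc, cn, k6, hc, mul_left_comm]
  · have hb := c6.mem' s
    have b1 := c6.ne_one hs
    have T := tor_mu hb b1 he e1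
    have k2 : ∀ t, ((x.mu 6 (x6 s))⁻¹ * m)⁻¹ * x2 t * ((x.mu 6 (x6 s))⁻¹ * m) = x2 (s * t) :=
      fun t => by
        calc _ = m⁻¹ * (x.mu 6 (x6 s) * x2 t * (x.mu 6 (x6 s))⁻¹) * m := by group
          _ = _ := by rw [m2 s t hs, mul_comm]; group
    have k4 : ∀ t, ((x.mu 6 (x6 s))⁻¹ * m)⁻¹ * (m * x2 t * m⁻¹) * ((x.mu 6 (x6 s))⁻¹ * m) =
        m * x2 (t / s) * m⁻¹ := fun t => by
      rw [mu_sq6 h (inII 1 2 (c2.mem' (t / s))) he e1, ← div_mul_cancel₀ t hs, ← m2 s _ hs,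
        mu_sq6 h (inII 1 2 (c2.mem' _)) hb b1, div_mul_cancel₀ t hs, ← hm]
      group
    refine ⟨(x.mu 6 (x6 s))⁻¹ * m, fun a => ?_, k2, fun y => ?_, fun t => ?_⟩
    · calc _ = m⁻¹ * (x.mu 6 (x6 s) * x1 a * (x.mu 6 (x6 s))⁻¹) * m := by group
        _ = _ := by rw [m1 s a hs]; group
    · have hy := c3.mem' y
      have := (cm_mu hb b1 (cm h hb hy) fun v hv => cm h hv hy).inv_left.mul_left
        (cm_mu he e1 (cm h he hy) fun v hv => cm h hv hy)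
      rw [mul_assoc, ← this.eq, inv_mul_cancel_left]
    · obtain ⟨t', e⟩ := (c6.mem _).1 (T 6 _ (c6.mem' t)).2
      generalize (x.mu 6 (x6 s))⁻¹ * m = k at k2 k4 e
      have : m * x2 (s * 1 * t') * m⁻¹ * x6 t' = m * x2 (1 * t / s) * m⁻¹ * x6 t' := by
        rw [← r26, ← k2, ← k4, ← e]
        calc _ = k⁻¹ * ((x2 1)⁻¹ * x6 t * x2 1) * k := by group
          _ = _ := by rw [r26]; group
      have := c4.inj (mul_right_cancel this)
      rw [e]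
      congr 1
      field_simp at this ⊢
      linear_combination this

end H55.FS
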