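import Cfsg.Agent.H55.KgvVLa

/-! Tower KGV, job JVL: values of `gam` for an induced character. -/

set_option autoImplicit false

namespace H55.KgvVL

open Finset Cfsg H63.Kgv

universe u

theorem job : H63.Kgv.JVL.{u} := by
  intro eg p _ M K _ _ θ a Hf hs E _ _ hE H _ r d x χ φ ω id hd hr hω hχ
  classical
  haveI : Fintype H := Fintype.ofFinite H
  have hp : p.Prime := Fact.out
  have r0 : 0 < r := id.pr.pos
  have hN : ∀ y : E, y ^ (p ^ M - 1) = 1 := fun y =>
    orderOf_dvd_iff_pow_eq_one.1 ((orderOf_dvd_natCard y).trans hE)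
  have egH := eg K θ H hs.inj
  have egE := eg K θ E hs.inj
  have hm : ∀ h : H, Eg θ φ h (em θ φ h) := fun h => egH.2 φ h id.ch (by
    rw [hs.card]; exact Subtype.ext (hN h))
  have cl : ∀ b h : H, φ (b * h * b⁻¹) = φ h := by
    obtain ⟨n, ρ, rfl⟩ := id.ch
    exact fun b h => ρ.char_conj h b
  have sm0 : ∀ h : H, φ 1 = ∑ v, (em θ φ h v : ℂ) := fun h => by
    have := hm h 0
    simpa using this
  refine ⟨∑ v, em θ φ 1 v, by rw [sm0 1]; push_cast; rfl, fun t ht => ⟨fun h => ?_, fun y h hy hh => ?_⟩⟩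
  · have e : em θ χ (h : E) = fun v => ∑ j ∈ range r, em θ φ (MulAut.conjNormal (x ^ j) h) v := by
      refine egE.1 χ _ _ fun k => ?_
      rw [← Subgroup.coe_pow, id.on]
      simp only [map_pow (MulAut.conjNormal (x ^ _)), Nat.cast_sum, sum_mul]
      rw [sum_comm]
      refine sum_congr rfl fun j _ => ?_
      convert hm (MulAut.conjNormal (x ^ j) h) k
    unfold gam
    rw [e, prod_comm]
    refine prod_congr (by congr) fun v _ => ?_
    rw [mul_sum, prod_pow_eq_pow_sum]
  · set m := em θ φ h with hmdef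
    have d0 : 0 < d := Nat.pos_of_dvd_of_pos hd hs.pos
    have rN : r ∣ p ^ M - 1 := hr.trans (Nat.pow_sub_one_dvd_pow_sub_one p hd)
    obtain ⟨s, hsN⟩ := rN
    have cK : Fintype.card Kˣ = r * s := by rw [Fintype.card_units, hs.card, hsN]
    have uN : ∀ v : Kˣ, v ^ (r * s) = 1 := fun v => by rw [← cK]; exact pow_card_eq_one
    have rt : (r : ZMod p) * t ≠ 0 := by
      refine mul_ne_zero (fun e => ?_) ht
      have h1 : p ∣ p ^ d - 1 := ((ZMod.natCast_eq_zero_iff r p).1 e).trans hr
      have h2 : p ∣ p ^ d := dvd_pow_self p d0.ne'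
      have h3 : p ∣ p ^ d - (p ^ d - 1) := Nat.dvd_sub h2 h1
      have h4 : 1 ≤ p ^ d := Nat.one_le_pow _ _ hp.pos
      rw [Nat.sub_sub_self h4] at h3
      exact hp.one_lt.ne' (Nat.dvd_one.1 h3)
    have onr : ∀ k : ℕ, χ (y ^ (r * k)) = r * φ (h ^ k) := by
      intro k
      rw [pow_mul, ← hh, ← Subgroup.coe_pow, id.on]
      rw [sum_congr rfl (g := fun _ => φ (h ^ k)), sum_const, card_range, nsmul_eq_mul]
      intro j _
      obtain ⟨b, i, e⟩ := coset id.pr id.idx hy (x ^ j)
      rw [← cl b (h ^ k)]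
      congr 1
      apply Subtype.ext
      have hc : Commute (y ^ i) ((y ^ r) ^ k) := ((Commute.refl y).pow_right r).zpow_left i |>.pow_right k
      rw [MulAut.conjNormal_apply, e]
      simp only [Subgroup.coe_mul, Subgroup.coe_pow, Subgroup.coe_inv, hh]
      calc (b : E) * y ^ i * (y ^ r) ^ k * (b * y ^ i)⁻¹ = b * (y ^ i * (y ^ r) ^ k) * (b * y ^ i)⁻¹ := by
            group
        _ = b * (y ^ r) ^ k * (b : E)⁻¹ := by rw [hc.eq]; group
    have hroot : ∀ v, m v ≠ 0 → ∃ w : Kˣ, v = w ^ r := by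
      intro v hv
      refine root cK (hs.inj (Units.ext ?_))
      rw [map_pow, map_one, Units.val_pow_eq_pow_val, Units.val_one]
      refine eq_one_of_sum m (fun v => (θ v : ℂ) ^ s) (fun v => ?_) ?_ v hv
      · have : ((θ v : ℂ) ^ s) ^ r = 1 := by
          rw [← pow_mul, mul_comm, ← Units.val_pow_eq_pow_val, ← map_pow, uN, map_one, Units.val_one]
        exact Complex.norm_eq_one_of_pow_eq_one this r0.ne'
      · have h1 : h ^ s = 1 := Subtype.ext (by
          rw [Subgroup.coe_pow, hh, ← pow_mul, ← hsN]; exact hN y)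
        have h2 := hm h s
        rw [h1, sm0 h] at h2
        convert h2.symm
    have e : em θ χ y = fun w => m (w ^ r) := by
      refine egE.1 χ _ _ fun k => ?_
      by_cases hk : r ∣ k
      · obtain ⟨k, rfl⟩ := hk
        rw [onr, hm h k, mul_sum]
        rw [← sum_fiberwise univ (fun w : Kˣ => w ^ r)
          (fun w : Kˣ => (m (w ^ r) : ℂ) * (θ w : ℂ) ^ (r * k))]
        refine sum_congr (by congr) fun v _ => ?_
        rw [sum_congr rfl (g := fun _ => (m v : ℂ) * (θ v : ℂ) ^ k), sum_const, nsmul_eq_mul]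
        · by_cases hv : m v = 0
          · rw [← hmdef, hv]; simp
          · obtain ⟨w, rfl⟩ := hroot v hv
            rw [card_fib r0 hω w]
        · intro w hw
          rw [← (mem_filter.1 hw).2, map_pow, Units.val_pow_eq_pow_val, pow_mul]
      · rw [id.off _ (pow_notMem id.pr id.idx hy hk)]
        have h1 : (θ ω : ℂ) ^ k ≠ 1 := by
          intro e
          refine hk (hω ▸ orderOf_dvd_of_pow_eq_one (hs.inj (Units.ext ?_)))
          rw [map_pow, map_one, Units.val_pow_eq_pow_val, Units.val_one, e]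
        have h2 : ∑ w : Kˣ, (m (w ^ r) : ℂ) * (θ w : ℂ) ^ k =
            (∑ w : Kˣ, (m (w ^ r) : ℂ) * (θ w : ℂ) ^ k) * (θ ω : ℂ) ^ k := by
          rw [sum_mul, ← Equiv.sum_comp (Equiv.mulRight ω)]
          refine sum_congr rfl fun w _ => ?_
          have : ω ^ r = 1 := by rw [← hω, pow_orderOf_eq_one]
          simp only [Equiv.coe_mulRight, mul_pow, this, mul_one, map_mul, Units.val_mul, mul_assoc]
        have h3 : (∑ w : Kˣ, (m (w ^ r) : ℂ) * (θ w : ℂ) ^ k) * (1 - (θ ω : ℂ) ^ k) = 0 := by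
          rw [mul_sub, mul_one, ← h2, sub_self]
        have h4 := (mul_eq_zero.1 h3).resolve_right (sub_ne_zero.2 h1.symm)
        convert h4.symm
    obtain ⟨c, hc⟩ := hd
    have uM : ∀ v : Kˣ, v ^ p ^ M = v := fun v => by
      have h4 : 1 ≤ p ^ M := Nat.one_le_pow _ _ hp.pos
      rw [← Nat.sub_add_cancel h4, hsN, pow_succ, uN, one_mul]
    have it : ∀ (k : ℕ) (v : Kˣ), (fun v : Kˣ => v ^ p ^ d)^[k] v = v ^ p ^ (d * k) := by
      intro k v
      induction k with
      | zero => simp
      | succ k ih => rw [Function.iterate_succ_apply', ih, ← pow_mul, ← pow_add, mul_add, mul_one]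
    have c0 : 0 < c := Nat.pos_of_mul_pos_left (hc ▸ hs.pos)
    have inj : Function.Injective fun v : Kˣ => v ^ p ^ d := by
      refine Function.Injective.of_comp (f := (fun v : Kˣ => v ^ p ^ d)^[c - 1]) fun v w e => ?_
      rw [← Function.iterate_succ, Nat.succ_eq_add_one, Nat.sub_add_cancel c0, it, it, ← hc, uM, uM] at e
      exact e
    let σ : Equiv.Perm Kˣ := Equiv.ofBijective _ (Finite.injective_iff_bijective.1 inj)
    have hσ : ∀ v, σ v = v ^ p ^ d := fun _ => rfl
    have fr : ∀ (t : ZMod p) (v : Kˣ), t ≠ 0 → Hf t (σ v) = Hf t v := by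
      intro t v ht
      rw [hσ]
      induction d with
      | zero => simp
      | succ k _ =>
        have : ∀ k : ℕ, Hf t (v ^ p ^ k) = Hf t v := by
          intro k
          induction k with
          | zero => simp
          | succ k ih => rw [pow_succ, pow_mul, hs.frob t _ ht, ih]
        exact this _
    have mσ : ∀ v, m (σ v) = m v := by
      have h1 : em θ φ h = fun v => m (σ.symm v) := by
        refine egH.1 φ _ _ fun k => ?_
        have h2 : φ (h ^ k) = φ (h ^ (k * p ^ d)) := by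
          refine mul_left_cancel₀ (a := (r : ℂ)) (Nat.cast_ne_zero.2 r0.ne') ?_
          rw [← onr, ← onr, ← mul_assoc, pow_mul y (r * k), hχ]
        rw [h2, hm h, ← Equiv.sum_comp σ (fun v => (m (σ.symm v) : ℂ) * (θ v : ℂ) ^ k)]
        refine sum_congr (by congr) fun v _ => ?_
        rw [Equiv.symm_apply_apply, hσ, map_pow, Units.val_pow_eq_pow_val, ← pow_mul, mul_comm k]
      intro v
      have := congrFun h1 (σ v)
      rwa [Equiv.symm_apply_apply] at this
    have nn : ∑ v, em θ φ 1 v = ∑ v, m v := by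
      have := (sm0 1).symm.trans (sm0 h)
      exact_mod_cast this
    let A : Kˣ → ℂ := fun v => ∏ w ∈ univ.filter (fun w : Kˣ => w ^ r = v), Hf t w
    let B : Kˣ → ℂ := fun v => (∏ i ∈ range r, Hf t (ω ^ i)) * Hf (r * t) v
    have Aσ : ∀ v, A (σ v) = A v := by
      intro v
      symm
      refine prod_equiv σ (fun w => ?_) fun w _ => (fr t w ht).symm
      simp only [mem_filter, mem_univ, true_and]
      rw [hσ w, ← pow_mul, mul_comm, pow_mul, ← hσ, σ.apply_eq_iff_eq]
    have key := prod_orb σ (fun v => A v ^ (d * m v)) (fun v => B v ^ (d * m v))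
      (fun v => by rw [Aσ, mσ]) (fun v => by simp only [B, fr _ v rt, mσ]) (by
        intro v
        by_cases hv : m v = 0
        · simp [hv]
        obtain ⟨w, rfl⟩ := hroot v hv
        have p1 : Function.IsPeriodicPt σ c (w ^ r) := by
          show (fun v : Kˣ => v ^ p ^ d)^[c] (w ^ r) = w ^ r
          rw [it, ← hc, uM]
        have p2 : (fun v : Kˣ => v ^ p ^ d)^[Function.minimalPeriod σ (w ^ r)] (w ^ r) = w ^ r :=
          Function.isPeriodicPt_minimalPeriod σ (w ^ r)
        rw [it] at p2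
        have p3 := hs.prod r d ω id.pr ⟨c, hc⟩ hr hω t (d * Function.minimalPeriod σ (w ^ r)) w ht
          (dvd_mul_right _ _) (hc ▸ Nat.mul_dvd_mul_left d p1.minimalPeriod_dvd) p2
        rw [prod_pow, prod_pow, ← mul_pow, ← prod_fib r0 hω w] at p3
        simp only [← pow_mul]
        rw [mul_right_comm d, pow_mul, pow_mul _ (d * _)]
        exact congrArg (· ^ m (w ^ r)) p3)
    unfold gam
    rw [e, nn, ← hmdef, ← prod_pow_eq_pow_sum]
    have l1 : ∏ w : Kˣ, Hf t w ^ (d * m (w ^ r)) = ∏ v, A v ^ (d * m v) := by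
      rw [← prod_fiberwise univ (fun w : Kˣ => w ^ r)]
      refine prod_congr rfl fun v _ => ?_
      rw [← prod_pow]
      exact prod_congr rfl fun w hw => by rw [(mem_filter.1 hw).2]
    have l2 : ∏ v, B v ^ (d * m v) = (∏ v, (∏ i ∈ range r, Hf t (ω ^ i) ^ d) ^ m v) *
        ∏ v, Hf (r * t) v ^ (d * m v) := by
      rw [← prod_mul_distrib]
      refine prod_congr rfl fun v _ => ?_
      rw [prod_pow, ← pow_mul, ← mul_pow]
    convert l1.trans (key.trans l2)

end H55.KgvVL
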