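import Cfsg.Agent.H63.KgvSpec

/-! Tower KGV, job JVL: elementary lemmas. -/

set_option autoImplicit false

namespace H55.KgvVL

open Finset

universe u

/-- products over orbits -/
theorem prod_orb {X : Type} [Fintype X] (σ : Equiv.Perm X) (f g : X → ℂ) (hf : ∀ x, f (σ x) = f x)
    (hg : ∀ x, g (σ x) = g x)
    (h : ∀ x, f x ^ Function.minimalPeriod σ x = g x ^ Function.minimalPeriod σ x) :
    ∏ x, f x = ∏ x, g x := by
  classical
  have inv : ∀ F : X → ℂ, (∀ x, F (σ x) = F x) → ∀ x y,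
      y ∈ MulAction.orbit (Subgroup.zpowers σ) x → F y = F x := by
    intro F hF x y hy
    obtain ⟨⟨τ, hτ⟩, rfl⟩ := hy
    obtain ⟨k, rfl⟩ := (mem_powers_iff_mem_zpowers.2 hτ : τ ∈ Submonoid.powers σ)
    show F ((σ ^ k) x) = F x
    clear hτ
    induction k with
    | zero => rfl
    | succ k ih => rw [pow_succ', Equiv.Perm.mul_apply, hF, ih]
  let π : X → MulAction.orbitRel.Quotient (Subgroup.zpowers σ) X := fun x => Quotient.mk'' x
  rw [← prod_fiberwise univ π f, ← prod_fiberwise univ π g]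
  refine prod_congr rfl fun c _ => ?_
  obtain ⟨x, rfl⟩ := Quotient.exists_rep c
  have hm : ∀ y, y ∈ univ.filter (fun y => π y = Quotient.mk _ x) ↔
      y ∈ MulAction.orbit (Subgroup.zpowers σ) x := by
    intro y
    rw [mem_filter]
    simp only [mem_univ, true_and]
    exact Quotient.eq''.trans MulAction.orbitRel_apply
  have hc : (univ.filter (fun y => π y = Quotient.mk _ x)).card = Function.minimalPeriod σ x := by
    have := MulAction.minimalPeriod_eq_card σ x
    rw [show Function.minimalPeriod σ x = Function.minimalPeriod (σ • ·) x from rfl, this]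
    exact (Fintype.card_of_subtype _ hm).symm
  rw [prod_congr rfl fun y hy => inv f hf x y ((hm y).1 hy),
    prod_congr rfl fun y hy => inv g hg x y ((hm y).1 hy), prod_const, prod_const, hc, h]

section

variable {C : Type} [CommGroup C] [Fintype C] [DecidableEq C] {r : ℕ} {ω : C}

theorem mem_zp [IsCyclic C] (hr : 0 < r) (hω : orderOf ω = r) {z : C} (hz : z ^ r = 1) :
    ∃ i ∈ range r, ω ^ i = z := by
  have h1 : (univ.filter fun a : C => a ^ r = 1).card ≤ r := IsCyclic.card_pow_eq_one_le hr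
  have h2 : ((range r).image fun i => ω ^ i).card = r := by
    rw [card_image_of_injOn, card_range]
    intro i hi j hj e
    exact pow_injOn_Iio_orderOf (by simpa [hω] using hi) (by simpa [hω] using hj) e
  have h3 : ((range r).image fun i => ω ^ i) = univ.filter fun a : C => a ^ r = 1 := by
    refine eq_of_subset_of_card_le (fun a ha => ?_) (by rw [h2]; exact h1)
    obtain ⟨i, -, rfl⟩ := mem_image.1 ha
    rw [mem_filter, ← pow_mul, mul_comm, pow_mul, ← hω, pow_orderOf_eq_one, one_pow]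
    exact ⟨mem_univ _, rfl⟩
  have : z ∈ (range r).image fun i => ω ^ i := by
    rw [h3]; exact mem_filter.2 ⟨mem_univ _, hz⟩
  exact mem_image.1 this

theorem prod_fib [IsCyclic C] {A : Type} [CommMonoid A] (hr : 0 < r) (hω : orderOf ω = r) (w : C)
    (F : C → A) : ∏ v ∈ univ.filter (fun v : C => v ^ r = w ^ r), F v = ∏ i ∈ range r, F (w * ω ^ i) := by
  symm
  refine prod_bij (fun i _ => w * ω ^ i) (fun i _ => ?_) (fun i hi j hj e => ?_) (fun v hv => ?_)
    fun _ _ => rfl
  · rw [mem_filter, mul_pow, ← pow_mul, mul_comm i, pow_mul, ← hω, pow_orderOf_eq_one, one_pow, mul_one]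
    exact ⟨mem_univ _, rfl⟩
  · exact pow_injOn_Iio_orderOf (by simpa [hω] using hi) (by simpa [hω] using hj) (mul_left_cancel e)
  · obtain ⟨i, hi, e⟩ := mem_zp hr hω (z := w⁻¹ * v) (by
      rw [mul_pow, (mem_filter.1 hv).2, inv_pow, inv_mul_cancel])
    exact ⟨i, hi, by rw [e, mul_inv_cancel_left]⟩

theorem card_fib [IsCyclic C] (hr : 0 < r) (hω : orderOf ω = r) (w : C) :
    (univ.filter (fun v : C => v ^ r = w ^ r)).card = r := by
  have := prod_fib (A := Multiplicative ℕ) hr hω w fun _ => Multiplicative.ofAdd 1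
  rw [prod_const, prod_const, card_range, ← ofAdd_nsmul, ← ofAdd_nsmul] at this
  simpa using this

theorem root [IsCyclic C] {s : ℕ} (hN : Fintype.card C = r * s) {u : C} (hu : u ^ s = 1) :
    ∃ w : C, u = w ^ r := by
  obtain ⟨g, hg⟩ := IsCyclic.exists_monoid_generator (α := C)
  obtain ⟨k, rfl⟩ := hg u
  have ho : orderOf g = r * s := by
    rw [← hN, ← Nat.card_eq_fintype_card]
    exact orderOf_eq_card_of_forall_mem_powers hg
  have hs : 0 < s := Nat.pos_of_mul_pos_left (hN ▸ Fintype.card_pos)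
  have h1 : r * s ∣ k * s := by
    rw [← ho]
    exact orderOf_dvd_of_pow_eq_one (by rw [pow_mul]; exact hu)
  obtain ⟨c, rfl⟩ := Nat.dvd_of_mul_dvd_mul_right hs h1
  exact ⟨g ^ c, by rw [← pow_mul, mul_comm]⟩

theorem eq_one_of_sum (m : C → ℕ) (z : C → ℂ) (hz : ∀ u, ‖z u‖ = 1)
    (h : ∑ u, (m u : ℂ) * z u = ∑ u, (m u : ℂ)) (u : C) (hu : m u ≠ 0) : z u = 1 := by
  have h1 : ∑ u, (m u : ℝ) * (1 - (z u).re) = 0 := by
    have := congrArg Complex.re h
    simp only [Complex.re_sum, Complex.mul_re, Complex.natCast_re, Complex.natCast_im, zero_mul,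
      sub_zero] at this
    simp only [mul_sub, mul_one, sum_sub_distrib, this, sub_self]
  have h2 := (sum_eq_zero_iff_of_nonneg fun u _ => mul_nonneg (Nat.cast_nonneg _)
    (sub_nonneg.2 ((Complex.re_le_norm _).trans (hz u).le))).1 h1 u (mem_univ _)
  have h3 : (z u).re = 1 := by
    rcases mul_eq_zero.1 h2 with h | h
    · exact absurd (Nat.cast_eq_zero.1 h) hu
    · linarith
  have h4 := Complex.sq_norm (z u)
  rw [hz u, Complex.normSq_apply, h3] at h4
  have h5 : (z u).im = 0 := by nlinarith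
  exact Complex.ext h3 h5

end

section

variable {E : Type u} [Group E] [Finite E] {H : Subgroup E} [H.Normal] {r : ℕ}

theorem pow_notMem (hr : r.Prime) (hi : H.index = r) {y : E} (hy : y ∉ H) {k : ℕ} (hk : ¬ r ∣ k) :
    y ^ k ∉ H := by
  intro h
  haveI := Fact.mk hr
  have h1 : orderOf (QuotientGroup.mk' H y) = r := by
    refine orderOf_eq_prime ?_ fun e => hy ((QuotientGroup.eq_one_iff _).1 e)
    rw [← hi]; exact pow_card_eq_one'
  refine hk (h1 ▸ orderOf_dvd_of_pow_eq_one ?_)
  rw [← map_pow]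
  exact (QuotientGroup.eq_one_iff _).2 h

theorem coset (hr : r.Prime) (hi : H.index = r) {y : E} (hy : y ∉ H) (z : E) :
    ∃ (a : H) (i : ℤ), z = a * y ^ i := by
  haveI := Fact.mk hr
  have h1 : QuotientGroup.mk' H z ∈ Subgroup.zpowers (QuotientGroup.mk' H y) :=
    mem_zpowers_of_prime_card (p := r) hi fun e => hy ((QuotientGroup.eq_one_iff _).1 e)
  obtain ⟨i, hi⟩ := h1
  have h2 : QuotientGroup.mk' H (z * (y ^ i)⁻¹) = 1 := by
    rw [map_mul, map_inv, map_zpow]
    exact mul_inv_eq_one.2 hi.symm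
  exact ⟨⟨_, (QuotientGroup.eq_one_iff _).1 h2⟩, i, by simp⟩

end

end H55.KgvVL
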