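import Cfsg.Agent.H42.L3Kit
import Cfsg.Agent.H1.CoprimeGen

/-! `L₄(3)`, job F, part A: the centraliser of the involution, abstract form. -/

set_option autoImplicit false

namespace H55.L43

open Cfsg Subgroup H98 H56.L3 H42.L3

universe u

/-- indices of the six pairs of elements of order four -/
abbrev Ix := Bool × ZMod 3

/-- the shift -/
def sh (u v : ZMod 3) (m : Ix) : Ix := (m.1, m.2 + if m.1 then v else u)

/-- the commuting relation -/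
abbrev rel (m n : Ix) : Prop := m = n ∨ m.1 ≠ n.1

theorem rel_inj : ∀ m n : Ix, (∀ k, rel k m ↔ rel k n) → m = n := by decide

theorem sh_inj : ∀ u v : ZMod 3, (∀ m, sh u v m = m) → u = 0 ∧ v = 0 := by decide

set_option synthInstance.maxSize 4000 in
set_option synthInstance.maxHeartbeats 400000 in
theorem comb : ∀ g0 g1 : Ix, ¬ rel g0 g1 → ∀ g2, ¬ rel g0 g2 → ¬ rel g1 g2 → ∀ g3, rel g0 g3 →
    rel g1 g3 → ∀ g4, rel g0 g4 → rel g1 g4 → ¬ rel g3 g4 → ∀ g5, rel g0 g5 → rel g1 g5 →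
    ¬ rel g3 g5 → ¬ rel g4 g5 → ∃ u v, sh u v g0 = g1 ∧ sh u v g1 = g2 ∧ sh u v g2 = g0 ∧
      sh u v g3 = g3 ∧ sh u v g4 = g4 ∧ sh u v g5 = g5 ∧
      ∀ m, m = g0 ∨ m = g1 ∨ m = g2 ∨ m = g3 ∨ m = g4 ∨ m = g5 := by decide +kernel

theorem comb' (γ : Ix → Ix) (h : ∀ m n, rel (γ m) (γ n) ↔ rel m n) :
    ∃ u v, ∀ n, ∃ m, γ m = n ∧ γ (sh 1 0 m) = sh u v n := by
  obtain ⟨u, v, e0, e1, e2, e3, e4, e5, e⟩ := comb (γ (false, 0)) (γ (false, 1)) (by rw [h]; decide)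
    (γ (false, 2)) (by rw [h]; decide) (by rw [h]; decide) (γ (true, 0)) (by rw [h]; decide)
    (by rw [h]; decide) (γ (true, 1)) (by rw [h]; decide) (by rw [h]; decide) (by rw [h]; decide)
    (γ (true, 2)) (by rw [h]; decide) (by rw [h]; decide) (by rw [h]; decide) (by rw [h]; decide)
  refine ⟨u, v, fun n => ?_⟩
  rcases e n with rfl | rfl | rfl | rfl | rfl | rfl
  exacts [⟨_, rfl, e0.symm⟩, ⟨_, rfl, e1.symm⟩, ⟨_, rfl, e2.symm⟩, ⟨_, rfl, e3.symm⟩,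
    ⟨_, rfl, e4.symm⟩, ⟨_, rfl, e5.symm⟩]

theorem perm_cube {σ : Equiv.Perm (Fin 3)} {k : ℕ} (h : σ ^ 3 ^ k = 1) : σ ^ 3 = 1 := by
  have h6 : σ ^ 6 = 1 := (by decide +kernel : ∀ τ : Equiv.Perm (Fin 3), τ ^ 6 = 1) σ
  have h1 := orderOf_dvd_of_pow_eq_one h
  have h2 : orderOf σ ∣ 2 * 3 := orderOf_dvd_of_pow_eq_one h6
  exact orderOf_dvd_iff_pow_eq_one.1 (Nat.Coprime.dvd_of_dvd_mul_left
    (Nat.Coprime.coprime_dvd_left h1 (Nat.Coprime.pow_left k (by norm_num))) h2)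

variable {G : Type u} [Group G]

/-- equality up to the involution `t` -/
def pm (t x y : G) : Prop := x = y ∨ x = t * y

/-- The configuration. -/
structure Cf (H D : Subgroup G) (t : G) (a : Ix → G) (d : ZMod 3 → ZMod 3 → G)
    (π₁ π₂ : H →* Equiv.Perm (Fin 3)) : Prop where
  tt : t * t = 1
  HY : H ≤ Ce t
  DH : D ≤ H
  pD : IsPGroup 3 D
  ab : D ≤ cn D
  nc : ¬ IsCyclic D
  nD : Ce t ⊓ nr D ≤ H
  cD : ∀ x ∈ D, x ≠ 1 → Ce t ⊓ Ce x ≤ H
  memD : ∀ x, x ∈ D ↔ ∃ u v, x = d u v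
  d0 : d 0 0 = 1
  od : orderOf (d 1 0) = 3
  aH : ∀ m, a m ∈ H
  aa : ∀ m, a m * a m = t
  all : ∀ x ∈ H, x * x = t → ∃ m, pm t x (a m)
  cm : ∀ m n, Commute (a m) (a n) ↔ rel m n
  tr : ∀ m, ∃ h ∈ H, pm t (h * a (false, 0) * h⁻¹) (a m)
  act : ∀ u v m, pm t (d u v * a m * (d u v)⁻¹) (a (sh u v m))
  s₁ : Function.Surjective π₁
  s₂ : Function.Surjective π₂
  k₁ : ∀ h : H, (h : G) * h = t → π₁ h = 1
  k₂ : ∀ h : H, (h : G) * h = t → π₂ h = 1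
  o3 : ∀ h : H, (h : G) ∈ D → h ≠ 1 → orderOf (π₁ h) = 3 ∨ orderOf (π₂ h) = 3
  k4 : ∀ h : H, π₁ h = 1 → π₂ h = 1 → h ^ 4 = 1
  onto : ∀ σ₁ σ₂, σ₁ ^ 3 = 1 → σ₂ ^ 3 = 1 → ∃ h : H, (h : G) ∈ D ∧ π₁ h = σ₁ ∧ π₂ h = σ₂

theorem pm.refl (t x : G) : pm t x x := Or.inl rfl

theorem pm.symm {t x y : G} (tt : t * t = 1) (h : pm t x y) : pm t y x :=
  h.imp Eq.symm fun e => by rw [e, ← mul_assoc, tt, one_mul]

theorem pm.trans {t x y z : G} (tt : t * t = 1) (h : pm t x y) (k : pm t y z) : pm t x z := by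
  rcases h with rfl | rfl
  · exact k
  · rcases k with rfl | rfl
    · exact Or.inr rfl
    · exact Or.inl (by rw [← mul_assoc, tt, one_mul])

theorem pm.conj {t x y g : G} (hg : g ∈ Ce t) (h : pm t x y) :
    pm t (g * x * g⁻¹) (g * y * g⁻¹) :=
  h.imp (fun e => by rw [e]) fun e => by rw [e, ← conj_mul, mem_Ce'.1 hg]

theorem pm.comm {t x y c : G} (hc : Commute c t) (h : pm t x y) : Commute c x ↔ Commute c y := by
  rcases h with rfl | rfl
  · rfl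
  · exact ⟨fun h => by simpa using hc.inv_right.mul_right h, hc.mul_right⟩

theorem pm.mem {t x y : G} {N : Subgroup G} (ht : t ∈ N) (h : pm t x y) (hy : y ∈ N) : x ∈ N := by
  rcases h with rfl | rfl
  exacts [hy, mul_mem ht hy]

namespace Cf

variable {H D : Subgroup G} {t : G} {a : Ix → G} {d : ZMod 3 → ZMod 3 → G}
  {π₁ π₂ : H →* Equiv.Perm (Fin 3)} (c : Cf H D t a d π₁ π₂)
include c

theorem aY (m : Ix) : Commute (a m) t := mem_Ce.1 (c.HY (c.aH m))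

theorem inj {m n : Ix} (h : pm t (a m) (a n)) : m = n :=
  rel_inj m n fun k => by rw [← c.cm, ← c.cm, h.comm (c.aY k)]

variable [Finite G]

theorem syl : IsSyl 3 D (Ce t) := by
  refine isSyl_of_isSyl_normalizer ⟨le_inf (c.DH.trans c.HY) le_normalizer, c.pD,
    fun Q hQ h1 h2 => le_antisymm (fun y hy => ?_) h1⟩
  have yH := c.nD (h2 hy)
  obtain ⟨k, hk⟩ := isPGroup_iff_forall.1 hQ y hy
  have e : (⟨y, yH⟩ : H) ^ 3 ^ k = 1 := Subtype.ext hk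
  obtain ⟨x, hx, e1, e2⟩ := c.onto (π₁ ⟨y, yH⟩) (π₂ ⟨y, yH⟩)
    (perm_cube (k := k) (by rw [← map_pow, e, map_one]))
    (perm_cube (k := k) (by rw [← map_pow, e, map_one]))
  have h4 := congrArg Subtype.val (c.k4 (x⁻¹ * ⟨y, yH⟩) (by rw [map_mul, map_inv, e1, inv_mul_cancel])
    (by rw [map_mul, map_inv, e2, inv_mul_cancel]))
  obtain ⟨l, hl⟩ := isPGroup_iff_forall.1 hQ _ (mul_mem (inv_mem (h1 hx)) hy)
  have : (x : G)⁻¹ * y = 1 := orderOf_eq_one_iff.1 (Nat.eq_one_of_dvd_coprimes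
    ((by norm_num : Nat.Coprime 4 3).pow_right l)
    (orderOf_dvd_of_pow_eq_one h4) (orderOf_dvd_of_pow_eq_one hl))
  exact inv_mul_eq_one.1 this ▸ hx

theorem se {x g : G} (hx : x ∈ H) (ho : orderOf x = 3) (hg : g ∈ Ce t) (hy : g * x * g⁻¹ ∈ H) :
    g ∈ H := se_ab c.syl c.ab c.HY c.nD c.cD hx ho hg hy

theorem le_of {N : Subgroup G} (h1 : N ≤ Ce t) (h2 : D ≤ nr N) (h3 : D ⊓ N = ⊥) : N ≤ H := by
  have : IsMulCommutative D := le_centralizer_iff_isMulCommutative.1 c.ab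
  obtain ⟨k, hk⟩ := c.pD.exists_card_eq
  exact H1.le_of_noncyclic_centralizer_le c.nc h2
    (hk ▸ (coprime_of_inf c.syl h1 h2 h3).symm.pow_left k) H
    fun x hx x1 => (inf_le_inf_right _ h1).trans (c.cD x hx x1)

theorem conj_a {g : G} (hg : g ∈ Ce t) (m : Ix) : ∃ n, pm t (g * a m * g⁻¹) (a n) := by
  have key : ∀ π : H →* Equiv.Perm (Fin 3), Function.Surjective π →
      (∀ h : H, (h : G) * h = t → π h = 1) → ∃ N : Subgroup G, N ≤ Ce t ∧ Ce t ≤ nr N ∧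
        a (false, 0) ∈ N ∧ ∀ h : H, orderOf (π h) = 3 → (h : G) ∉ N := fun π s k =>
    bs_sub c.HY π s (fun x hx ho g hg hy => c.se hx ho hg hy) (c.HY (c.aH _))
      (by rw [c.aa, c.tt]) (by rw [c.aa]) fun g hg h e => by
        rw [k h (by rw [← e, conj_mul, c.aa, mem_Ce'.1 hg]), orderOf_one]; omega
  obtain ⟨N₁, a1, b1, c1, d1⟩ := key π₁ c.s₁ c.k₁
  obtain ⟨N₂, -, b2, c2, d2⟩ := key π₂ c.s₂ c.k₂
  have n := le_normalizer_inf b1 b2
  have le := c.le_of (N := N₁ ⊓ N₂) (inf_le_left.trans a1) ((c.DH.trans c.HY).trans n)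
    (eq_bot_iff.2 fun x hx => by
      by_contra x1
      rcases c.o3 ⟨x, c.DH hx.1⟩ hx.1 (fun e => x1 (congrArg Subtype.val e)) with e | e
      exacts [d1 _ e hx.2.1, d2 _ e hx.2.2])
  have a0 : a (false, 0) ∈ N₁ ⊓ N₂ := ⟨c1, c2⟩
  obtain ⟨h, hh, e⟩ := c.tr m
  have am : a m ∈ N₁ ⊓ N₂ := (e.symm c.tt).mem (c.aa (false, 0) ▸ mul_mem a0 a0)
    (conj_mem_of_mem_normalizer (n (c.HY hh)) a0)
  exact c.all _ (le (conj_mem_of_mem_normalizer (n hg) am)) (by rw [conj_mul, c.aa, mem_Ce'.1 hg])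

theorem cen_le : Ce t ≤ H := by
  let K : Subgroup G :=
    { carrier := {y | y ∈ Ce t ∧ ∀ m, pm t (y * a m * y⁻¹) (a m)}
      one_mem' := ⟨one_mem _, fun m => Or.inl (by simp)⟩
      mul_mem' := by
        rintro x y ⟨hx, h1⟩ ⟨hy, h2⟩
        refine ⟨mul_mem hx hy, fun m => ?_⟩
        have := ((h2 m).conj hx).trans c.tt (h1 m)
        convert this using 1; group
      inv_mem' := by
        rintro x ⟨hx, h1⟩
        refine ⟨inv_mem hx, fun m => ?_⟩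
        have := ((h1 m).conj (inv_mem hx)).symm c.tt
        convert this using 1; group }
  have nK : Ce t ≤ nr K := le_normalizer_iff.2 fun g hg y hy =>
    ⟨mul_mem (mul_mem hg hy.1) (inv_mem hg), fun m => by
      obtain ⟨n, e⟩ := c.conj_a (inv_mem hg) m
      have := (((e.conj hy.1).trans c.tt (hy.2 n)).trans c.tt (e.symm c.tt)).conj hg
      convert this using 1 <;> group⟩
  have KH : K ≤ H := c.le_of (fun y hy => hy.1) ((c.DH.trans c.HY).trans nK) (eq_bot_iff.2 (by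
    rintro x ⟨h1, h2⟩
    obtain ⟨u, v, rfl⟩ := (c.memD x).1 h1
    obtain ⟨rfl, rfl⟩ := sh_inj u v fun m => c.inj (((c.act u v m).symm c.tt).trans c.tt (h2.2 m))
    exact c.d0))
  intro g hg
  choose γ hγ using c.conj_a hg
  have dH : ∀ u v, d u v ∈ H := fun u v => c.DH ((c.memD _).2 ⟨u, v, rfl⟩)
  obtain ⟨u, v, e⟩ := comb' γ fun m n => by
    rw [← c.cm, ← c.cm, ← (hγ n).comm (c.aY _), Commute.symm_iff,
      ← (hγ m).comm (mem_Ce.1 (mul_mem (mul_mem hg (c.HY (c.aH n))) (inv_mem hg))),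
      Commute.symm_iff]
    exact ⟨fun h => by simpa [mul_assoc] using h.map (MulAut.conj g⁻¹), fun h => h.map (MulAut.conj g)⟩
  have hx := mul_mem (mul_mem hg (c.HY (dH 1 0))) (inv_mem hg)
  refine c.se (dH 1 0) c.od hg ((mul_mem_cancel_left (inv_mem (dH u v))).1
    (KH ⟨mul_mem (inv_mem (c.HY (dH u v))) hx, fun n => ?_⟩))
  obtain ⟨m, rfl, e⟩ := e n
  have h1 := ((hγ m).symm c.tt).conj hx
  have h2 := ((c.act 1 0 m).conj hg).trans c.tt (hγ _)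
  rw [e] at h2
  have h3 := (h1.trans c.tt (by convert h2 using 1; group)).trans c.tt ((c.act u v (γ m)).symm c.tt)
  have := h3.conj (inv_mem (c.HY (dH u v)))
  convert this using 1 <;> group

end Cf

end H55.L43
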