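import Cfsg.Agent.H55.L43A
import Cfsg.Agent.H42.L43K

/-! `L₄(3)`, job F, part B: the model of the centraliser of `diag(1, 1, -1, -1)`. -/

set_option autoImplicit false

namespace H55.L43

open Cfsg Subgroup H47.L43 Matrix

abbrev M2 := Matrix (Fin 2) (Fin 2) F3
abbrev M4 := Matrix (Fin 4) (Fin 4) F3

/-- block diagonal matrices -/
def bd (A B : M2) : M4 :=
  !![A 0 0, A 0 1, 0, 0; A 1 0, A 1 1, 0, 0; 0, 0, B 0 0, B 0 1; 0, 0, B 1 0, B 1 1]
/-- block antidiagonal matrices -/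
def ad (A B : M2) : M4 :=
  !![0, 0, A 0 0, A 0 1; 0, 0, A 1 0, A 1 1; B 0 0, B 0 1, 0, 0; B 1 0, B 1 1, 0, 0]

theorem bd_bd (A B C D : M2) : bd A B * bd C D = bd (A * C) (B * D) := by
  ext i j; fin_cases i <;> fin_cases j <;>
    simp [bd, Matrix.mul_apply, Fin.sum_univ_four, Fin.sum_univ_two]

theorem bd_ad (A B C D : M2) : bd A B * ad C D = ad (A * C) (B * D) := by
  ext i j; fin_cases i <;> fin_cases j <;>
    simp [bd, ad, Matrix.mul_apply, Fin.sum_univ_four, Fin.sum_univ_two]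

theorem ad_bd (A B C D : M2) : ad A B * bd C D = ad (A * D) (B * C) := by
  ext i j; fin_cases i <;> fin_cases j <;>
    simp [bd, ad, Matrix.mul_apply, Fin.sum_univ_four, Fin.sum_univ_two]

theorem ad_ad (A B C D : M2) : ad A B * ad C D = bd (A * D) (B * C) := by
  ext i j; fin_cases i <;> fin_cases j <;>
    simp [bd, ad, Matrix.mul_apply, Fin.sum_univ_four, Fin.sum_univ_two]

theorem det_bd (A B : M2) : (bd A B).det = A.det * B.det := by
  simp [bd, Matrix.det_succ_row_zero, Fin.sum_univ_succ, Fin.succAbove]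
  ring

theorem det_ad (A B : M2) : (ad A B).det = A.det * B.det := by
  simp [ad, Matrix.det_succ_row_zero, Fin.sum_univ_succ, Fin.succAbove]
  ring

/-- upper blocks -/
def top (h : M4) : M2 := !![h 0 0 + h 0 2, h 0 1 + h 0 3; h 1 0 + h 1 2, h 1 1 + h 1 3]
/-- lower blocks -/
def bot (h : M4) : M2 := !![h 2 0 + h 2 2, h 2 1 + h 2 3; h 3 0 + h 3 2, h 3 1 + h 3 3]

theorem top_bd (A B : M2) : top (bd A B) = A := by
  ext i j; fin_cases i <;> fin_cases j <;> simp [top, bd]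
theorem bot_bd (A B : M2) : bot (bd A B) = B := by
  ext i j; fin_cases i <;> fin_cases j <;> simp [bot, bd]
theorem top_ad (A B : M2) : top (ad A B) = A := by
  ext i j; fin_cases i <;> fin_cases j <;> simp [top, ad]
theorem bot_ad (A B : M2) : bot (ad A B) = B := by
  ext i j; fin_cases i <;> fin_cases j <;> simp [bot, ad]

theorem bd_inj {A B C D : M2} (h : bd A B = bd C D) : A = C ∧ B = D :=
  ⟨by rw [← top_bd A B, h, top_bd], by rw [← bot_bd A B, h, bot_bd]⟩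

/-- determinant in entries -/
def dt (A : M2) : F3 := A 0 0 * A 1 1 - A 0 1 * A 1 0

theorem dt_eq (A : M2) : A.det = dt A := Matrix.det_fin_two A

theorem dt_mul (A B : M2) : dt (A * B) = dt A * dt B := by simp only [← dt_eq, Matrix.det_mul]

/-- the cocycle `GL₂(3) → ℤ/3` -/
def chi (A : M2) : F3 := (A 0 0 + A 1 1 * dt A) * A 1 0 - A 0 1 * A 1 1 * (A 1 0 * A 1 0 - 1)

theorem all2 {P : M2 → Prop} (h : ∀ a b c d, P !![a, b; c, d]) (A : M2) : P A := by
  rw [Matrix.eta_fin_two A]; exact h _ _ _ _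

theorem chi_mul (A B : M2) : dt A ≠ 0 → dt B ≠ 0 → chi (A * B) = chi A + dt A * chi B := by
  revert A B
  refine all2 fun a b c d => all2 fun e f g h => ?_
  rw [Matrix.mul_fin_two]
  revert a b c d e f g h
  decide +kernel

/-- affine maps of `ℤ/3` -/
def aff (ε b : F3) : Equiv.Perm (Fin 3) :=
  Equiv.addRight (G := F3) b * if ε = 1 then 1 else Equiv.neg F3

theorem aff_mul : ∀ ε ε' b b' : F3, ε ≠ 0 → ε' ≠ 0 →
    aff (ε * ε') (b + ε * b') = aff ε b * aff ε' b' := by decide +kernel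

theorem aff_one : ∀ ε b : F3, aff ε b = 1 → ε = 1 ∧ b = 0 := by decide +kernel

theorem aff_surj : ∀ σ, ∃ b, σ = aff 1 b ∨ σ = aff (-1) b := by decide +kernel

theorem aff_onto : ∀ σ₁ σ₂, σ₁ ^ 3 = 1 → σ₂ ^ 3 = 1 →
    ∃ u v, aff 1 (u + 1 * v) = σ₁ ∧ aff 1 (u + -1 * v) = σ₂ := by decide +kernel

theorem aff_ord : ∀ b : F3, b ≠ 0 → aff 1 b ^ 3 = 1 ∧ aff 1 b ≠ 1 := by decide +kernel

/-- the two maps onto `S₃` -/
def pf (δ : F3) (h : M4) : Equiv.Perm (Fin 3) :=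
  aff (dt (top h) * if h 0 0 = 0 ∧ h 0 1 = 0 then δ else 1) (chi (top h) + δ * chi (bot h))

theorem pf_bd (δ : F3) {A : M2} (B : M2) (h : dt A ≠ 0) :
    pf δ (bd A B) = aff (dt A) (chi A + δ * chi B) := by
  rw [pf, top_bd, bot_bd, if_neg, mul_one]
  rintro ⟨h0, h1⟩
  change A 0 0 = 0 at h0
  change A 0 1 = 0 at h1
  exact h (by rw [dt, h0, h1]; simp)

theorem pf_ad (δ : F3) (A B : M2) : pf δ (ad A B) = aff (dt A * δ) (chi A + δ * chi B) := by
  rw [pf, top_ad, bot_ad, if_pos ⟨rfl, rfl⟩]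

/-- block matrices of determinant one -/
def Blk (h : M4) : Prop := ∃ A B, dt A ≠ 0 ∧ dt B = dt A ∧ (h = bd A B ∨ h = ad A B)

theorem pf_mul {δ : F3} (hδ : δ * δ = 1) {h k : M4} (h1 : Blk h) (h2 : Blk k) :
    pf δ (h * k) = pf δ h * pf δ k := by
  obtain ⟨A, B, a1, b1, e1⟩ := h1
  obtain ⟨C, D, a2, b2, e2⟩ := h2
  have d0 : δ ≠ 0 := by rintro rfl; revert hδ; decide
  have b1' : dt B ≠ 0 := b1 ▸ a1
  have b2' : dt D ≠ 0 := b2 ▸ a2
  have : Fact (Nat.Prime 3) := ⟨Nat.prime_three⟩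
  rcases e1 with rfl | rfl <;> rcases e2 with rfl | rfl
  · rw [bd_bd, pf_bd _ _ (dt_mul A C ▸ mul_ne_zero a1 a2), pf_bd _ _ a1, pf_bd _ _ a2,
      ← aff_mul _ _ _ _ a1 a2, dt_mul, chi_mul _ _ a1 a2, chi_mul _ _ b1' b2', b1]
    congr 1; ring
  · rw [bd_ad, pf_ad, pf_bd _ _ a1, pf_ad, ← aff_mul _ _ _ _ a1 (mul_ne_zero a2 d0), dt_mul,
      chi_mul _ _ a1 a2, chi_mul _ _ b1' b2', b1]
    congr 1 <;> ring
  · rw [ad_bd, pf_ad, pf_ad, pf_bd _ _ a2, ← aff_mul _ _ _ _ (mul_ne_zero a1 d0) a2, dt_mul,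
      chi_mul _ _ a1 b2', chi_mul _ _ b1' a2, b1, b2]
    congr 1
    · ring
    · linear_combination (-dt A * chi D) * hδ
  · rw [ad_ad, pf_bd _ _ (dt_mul A D ▸ mul_ne_zero a1 b2'), pf_ad, pf_ad,
      ← aff_mul _ _ _ _ (mul_ne_zero a1 d0) (mul_ne_zero a2 d0), dt_mul,
      chi_mul _ _ a1 b2', chi_mul _ _ b1' a2, b1, b2]
    congr 1
    · linear_combination (-dt A * dt C) * hδ
    · linear_combination (-dt A * chi D) * hδ

/-- the involution -/
abbrev TT : SL4 := t3.1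

theorem TT_val : TT.1 = bd 1 (-1) := by decide +kernel

theorem TT_neg : -TT.1 = bd (-1) 1 := by decide +kernel

theorem blk_of (h : SL4) (e : h.1 * TT.1 = TT.1 * h.1 ∨ h.1 * TT.1 = -(TT.1 * h.1)) : Blk h.1 := by
  have hd := h.2
  have z : ∀ x : F3, x = -x → x = 0 := by decide
  have z' : ∀ x : F3, -x = x → x = 0 := by decide
  have key : h.1 = bd (top h.1) (bot h.1) ∨ h.1 = ad (top h.1) (bot h.1) := by
    generalize h.1 = A at e
    have v : TT.1 = !![1, 0, 0, 0; 0, 1, 0, 0; 0, 0, -1, 0; 0, 0, 0, -1] := rfl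
    rw [v] at e
    refine e.imp (fun e => ?_) fun e => ?_
    · have a1 := congrFun₂ e 0 2; have a2 := congrFun₂ e 0 3; have a3 := congrFun₂ e 1 2
      have a4 := congrFun₂ e 1 3; have a5 := congrFun₂ e 2 0; have a6 := congrFun₂ e 2 1
      have a7 := congrFun₂ e 3 0; have a8 := congrFun₂ e 3 1
      simp [Matrix.mul_apply, Fin.sum_univ_four] at a1 a2 a3 a4 a5 a6 a7 a8
      ext i j; fin_cases i <;> fin_cases j <;>
        simp [bd, top, bot, z' _ a1, z' _ a2, z' _ a3, z' _ a4, z _ a5, z _ a6, z _ a7, z _ a8]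
    · have a1 := congrFun₂ e 0 0; have a2 := congrFun₂ e 0 1; have a3 := congrFun₂ e 1 0
      have a4 := congrFun₂ e 1 1; have a5 := congrFun₂ e 2 2; have a6 := congrFun₂ e 2 3
      have a7 := congrFun₂ e 3 2; have a8 := congrFun₂ e 3 3
      rw [Matrix.neg_apply] at a1 a2 a3 a4 a5 a6 a7 a8
      simp [Matrix.mul_apply, Fin.sum_univ_four] at a1 a2 a3 a4 a5 a6 a7 a8
      ext i j; fin_cases i <;> fin_cases j <;>
        simp [ad, top, bot, z _ a1, z _ a2, z _ a3, z _ a4, z' _ a5, z' _ a6, z' _ a7, z' _ a8]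
  have d : dt (top h.1) * dt (bot h.1) = 1 := by
    rcases key with e | e <;> rw [e] at hd
    · rwa [det_bd, dt_eq, dt_eq] at hd
    · rwa [det_ad, dt_eq, dt_eq] at hd
  have := (by decide : ∀ x y : F3, x * y = 1 → x ≠ 0 ∧ y = x) _ _ d
  exact ⟨_, _, this.1, this.2, key⟩

theorem four_of {h : M4} (b : Blk h) (h1 : pf 1 h = 1) (h2 : pf (-1) h = 1) :
    h * h * (h * h) = 1 := by
  obtain ⟨A, B, a1, b1, rfl | rfl⟩ := b
  · rw [pf_bd _ _ a1] at h1 h2
    obtain ⟨e1, e2⟩ := aff_one _ _ h1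
    obtain ⟨-, e3⟩ := aff_one _ _ h2
    have k : ∀ A : M2, dt A = 1 → chi A = 0 → A * A * (A * A) = 1 := all2 (by decide +kernel)
    have := (by decide : ∀ x y : F3, x + 1 * y = 0 → x + -1 * y = 0 → x = 0 ∧ y = 0) _ _ e2 e3
    rw [bd_bd, bd_bd, k A e1 this.1, k B (b1.trans e1) this.2]
    decide +kernel
  · rw [pf_ad] at h1 h2
    exact absurd (aff_one _ _ h2).1
      ((by decide : ∀ x : F3, x * 1 = 1 → x * -1 ≠ 1) _ (aff_one _ _ h1).1)

/-- representatives of the elements of order four of `Q₈` -/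
def q (p : F3) : M2 := if p = 0 then !![0, 1; -1, 0] else if p = 1 then !![-1, -1; -1, 1]
  else !![1, -1; -1, -1]

/-- the six elements -/
def aM (m : Ix) : M4 := if m.1 then bd 1 (q m.2) else bd (q m.2) 1

theorem aM_det : ∀ m, (aM m).det = 1 := by
  rintro ⟨b, p⟩
  cases b <;> simp only [aM, if_true, if_false, Bool.false_eq_true, det_bd, dt_eq] <;> revert p <;>
    decide

/-- the six elements in `SL₄(3)` -/
def aS (m : Ix) : SL4 := ⟨aM m, aM_det m⟩

/-- equality up to `± 1`, `± T` -/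
abbrev pq (x y : M4) : Prop := x = y ∨ x = -y ∨ x = TT.1 * y ∨ x = -(TT.1 * y)

theorem sq_of {h : M4} (b : Blk h) (e : h * h = TT.1 ∨ h * h = -TT.1) : ∃ m, pq h (aM m) := by
  obtain ⟨A, B, a1, b1, rfl | rfl⟩ := b
  · have k1 : ∀ A : M2, A * A = -1 → dt A = 1 ∧ ∃ p, A = q p ∨ A = -q p := all2 (by decide +kernel)
    have k2 : ∀ A : M2, A * A = 1 → dt A = 1 → A = 1 ∨ A = -1 := all2 (by decide +kernel)
    rw [bd_bd, TT_neg, TT_val] at e
    rcases e with e | e <;> obtain ⟨e1, e2⟩ := bd_inj e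
    · obtain ⟨d, p, e3⟩ := k1 B e2
      refine ⟨(true, p), ?_⟩
      rcases k2 A e1 (b1.symm.trans d) with rfl | rfl <;> rcases e3 with rfl | rfl <;>
        clear * - p <;> revert p <;> decide +kernel
    · obtain ⟨d, p, e3⟩ := k1 A e1
      refine ⟨(false, p), ?_⟩
      rcases k2 B e2 (b1.trans d) with rfl | rfl <;> rcases e3 with rfl | rfl <;>
        clear * - p <;> revert p <;> decide +kernel
  · exfalso
    rw [ad_ad, TT_neg, TT_val] at e
    have k : ∀ A B : M2, A * B = 1 → B * A ≠ -1 := fun A B h1 h2 => by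
      rw [mul_eq_one_comm.1 h1] at h2
      revert h2; decide +kernel
    rcases e with e | e <;> obtain ⟨e1, e2⟩ := bd_inj e
    exacts [k _ _ e1 e2, k _ _ e2 e1]

theorem pf_pq : ∀ (δ : F3) (m : Ix), pf δ (aM m) = 1 ∧ pf δ (-aM m) = 1 ∧ pf δ (TT.1 * aM m) = 1 ∧
    pf δ (-(TT.1 * aM m)) = 1 := by decide +kernel

theorem pf_neg : ∀ δ : F3, pf δ 1 = 1 ∧ pf δ (-1) = 1 := by decide +kernel

theorem pf_up : ∀ δ u v : F3, pf δ (up u 0 0 0 0 v).1 = aff 1 (u + δ * v) := by decide +kernel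

theorem aM_sq : ∀ m, aM m * aM m = TT.1 ∨ aM m * aM m = -TT.1 := by decide +kernel

theorem aM_T : ∀ m, aM m * TT.1 = TT.1 * aM m := by decide +kernel

theorem aM_comm : ∀ m n, (rel m n → aM m * aM n = aM n * aM m) ∧ (¬ rel m n →
    aM m * aM n = TT.1 * (aM n * aM m) ∨ aM m * aM n = -(TT.1 * (aM n * aM m))) := by
  decide +kernel

theorem aM_act : ∀ u v m, pq ((up u 0 0 0 0 v).1 * aM m * (up (-u) 0 0 0 0 (-v)).1)
    (aM (sh u v m)) := by decide +kernel

/-- the interchange of the two blocks -/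
def om : SL4 := ⟨ad 1 1, by rw [det_ad]; simp⟩

theorem om_sq : om * om = 1 := by decide +kernel

theorem om_T : om.1 * TT.1 = -(TT.1 * om.1) := by decide +kernel

theorem om_a : ∀ p, om.1 * aM (false, p) * om.1 = aM (true, p) := by decide +kernel

theorem om_up : ∀ u v, om * up u 0 0 0 0 v * om = up v 0 0 0 0 u := by decide +kernel

theorem up_T : ∀ u v, (up u 0 0 0 0 v).1 * TT.1 = TT.1 * (up u 0 0 0 0 v).1 := by decide +kernel

/-- `diag(1, -1, 1, -1)` -/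
def dg : SL4 := ⟨bd !![1, 0; 0, -1] !![1, 0; 0, -1], by rw [det_bd]; simp⟩

theorem dg_T : dg.1 * TT.1 = TT.1 * dg.1 := by decide +kernel

theorem pf_dg : ∀ δ b : F3, pf δ (up b 0 0 0 0 0 * dg).1 = aff (-1) b := by decide +kernel

end H55.L43
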