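import Cfsg.Agent.H55.L43B
import Cfsg.Agent.H57.SLGen
import Cfsg.Agent.S3220

/-! `L₄(3)`, job F, part C: `jobF`. -/

set_option autoImplicit false

namespace H55.L43

open Cfsg Subgroup H98 H56.L3 H42.L3 H47.L43 H42.L43

universe u

variable {G : Type u} [Group G] {φ : PP →* G} {ψ : SL4 →* G}

theorem psi_iff (he : Ext φ ψ) {x y : SL4} : ψ x = ψ y ↔ x.1 = y.1 ∨ x.1 = -y.1 := by
  rw [← mul_inv_eq_one, ← map_inv, ← map_mul, he.ker]
  have e : (x * y⁻¹).1 * y.1 = x.1 := by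
    rw [← Matrix.SpecialLinearGroup.coe_mul, inv_mul_cancel_right]
  have e' : y.1 * (y⁻¹).1 = 1 := by
    rw [← Matrix.SpecialLinearGroup.coe_mul, mul_inv_cancel]; rfl
  refine or_congr ⟨fun h => by rw [← e, h, one_mul], fun h => ?_⟩
    ⟨fun h => by rw [← e, h, neg_mul, one_mul], fun h => ?_⟩
  · rw [Matrix.SpecialLinearGroup.coe_mul, h, e']
  · rw [Matrix.SpecialLinearGroup.coe_mul, h, neg_mul, e']

theorem mem_Y (he : Ext φ ψ) {h : SL4} :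
    ψ h ∈ Ce (ψ TT) ↔ h.1 * TT.1 = TT.1 * h.1 ∨ h.1 * TT.1 = -(TT.1 * h.1) := by
  rw [mem_Ce, ← map_mul, ← map_mul, psi_iff he]; rfl

theorem pm_of (he : Ext φ ψ) {h k : SL4} (e : pq h.1 k.1) : pm (ψ TT) (ψ h) (ψ k) := by
  rcases e with e | e | e | e
  exacts [Or.inl ((psi_iff he).2 (Or.inl e)), Or.inl ((psi_iff he).2 (Or.inr e)),
    Or.inr (map_mul ψ _ _ ▸ (psi_iff he).2 (Or.inl e)),
    Or.inr (map_mul ψ _ _ ▸ (psi_iff he).2 (Or.inr e))]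

theorem exists_pi (he : Ext φ ψ) {δ : F3} (hδ : δ * δ = 1) :
    ∃ π : (Ce (ψ TT) ⊓ ψ.range : Subgroup G) →* Equiv.Perm (Fin 3),
      ∀ (h : SL4) (x : (Ce (ψ TT) ⊓ ψ.range : Subgroup G)), (x : G) = ψ h → π x = pf δ h.1 := by
  let f : (Ce (ψ TT)).comap ψ →* (Ce (ψ TT) ⊓ ψ.range : Subgroup G) :=
    (ψ.comp (Subgroup.subtype _)).codRestrict _ fun h => ⟨h.2, h.1, rfl⟩
  have hf : Function.Surjective f := by
    rintro ⟨_, hx, h, rfl⟩
    exact ⟨⟨h, hx⟩, rfl⟩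
  let g : (Ce (ψ TT)).comap ψ →* Equiv.Perm (Fin 3) := MonoidHom.mk' (fun h => pf δ h.1.1)
    fun h k => pf_mul hδ (blk_of _ ((mem_Y he).1 h.2)) (blk_of _ ((mem_Y he).1 k.2))
  have hk : f.ker ≤ g.ker := fun h hh => by
    show pf δ h.1.1 = 1
    rcases (he.ker h.1).1 (congrArg Subtype.val hh) with e | e <;> rw [e]
    exacts [(pf_neg δ).1, (pf_neg δ).2]
  refine ⟨f.liftOfSurjective hf ⟨g, hk⟩, fun h x e => ?_⟩
  have : x = f ⟨h, (e ▸ x.2.1 : ψ h ∈ Ce (ψ TT))⟩ := Subtype.ext e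
  rw [this]
  exact f.liftOfRightInverse_comp_apply _ _ ⟨g, hk⟩ _

/-- the group `D = ⟨e₁₂, e₃₄⟩` -/
def dd (φ : PP →* G) : Multiplicative (F3 × F3) →* G :=
  MonoidHom.mk' (fun x => s φ x.toAdd.1 0 0 0 0 x.toAdd.2) fun x y => by rw [s_mul]; simp

theorem mem_dd {x : G} : x ∈ (dd φ).range ↔ ∃ u v, x = s φ u 0 0 0 0 v :=
  ⟨fun ⟨_, e⟩ => ⟨_, _, e.symm⟩, fun ⟨u, v, e⟩ => ⟨Multiplicative.ofAdd (u, v), e.symm⟩⟩

theorem s_psi (he : Ext φ ψ) (a b c d e f : F3) : s φ a b c d e f = ψ (up a b c d e f) :=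
  (he.ext (uP a b c d e f)).symm

theorem range_le (he : Ext φ ψ) : φ.range ≤ ψ.range := by
  rintro _ ⟨p, rfl⟩; exact ⟨p, he.ext p⟩

theorem om_inv : om⁻¹ = om := inv_eq_of_mul_eq_one_right om_sq

theorem om_s (he : Ext φ ψ) (u v : F3) :
    ψ om * s φ u 0 0 0 0 v * (ψ om)⁻¹ = s φ v 0 0 0 0 u := by
  rw [s_psi he, s_psi he, ← map_inv, om_inv, ← map_mul, ← map_mul, om_up]

theorem z_conj : IsConj (zz φ) (s φ 1 0 0 0 0 0) := by
  refine isConj_iff.2 ⟨φ n2 * φ n3, ?_⟩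
  rw [show ∀ x, φ n2 * φ n3 * x * (φ n2 * φ n3)⁻¹ = φ n2 * (φ n3 * x * (φ n3)⁻¹) * (φ n2)⁻¹ from
    fun x => by group, s_n3, s_n2]
  simp

theorem cf (hl : HL φ) (fx : Fx φ) (he : Ext φ ψ) (cu : CU φ ψ.range)
    {π₁ π₂ : (Ce (ψ TT) ⊓ ψ.range : Subgroup G) →* Equiv.Perm (Fin 3)}
    (h₁ : ∀ (h : SL4) (x : (Ce (ψ TT) ⊓ ψ.range : Subgroup G)), (x : G) = ψ h → π₁ x = pf 1 h.1)
    (h₂ : ∀ (h : SL4) (x : (Ce (ψ TT) ⊓ ψ.range : Subgroup G)), (x : G) = ψ h → π₂ x = pf (-1) h.1) :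
    Cf (Ce (ψ TT) ⊓ ψ.range) (dd φ).range (ψ TT) (fun m => ψ (aS m))
      (fun u v => s φ u 0 0 0 0 v) π₁ π₂ := by
  have dH : ∀ u v, s φ u 0 0 0 0 v ∈ Ce (ψ TT) ⊓ ψ.range := fun u v =>
    s_psi he .. ▸ ⟨(mem_Y he).2 (Or.inl (up_T u v)), _, rfl⟩
  have omH : ψ om ∈ Ce (ψ TT) ⊓ ψ.range := ⟨(mem_Y he).2 (Or.inr om_T), _, rfl⟩
  have omR : ψ om ∈ ψ.range := ⟨_, rfl⟩
  have dgH : ψ dg ∈ Ce (ψ TT) ⊓ ψ.range := ⟨(mem_Y he).2 (Or.inl dg_T), _, rfl⟩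
  have tt : ψ TT * ψ TT = 1 := by
    rw [← map_mul, he.ker]; exact Or.inl (by decide +kernel)
  have t1 : ψ TT ≠ 1 := by rw [Ne, he.ker]; decide +kernel
  have ne1 : ∀ u v, s φ u 0 0 0 0 v ≠ 1 ↔ u ≠ 0 ∨ v ≠ 0 := fun u v => by
    rw [Ne, s_eq_one hl.inj]; tauto
  have nE : ∀ u, u ≠ 0 → ∀ g v, g * s φ u 0 0 0 0 0 * g⁻¹ = s φ v 0 0 0 0 0 → g ∈ ψ.range :=
    fun u hu g v e => range_le he (fx.nE _ ⟨u, 0, 0, rfl⟩ ((ne1 u 0).2 (Or.inl hu)) g ⟨v, 0, 0, e⟩)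
  have n2s : ∀ u v, φ n2 * s φ u 0 0 0 0 v * (φ n2)⁻¹ = s φ 0 (-u) 0 0 v 0 := fun u v => by
    rw [s_n2, neg_zero]
  have r2 : ∀ u v : F3, u ≠ 0 → v ≠ 0 → -u * v - 0 * 0 ≠ 0 := by decide
  have act : ∀ u v m, pm (ψ TT) (s φ u 0 0 0 0 v * ψ (aS m) * (s φ u 0 0 0 0 v)⁻¹)
      (ψ (aS (sh u v m))) := fun u v m => by
    have e : (s φ u 0 0 0 0 v)⁻¹ = s φ (-u) 0 0 0 0 (-v) := by rw [s_inv]; simp
    rw [e, s_psi he, s_psi he, ← map_mul, ← map_mul]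
    exact pm_of he (aM_act u v m)
  have all : ∀ h : SL4, ψ h ∈ Ce (ψ TT) → ψ h * ψ h = ψ TT → ∃ m, pq h.1 (aM m) := fun h hh e =>
    sq_of (blk_of h ((mem_Y he).1 hh)) ((psi_iff he).1 ((map_mul ψ h h).trans e))
  have sj : ∀ (δ : F3) (π : (Ce (ψ TT) ⊓ ψ.range : Subgroup G) →* Equiv.Perm (Fin 3)),
      (∀ (h : SL4) (x : (Ce (ψ TT) ⊓ ψ.range : Subgroup G)), (x : G) = ψ h → π x = pf δ h.1) →
      Function.Surjective π ∧ ∀ h : (Ce (ψ TT) ⊓ ψ.range : Subgroup G),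
        (h : G) * h = ψ TT → π h = 1 := fun δ π hπ => by
    refine ⟨fun σ => ?_, ?_⟩
    · obtain ⟨b, e | e⟩ := aff_surj σ
      · exact ⟨⟨_, dH b 0⟩, by rw [hπ _ _ (s_psi he ..), pf_up, e]; simp⟩
      · exact ⟨⟨_, mul_mem (dH b 0) dgH⟩, by
          rw [hπ (up b 0 0 0 0 0 * dg) _ (by rw [map_mul, ← s_psi he]), pf_dg, e]⟩
    · rintro ⟨_, hx, h, rfl⟩ e
      obtain ⟨m, e⟩ := all h hx e
      rw [hπ h _ rfl]
      obtain ⟨e1, e2, e3, e4⟩ := pf_pq δ m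
      rcases e with e | e | e | e <;> rw [e]
      exacts [e1, e2, e3, e4]
  refine ⟨tt, inf_le_left, ?_, ?_, ?_, ?_, ?_, ?_, fun x => mem_dd, s_zero φ, ?_,
    fun m => ⟨(mem_Y he).2 (Or.inl (aM_T m)), _, rfl⟩, fun m => ?_, ?_, fun m n => ?_, ?_, act,
    (sj _ _ h₁).1, (sj _ _ h₂).1, (sj _ _ h₁).2, (sj _ _ h₂).2, ?_, ?_, fun σ₁ σ₂ e1 e2 => ?_⟩
  · rintro _ ⟨x, rfl⟩; exact dH _ _
  · refine isPGroup_iff_forall.2 fun x hx => ⟨1, ?_⟩
    obtain ⟨u, v, rfl⟩ := mem_dd.1 hx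
    rw [pow_one, s_cube]; simpa using s_zero φ
  · rintro _ ⟨x, rfl⟩ _ ⟨y, rfl⟩
    rw [← map_mul, ← map_mul, mul_comm]
  · intro hc
    have inj : Function.Injective (dd φ) := fun x y e => by
      have := (s_inj hl.inj).1 e
      exact Prod.ext this.1 this.2.2.2.2.2
    have := isCyclic_of_surjective _ (MonoidHom.ofInjective inj).symm.surjective
    obtain ⟨g, hg⟩ := this.exists_generator
    have h3 : g ^ 3 = 1 := (by decide : ∀ g : Multiplicative (F3 × F3), g ^ 3 = 1) g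
    have := orderOf_le_of_pow_eq_one (by norm_num) h3
    rw [orderOf_eq_card_of_forall_mem_zpowers hg] at this
    simp at this
  · rintro g ⟨hg, hn⟩
    refine ⟨hg, ?_⟩
    obtain ⟨u, v, e⟩ := mem_dd.1 (conj_mem_of_mem_normalizer hn (mem_dd.2 ⟨1, 0, rfl⟩))
    by_cases hv : v = 0
    · exact nE 1 one_ne_zero g u (hv ▸ e)
    by_cases hu : u = 0
    · refine (mul_mem_cancel_left omR).1 (nE 1 one_ne_zero _ v ?_)
      rw [hu] at e
      rw [← om_s he 0 v, ← e]; group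
    · refine absurd (z_conj.trans (isConj_iff.2 ⟨φ n2 * g, ?_⟩)) (fx.uz _ _ _ _ (r2 u v hu hv))
      rw [← n2s, ← e]; group
  · rintro x hx x1 g ⟨hg, hc⟩
    refine ⟨hg, ?_⟩
    obtain ⟨u, v, rfl⟩ := mem_dd.1 hx
    by_cases hv : v = 0
    · subst hv
      exact nE u (((ne1 u 0).1 x1).resolve_right fun h => h rfl) g u (mem_Ce'.1 hc)
    by_cases hu : u = 0
    · subst hu
      have := nE v hv _ v (mem_Ce'.1 (om_s he 0 v ▸ conj_mem_Ce hc (ψ om)))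
      exact (mul_mem_cancel_left omR).1 ((mul_mem_cancel_right (inv_mem omR)).1 this)
    · have := cu _ _ _ _ (r2 u v hu hv) (n2s u v ▸ conj_mem_Ce hc (φ n2))
      have m : φ n2 ∈ ψ.range := range_le he ⟨_, rfl⟩
      exact (mul_mem_cancel_left m).1 ((mul_mem_cancel_right (inv_mem m)).1 this)
  · exact orderOf_eq_prime (by rw [s_cube]; simpa using s_zero φ) ((ne1 1 0).2 (Or.inl one_ne_zero))
  · rw [← map_mul]; exact (psi_iff he).2 (aM_sq m)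
  · rintro _ ⟨hx, h, rfl⟩ e
    obtain ⟨m, e⟩ := all h hx e
    exact ⟨m, pm_of he e⟩
  · refine ⟨fun h => by_contra fun hn => t1 ?_, fun h => ?_⟩
    · have : ψ (aS m * aS n) = ψ (TT * (aS n * aS m)) := (psi_iff he).2 ((aM_comm m n).2 hn)
      rw [map_mul, map_mul, map_mul, h.eq, right_eq_mul] at this
      exact this
    · show _ = _
      rw [← map_mul, ← map_mul]
      exact (psi_iff he).2 (Or.inl ((aM_comm m n).1 h))
  · rintro ⟨b, p⟩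
    have e := act p 0 (false, 0)
    rw [show sh p 0 (false, 0) = (false, p) by simp [sh]] at e
    cases b
    · exact ⟨_, dH p 0, e⟩
    · refine ⟨_, mul_mem omH (dH p 0), ?_⟩
      have e2 : ψ om * ψ (aS (false, p)) * (ψ om)⁻¹ = ψ (aS (true, p)) := by
        rw [← map_inv, om_inv, ← map_mul, ← map_mul]
        exact (psi_iff he).2 (Or.inl (om_a p))
      have := e.conj omH.1
      rw [e2] at this
      convert this using 1; group
  · intro h hx h1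
    obtain ⟨u, v, e⟩ := mem_dd.1 hx
    have := (ne1 u v).1 fun e' => h1 (Subtype.ext (e.trans e'))
    rw [h₁ _ _ (e.trans (s_psi he ..)), h₂ _ _ (e.trans (s_psi he ..)), pf_up, pf_up]
    exact ((by decide : ∀ u v : F3, u ≠ 0 ∨ v ≠ 0 → u + 1 * v ≠ 0 ∨ u + -1 * v ≠ 0) u v this).imp
      (fun h => orderOf_eq_prime (aff_ord _ h).1 (aff_ord _ h).2)
      fun h => orderOf_eq_prime (aff_ord _ h).1 (aff_ord _ h).2
  · rintro ⟨_, hx, h, rfl⟩ e1 e2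
    rw [h₁ h _ rfl] at e1
    rw [h₂ h _ rfl] at e2
    refine Subtype.ext ?_
    show ψ h ^ 4 = 1
    rw [← map_pow, he.ker, show h ^ 4 = h * h * (h * h) by simp [pow_succ, mul_assoc]]
    exact Or.inl (four_of (blk_of h ((mem_Y he).1 hx)) e1 e2)
  · obtain ⟨u, v, k1, k2⟩ := aff_onto σ₁ σ₂ e1 e2
    exact ⟨⟨_, dH u v⟩, mem_dd.2 ⟨u, v, rfl⟩, by rw [h₁ _ _ (s_psi he ..), pf_up, k1],
      by rw [h₂ _ _ (s_psi he ..), pf_up, k2]⟩

theorem no_index_two [Finite G] (hl : HL φ) (fx : Fx φ) (he : Ext φ ψ) (K : Subgroup G) :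
    K.index ≠ 2 := fun hK => by
  have := K.normal_of_index_eq_two hK
  have le : ψ.range ≤ K := by
    rw [ψ.range_eq_map, ← H57.sl_commutator_eq_top_of_three_le (ι := Fin 4) (F := F3) (by simp),
      commutator_def, map_commutator, commutator_le]
    intro x _ y _
    rw [commutatorElement_def, mul_mem_iff_of_index_two hK, inv_mem_iff, Normal.mem_comm_iff this,
      inv_mul_cancel_left]
  have pS : IsPGroup 3 (SS φ) := isPGroup_iff_forall.2 (by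
    rintro _ ⟨a, b, c, d, e, f, rfl⟩
    exact ⟨2, by rw [show 3 ^ 2 = 3 * 3 from rfl, pow_mul, s_cube, s_cube]; simpa using s_zero φ⟩)
  have SK : SS φ ≤ K := by
    rintro _ ⟨a, b, c, d, e, f, rfl⟩
    exact le (range_le he (s_mem ..))
  have syl : IsSyl 3 (SS φ) K :=
    (isSyl_of_not_dvd_relIndex le_top pS (by rw [relIndex_top_right]; exact fx.syl)).of_le SK le_top
  have fr := syl.frattini le_top (le_normalizer_of_normal)
  have nS : ⊤ ⊓ normalizer (SS φ : Set G) ≤ K := fun g hg => by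
    obtain ⟨a, b, c, d, e, f, k⟩ := conj_mem_of_mem_normalizer hg.2 (⟨0, 0, 1, 0, 0, 0, rfl⟩ : zz φ ∈ SS φ)
    have cz : ∀ x ∈ SS φ, s φ a b c d e f * x = x * s φ a b c d e f := fun x hx => by
      obtain ⟨a', b', c', d', e', f', k'⟩ := conj_mem_of_mem_normalizer' hg.2 hx
      have : zz φ * (g⁻¹ * x * g) = g⁻¹ * x * g * zz φ := by rw [k', s_mul, s_mul]; simp [add_comm]
      calc _ = g * (zz φ * (g⁻¹ * x * g)) * g⁻¹ := by rw [← k]; group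
        _ = _ := by rw [this, ← k]; group
    have c1 := cz _ ⟨1, 0, 0, 0, 0, 0, rfl⟩
    have c2 := cz _ ⟨0, 0, 0, 0, 0, 1, rfl⟩
    have c3 := cz _ ⟨0, 0, 0, 1, 0, 0, rfl⟩
    rw [s_mul, s_mul, s_inj hl.inj] at c1 c2 c3
    simp at c1 c2 c3
    refine le (range_le he (fx.nE (zz φ) ⟨0, 0, 1, rfl⟩ (by rw [Ne, s_eq_one hl.inj]; simp) g
      ⟨a, b, c, ?_⟩))
    rw [k, c1.2.1, c1.2.2, c3.2.2]
  rw [sup_eq_right.2 nS] at fr
  rw [fr, index_top] at hK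
  omega

theorem jobF : JobF.{u} := by
  intro G _ _ φ ψ hl fx he cu
  obtain ⟨π₁, h₁⟩ := exists_pi he (δ := 1) (by decide)
  obtain ⟨π₂, h₂⟩ := exists_pi he (δ := -1) (by decide)
  have c := cf hl fx he cu h₁ h₂
  have Y := c.cen_le
  have ot : orderOf (ψ TT) = 2 :=
    orderOf_eq_prime (by rw [sq, c.tt]) (by rw [Ne, he.ker]; decide +kernel)
  have kc : ψ.ker = center SL4 := by
    ext g
    rw [MonoidHom.mem_ker, he.ker, Matrix.SpecialLinearGroup.mem_center_iff]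
    refine ⟨?_, ?_⟩
    · rintro (e | e)
      exacts [⟨1, by simp, by simp [e]⟩, ⟨-1, by decide, by rw [e]; decide +kernel⟩]
    · rintro ⟨r, h1, h2⟩
      rcases (by decide : ∀ r : F3, r ^ 4 = 1 → r = 1 ∨ r = -1) r h1 with rfl | rfl
      exacts [Or.inl (by simp [← h2]), Or.inr (by rw [← h2]; decide +kernel)]
  let θ : PSL4 →* G := QuotientGroup.lift (center SL4) ψ kc.ge
  have inj : Function.Injective θ := by
    rw [injective_iff_map_eq_one]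
    intro x hx
    obtain ⟨g, rfl⟩ := QuotientGroup.mk_surjective x
    exact (QuotientGroup.eq_one_iff g).2 (kc.le hx)
  let d : SL4 := ⟨Matrix.diagonal ![-1, -1, 1, 1], by simp [Fin.prod_univ_four]⟩
  have hd : ψ d = ψ TT := (psi_iff he).2 (Or.inr (by decide +kernel))
  have e : (centralizer {(QuotientGroup.mk d : PSL4)}).map θ = centralizer {ψ TT} := by
    ext x
    constructor
    · rintro ⟨y, hy, rfl⟩
      have := congrArg θ (mem_centralizer_singleton_iff.1 hy)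
      rw [map_mul, map_mul] at this
      exact mem_centralizer_singleton_iff.2 (hd ▸ this)
    · intro hx
      obtain ⟨g, rfl⟩ := (Y hx).2
      refine ⟨QuotientGroup.mk g, mem_centralizer_singleton_iff.2 (inj ?_), rfl⟩
      rw [map_mul, map_mul]
      exact mem_centralizer_singleton_iff.1 (hd ▸ hx : ψ g ∈ centralizer {ψ d})
  exact Cfsg.Agent.S3220.result (even_iff_two_dvd.2 (ot ▸ orderOf_dvd_natCard _))
    (no_index_two hl fx he) (F := F3) (by decide) d rfl (ψ TT) ot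
    (((equivMapOfInjective _ θ inj).trans (MulEquiv.subgroupCongr e)).symm)

end H55.L43
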