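import Cfsg.Agent.H93.DGPal1
import Cfsg.Agent.H44.CD3
import Cfsg.Agent.H90.Free

/-! Groups without divisibility among the character degrees: tools. -/

set_option autoImplicit false
open Cfsg H28 H32 H44 H93.DG MulAction

namespace H55.Nd

universe u

section act

variable {H M : Type*} [Group H] [CommGroup M] [MulDistribMulAction H M]

/-- The action on an invariant subgroup. -/
@[reducible] def invAct (A : Subgroup M) (hA : ∀ g : H, ∀ a ∈ A, g • a ∈ A) :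
    MulDistribMulAction H A where
  smul g a := ⟨g • a.1, hA g _ a.2⟩
  one_smul _ := Subtype.ext (one_smul _ _)
  mul_smul _ _ _ := Subtype.ext (mul_smul _ _ _)
  smul_mul _ _ _ := Subtype.ext (smul_mul' _ _ _)
  smul_one _ := Subtype.ext (smul_one _)

variable [Finite H] [Finite M]

theorem cyc (W : Subgroup M) (hW : ∀ g : H, ∀ a ∈ W, g • a ∈ W) (h0 : W ≠ ⊥)
    (hc : ∀ a b : H, ∀ w ∈ W, (a * b) • w = (b * a) • w) {K : Subgroup H}
    (hK : ∀ w ∈ W, w ≠ 1 → stabilizer H w ≤ K) : ∃ x : H, ∀ y : H, ∃ n : ℤ, (x ^ n)⁻¹ * y ∈ K := by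
  obtain ⟨w0, ⟨h1, h2⟩, hm⟩ := Set.exists_max_image {w | w ∈ W ∧ w ≠ 1}
    (fun w => Nat.card (stabilizer H w)) (Set.toFinite _) (by
      obtain ⟨⟨w, hw⟩, h⟩ := Subgroup.ne_bot_iff_exists_ne_one.1 h0
      exact ⟨w, hw, fun e => h (Subtype.ext e)⟩)
  let W0 : Subgroup M :=
    { carrier := {w | w ∈ W ∧ ∀ t : H, t • w0 = w0 → t • w = w}
      one_mem' := ⟨W.one_mem, fun t _ => smul_one t⟩
      mul_mem' := fun {a b} ha hb => ⟨W.mul_mem ha.1 hb.1, fun t ht => by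
        rw [smul_mul', ha.2 t ht, hb.2 t ht]⟩
      inv_mem' := fun {a} ha => ⟨W.inv_mem ha.1, fun t ht => by rw [smul_inv', ha.2 t ht]⟩ }
  have i0 : ∀ g : H, ∀ a ∈ W0, g • a ∈ W0 := fun g a ha => ⟨hW g a ha.1, fun t ht => by
    rw [← mul_smul, hc t g a ha.1, mul_smul, ha.2 t ht]⟩
  letI := invAct W0 i0
  let φ := MulDistribMulAction.toMulAut H W0
  have hφ : ∀ g (w : W0), (φ g w : M) = g • (w : M) := fun _ _ => rfl
  have : Nontrivial W0 := ⟨⟨w0, h1, fun _ h => h⟩, 1, fun e => h2 (congrArg Subtype.val e)⟩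
  have fr : H90.Free φ.range := H90.Free.of_fpf φ.range.subtype (by
    rintro ⟨_, g, rfl⟩ hg w hw
    by_contra h
    have e : stabilizer H w0 = stabilizer H (w : M) := Subgroup.eq_of_le_of_card_ge
      (fun t ht => w.2.2 t ht) (hm _ ⟨w.2.1, fun e => h (Subtype.ext e)⟩)
    have : g ∈ stabilizer H w0 := e ▸ congrArg Subtype.val hw
    exact hg (Subtype.ext (MulEquiv.ext fun v => Subtype.ext (v.2.2 g this))))
  obtain ⟨⟨_, x, rfl⟩, hx⟩ := (fr.isCyclic_of_comm (by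
    rintro ⟨_, a, rfl⟩ ⟨_, b, rfl⟩
    refine Subtype.ext (MulEquiv.ext fun v => Subtype.ext ?_)
    change a • b • (v : M) = b • a • (v : M)
    rw [← mul_smul, ← mul_smul, hc a b v v.2.1])).exists_generator
  refine ⟨x, fun y => ?_⟩
  obtain ⟨n, hn⟩ := hx ⟨φ y, y, rfl⟩
  refine ⟨n, hK w0 h1 h2 ?_⟩
  have e : φ ((x ^ n)⁻¹ * y) = 1 := by
    rw [map_mul, map_inv, map_zpow, inv_mul_eq_one]
    exact congrArg Subtype.val hn
  exact congrArg (fun f : MulAut W0 => (f ⟨w0, h1, fun _ h => h⟩ : M)) e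

theorem fixpt {s : ℕ} [hp : Fact s.Prime] (W : Subgroup M) (hW : ∀ g : H, ∀ a ∈ W, g • a ∈ W)
    (hs : s ∣ Nat.card W) (L : Subgroup H) (hL : ∀ g ∈ L, ∀ w ∈ W, g • w = w) {k : ℕ}
    (hk : L.index = s ^ k) : ∃ w ∈ W, w ≠ 1 ∧ ∀ g : H, g • w = w := by
  obtain ⟨P⟩ : Nonempty (Sylow s H) := inferInstance
  letI := invAct W hW
  obtain ⟨w, hw, h1⟩ := P.isPGroup'.exists_fixed_point_of_prime_dvd_card_of_fixed_point W hs
    (a := 1) (fun g => smul_one g)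
  refine ⟨w, w.2, fun e => h1 (Subtype.ext e.symm), fun g => ?_⟩
  have a : (P : Subgroup H) ≤ stabilizer H (w : M) := fun g hg =>
    congrArg Subtype.val (hw ⟨g, hg⟩)
  have b : L ≤ stabilizer H (w : M) := fun g hg => hL g hg w w.2
  have c : (stabilizer H (w : M)).index = 1 := Nat.eq_one_of_dvd_coprimes
    (Nat.Coprime.pow_left k ((Nat.Prime.coprime_iff_not_dvd hp.out).2 P.not_dvd_index))
    (hk ▸ Subgroup.index_dvd_of_le b) (Subgroup.index_dvd_of_le a)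
  exact mem_stabilizer_iff.1 (Subgroup.index_eq_one.1 c ▸ Subgroup.mem_top g)

end act

theorem cnt {G : Type u} [Group G] [Finite G] {M : Type*} [CommGroup M] [Finite M]
    [MulDistribMulAction G M] {q s : ℕ} [Fact q.Prime] [Fact s.Prime] {K : Subgroup G} [K.Normal]
    (A : Subgroup M) (hA : ∀ g : G, ∀ a ∈ A, g • a ∈ A) (hK : ∀ g ∈ K, ∀ a ∈ A, g • a = a)
    (hs : ∀ a ∈ A, a ^ s = 1) (h0 : A ≠ ⊥) (h : ∀ a ∈ A, a ≠ 1 → UQ q K (stabilizer G a)) :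
    ∃ a b, 0 < a ∧ Nat.card A = s ^ a ∧ s ^ a - 1 = Nat.card (Sylow q (G ⧸ K)) * (s ^ b - 1) := by
  letI := invAct A hA
  obtain ⟨B, -, hB⟩ := count_uq (M := A) (r := q) (K := K)
    (fun g hg l => Subtype.ext (hK g hg l l.2)) ⊤ (fun _ _ _ => trivial) fun a _ ha => by
      have e : stabilizer G a = stabilizer G (a : M) := Subgroup.ext fun g => Subtype.ext_iff
      exact e ▸ h a a.2 fun e => ha (Subtype.ext e)
  have p1 : IsPGroup s A := fun a => ⟨1, Subtype.ext (by simpa using hs a a.2)⟩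
  obtain ⟨a, ha⟩ := IsPGroup.iff_card.1 p1
  obtain ⟨b, hb⟩ := IsPGroup.iff_card.1 (p1.to_subgroup B)
  rw [Subgroup.card_top, ha, hb] at hB
  refine ⟨a, b, Nat.pos_of_ne_zero ?_, ha, hB⟩
  rintro rfl
  exact h0 (Subgroup.card_eq_one.1 ha)

variable {G : Type*} [Group G]

theorem mem_of_pows {K : Subgroup G} {x : G} {m n : ℕ} (h1 : x ^ m ∈ K) (h2 : x ^ n ∈ K)
    (h : m.Coprime n) : x ∈ K := by
  have := Nat.gcd_eq_gcd_ab m n
  rw [h.gcd_eq_one] at this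
  have e : x = (x ^ m) ^ m.gcdA n * (x ^ n) ^ m.gcdB n := by
    rw [← zpow_natCast, ← zpow_natCast, ← zpow_mul, ← zpow_mul, ← zpow_add, ← this]; simp
  rw [e]
  exact mul_mem (zpow_mem h1 _) (zpow_mem h2 _)

theorem eq_one_of_pows {x : G} {m n : ℕ} (h1 : x ^ m = 1) (h2 : x ^ n = 1) (h : m.Coprime n) :
    x = 1 := mem_of_pows (K := ⊥) h1 h2 h

theorem pow_rel {K N : Subgroup G} [K.Normal] {x : G} (hx : x ∈ N) : x ^ K.relIndex N ∈ K :=
  Subgroup.pow_index_mem (H := K.subgroupOf N) ⟨x, hx⟩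

theorem split [Finite G] (g : G) {s : ℕ} (hs : s.Prime) :
    ∃ j m, s.Coprime m ∧ g ^ (s ^ j * m) = 1 := by
  obtain ⟨j, m, h, e⟩ := Nat.exists_eq_pow_mul_and_not_dvd (orderOf_pos g).ne' s hs.ne_one
  exact ⟨j, m, (Nat.Prime.coprime_iff_not_dvd hs).2 h, e ▸ pow_orderOf_eq_one g⟩

section ev

variable {X : Subgroup G} {ν μ : Lin X} {x y g : G}

open Classical in
/-- The value of a linear character of a subgroup. -/
noncomputable def ev (ν : Lin X) (g : G) : ℂˣ := if h : g ∈ X then ν.hom ⟨g, h⟩ else 1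

theorem ev_of (h : g ∈ X) : ev ν g = ν.hom ⟨g, h⟩ := dif_pos h

theorem ev_coe (x : X) : ev ν x = ν.hom x := ev_of x.2

theorem ev_mul (hx : x ∈ X) (hy : y ∈ X) : ev ν (x * y) = ev ν x * ev ν y := by
  rw [ev_of hx, ev_of hy, ev_of (mul_mem hx hy), ← map_mul]; rfl

theorem ev_one : ev ν 1 = 1 := (ev_of X.one_mem).trans (map_one ν.hom)

theorem ev_inv (hx : x ∈ X) : ev ν x⁻¹ = (ev ν x)⁻¹ := by
  rw [ev_of hx, ev_of (inv_mem hx), ← map_inv]; rfl

theorem ev_pow (hx : x ∈ X) (n : ℕ) : ev ν (x ^ n) = ev ν x ^ n := by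
  rw [ev_of hx, ev_of (pow_mem hx n), ← map_pow]; rfl

theorem ev_ext (h : ∀ x ∈ X, ev ν x = ev μ x) : ν = μ :=
  Lin.ext' fun x => by rw [← ev_coe, ← ev_coe, h x x.2]

theorem ev_lone : ev (1 : Lin X) x = 1 := by
  unfold ev; split_ifs <;> rfl

theorem ev_lmul : ev (ν * μ) x = ev ν x * ev μ x := by
  unfold ev; split_ifs
  · rfl
  · simp

theorem ev_linv : ev ν⁻¹ x = (ev ν x)⁻¹ := by
  unfold ev; split_ifs
  · rfl
  · simp

theorem ev_lpow (n : ℕ) : ev (ν ^ n) x = ev ν x ^ n := by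
  unfold ev; split_ifs
  · rfl
  · simp

theorem ev_ne (h : ν ≠ 1) : ∃ x ∈ X, ev ν x ≠ 1 := by
  by_contra k
  push Not at k
  exact h (ev_ext fun x hx => (k x hx).trans ev_lone.symm)

theorem ev_tor {n : ℕ} (h : ν ^ n = 1) (x : G) : ev ν x ^ n = 1 := by
  rw [← ev_lpow, h, ev_lone]

/-- A linear character from a function. -/
def mkL (X : Subgroup G) (f : G → ℂˣ) (h : ∀ x ∈ X, ∀ y ∈ X, f (x * y) = f x * f y) : Lin X :=
  MonoidHom.mk' (fun x : X => f x) fun x y => h x x.2 y y.2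

theorem ev_mk {f : G → ℂˣ} {h} (hx : x ∈ X) : ev (mkL X f h) x = f x := ev_of hx

variable [hX : X.Normal]

theorem ev_smul (hx : x ∈ X) : ev (g • ν) x = ev ν (g⁻¹ * x * g) := by
  rw [ev_of hx, ev_of (hX.conj_mem' x hx g), smul_hom]
  simp only [inv_inv]

theorem ev_cj' (h : g • ν = ν) (hx : x ∈ X) : ev ν (g⁻¹ * x * g) = ev ν x := by
  rw [← ev_smul hx, h]

theorem ev_cj (h : g • ν = ν) (hx : x ∈ X) : ev ν (g * x * g⁻¹) = ev ν x := by
  simpa using ev_cj' (inv_smul_eq_iff.2 h.symm) hx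

theorem smul_of_cj' (h : ∀ x ∈ X, ev ν (g⁻¹ * x * g) = ev ν x) : g • ν = ν :=
  ev_ext fun x hx => (ev_smul hx).trans (h x hx)

theorem smul_of_cj (h : ∀ x ∈ X, ev ν (g * x * g⁻¹) = ev ν x) : g • ν = ν :=
  (inv_smul_eq_iff.1 (smul_of_cj' (g := g⁻¹) (by simpa using h))).symm

theorem smul_of_cm (h : ∀ x ∈ X, ev ν (g * x * g⁻¹ * x⁻¹) = 1) : g • ν = ν :=
  smul_of_cj fun x hx => by
    have := h x hx
    rwa [ev_mul (hX.conj_mem x hx g) (inv_mem hx), ev_inv hx, mul_inv_eq_one] at this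

theorem ev_cm (h : g • ν = ν) (hx : x ∈ X) : ev ν (g * x * g⁻¹ * x⁻¹) = 1 := by
  rw [ev_mul (hX.conj_mem x hx g) (inv_mem hx), ev_inv hx, ev_cj h hx, mul_inv_cancel]

theorem fp {w : G} (hw : w • ν = ν) (hy : y ∈ X) (hc : IsConj w (w * y)) {m : ℕ}
    (hm : w ^ m = 1) : ev ν y ^ m = 1 := by
  have k : ∀ m : ℕ, ∃ z ∈ X, (w * y) ^ m = w ^ m * z ∧ ev ν z = ev ν y ^ m := fun m => by
    induction m with
    | zero => exact ⟨1, X.one_mem, by simp, by simp [ev_one]⟩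
    | succ m ih =>
      obtain ⟨z, hz, e1, e2⟩ := ih
      refine ⟨w⁻¹ * z * w * y, mul_mem (hX.conj_mem' z hz w) hy, ?_, ?_⟩
      · rw [pow_succ, e1, pow_succ]; group
      · rw [ev_mul (hX.conj_mem' z hz w) hy, ev_cj' hw hz, e2, pow_succ]
  obtain ⟨z, -, e1, e2⟩ := k m
  obtain ⟨c, hc⟩ := isConj_iff.1 hc
  rw [← hc, conj_pow, hm, one_mul] at e1
  rw [← e2, ← e1]
  simp [ev_one]

end ev

end H55.Nd
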