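import Cfsg.Agent.H55.NdA
import Cfsg.Agent.H5.CK

/-! Groups without divisibility among the character degrees: the group-theoretic core. -/

set_option autoImplicit false
set_option linter.unusedSectionVars false
open Cfsg H28 H32 H44 H93.DG MulAction
open scoped commutatorElement

namespace H55.Nd

universe u

variable {G : Type u} [Group G]

/-- The preimage of the centre of `G / D`. -/
def cY (D : Subgroup G) [D.Normal] : Subgroup G :=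
  (Subgroup.center (G ⧸ D)).comap (QuotientGroup.mk' D)

theorem mem_cY {D : Subgroup G} [D.Normal] {x : G} :
    x ∈ cY D ↔ ∀ g, g * x * g⁻¹ * x⁻¹ ∈ D := by
  rw [cY, Subgroup.mem_comap, Subgroup.mem_center_iff, (QuotientGroup.mk'_surjective D).forall]
  refine forall_congr' fun g => ?_
  rw [← QuotientGroup.eq_one_iff, ← mul_inv_eq_one]
  simp [mul_assoc]

/-- The configuration. -/
structure Cf (K N K1 N1 : Subgroup G) [N1.Normal] (s q : ℕ) : Prop where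
  hs : s.Prime
  hq : q.Prime
  gN : commutator G ≤ N
  gK : ¬ commutator G ≤ K
  dK : ⁅N, N⁆ ≤ K
  fp0 : ∀ x, x ∉ N → ∀ n ∈ N, n * x * n⁻¹ * x⁻¹ ∈ K → n ∈ K
  cp1 : ∀ x ∈ N, ∀ g, g * x * g⁻¹ * x⁻¹ ∉ ⁅N, N⁆ → ∀ y ∈ ⁅N, N⁆, IsConj x (x * y)
  f2 : ∀ (X : Subgroup G) [X.Normal], X ≤ ⁅N, N⁆ → ∀ ν : Lin X, ν ≠ 1 →
    ¬ q ∣ (stabilizer G ν).index
  qN : q ∣ N.index
  q1 : q.Coprime (N1.relIndex N)
  s1 : s.Coprime (N1.relIndex N)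
  e1 : N1 = ⁅N, N⁆ ⊔ K1
  le : N1 ≤ N
  eK : ⁅N1, N1⁆ ≤ K1
  dK1 : ¬ ⁅N, N⁆ ≤ K1
  pw : ∀ c ∈ ⁅N, N⁆, c ^ s ∈ K1
  fp1 : ∀ x ∈ N, x ∉ N1 → ∀ n ∈ N1, ∃ y ∈ N1, n⁻¹ * (x * y * x⁻¹ * y⁻¹) ∈ K1
  cp2 : ∀ w ∈ N1, w ∉ K1 → ∀ y ∈ ⁅N1, N1⁆, ∃ a ∈ N1, a * w * a⁻¹ = w * y
  f3 : ∀ ν : Lin ↥⁅N1, N1⁆, ν ≠ 1 → (∀ g ∈ N1, g • ν = ν) → ∃ g ∈ N, g ∉ N1 ∧ g • ν = ν
  npc : ∃ L : Subgroup N1, L.Normal ∧ ¬ s ∣ Nat.card L ∧ ∃ k, L.index = s ^ k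

theorem cm_mem {A : Subgroup G} {a b : G} (ha : a ∈ A) (hb : b ∈ A) :
    a * b * a⁻¹ * b⁻¹ ∈ ⁅A, A⁆ := Subgroup.commutator_mem_commutator ha hb

/-- The invariant linear characters of exponent `s`. -/
def AA (s : ℕ) (N1 X : Subgroup G) [X.Normal] : Subgroup (Lin X) where
  carrier := {ν | ν ^ s = 1 ∧ ∀ g ∈ N1, g • ν = ν}
  one_mem' := ⟨one_pow _, fun g _ => smul_one g⟩
  mul_mem' := fun {a b} ha hb => ⟨by rw [mul_pow, ha.1, hb.1, one_mul], fun g hg => by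
    rw [smul_mul', ha.2 g hg, hb.2 g hg]⟩
  inv_mem' := fun {a} ha => ⟨by rw [inv_pow, ha.1, inv_one], fun g hg => by
    rw [smul_inv', ha.2 g hg]⟩

/-- The linear characters trivial on `K`. -/
def VV (K X : Subgroup G) : Subgroup (Lin X) where
  carrier := {ν | ∀ x ∈ X, x ∈ K → ev ν x = 1}
  one_mem' := fun _ _ _ => ev_lone
  mul_mem' := fun {a b} ha hb x hx hk => by rw [ev_lmul, ha x hx hk, hb x hx hk, one_mul]
  inv_mem' := fun {a} ha x hx hk => by rw [ev_linv, ha x hx hk, inv_one]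

theorem AA_inv {s : ℕ} {N1 X : Subgroup G} [h : N1.Normal] [X.Normal] (g : G) :
    ∀ a ∈ AA s N1 X, g • a ∈ AA s N1 X := fun a ha =>
  ⟨by rw [← smul_pow', ha.1, smul_one], fun n hn => by
    rw [← mul_smul, show n * g = g * (g⁻¹ * n * g) by group, mul_smul, ha.2 _ (h.conj_mem' n hn g)]⟩

namespace Cf

variable [Finite G] {K N K1 N1 : Subgroup G} [hN : N.Normal] [hK1 : K1.Normal]
  [hN1 : N1.Normal] {s q : ℕ} (c : Cf K N K1 N1 s q)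
include c

theorem dec {x : G} (hx : x ∈ N1) : ∃ d ∈ ⁅N, N⁆, ∃ k ∈ K1, d * k = x :=
  Subgroup.mem_sup_of_normal_right.1 (c.e1 ▸ hx)

theorem dle : ⁅N, N⁆ ≤ N1 := c.e1 ▸ le_sup_left

theorem kle : K1 ≤ N1 := c.e1 ▸ le_sup_right

theorem ele : ⁅N1, N1⁆ ≤ ⁅N, N⁆ := Subgroup.commutator_mono c.le c.le

theorem n1Y : N1 ≤ cY ⁅N, N⁆ := by
  intro x hx
  by_contra h
  rw [mem_cY] at h
  push Not at h
  obtain ⟨g, h⟩ := h
  have k := c.cp1 x (c.le hx) g h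
  obtain ⟨d, hd, k1, hk, rfl⟩ := c.dec hx
  obtain ⟨a, ha⟩ := isConj_iff.1 (k (k1⁻¹ * d⁻¹ * k1) (Subgroup.Normal.conj_mem' inferInstance _
    (inv_mem hd) _)).symm
  have m : d * k1 ∈ K1 := by
    rw [← ha, show d * k1 * (k1⁻¹ * d⁻¹ * k1) = k1 by group]
    exact hK1.conj_mem _ hk _
  refine c.dK1 fun y hy => ?_
  obtain ⟨a, ha⟩ := isConj_iff.1 (k y hy)
  exact (K1.mul_mem_cancel_left m).1 (ha ▸ hK1.conj_mem _ m _)

theorem yK {x : G} (hx : x ∈ N) (h : x ∈ cY ⁅N, N⁆) : x ∈ K := by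
  obtain ⟨g, hg⟩ : ∃ g, g ∉ N := by
    by_contra k
    push Not at k
    have := c.qN
    rw [(Subgroup.eq_top_iff' N).2 k, Subgroup.index_top] at this
    exact c.hq.ne_one (Nat.dvd_one.1 this)
  refine c.fp0 g hg x hx (c.dK ?_)
  simpa [mul_assoc] using inv_mem (mem_cY.1 h g)

theorem n1K : N1 ≤ K := fun _ hx => c.yK (c.le hx) (c.n1Y hx)

theorem f1 {X : Subgroup G} [X.Normal] (hX : X ≤ ⁅N, N⁆) {ν : Lin X} (h1 : ν ≠ 1) (h2 : ν ^ s = 1)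
    {g : G} (hg : g ∈ N) (h : g • ν = ν) : g ∈ cY ⁅N, N⁆ := by
  obtain ⟨j, m, hm, e⟩ := split g c.hs
  refine mem_of_pows (m := s ^ j) ?_ (c.n1Y (pow_rel hg)) (c.s1.pow_left j)
  by_contra k
  rw [mem_cY] at k
  push Not at k
  obtain ⟨a, k⟩ := k
  obtain ⟨y, hy, e'⟩ := ev_ne h1
  exact e' (eq_one_of_pows (ev_tor h2 y) (fp (pow_mem (mem_stabilizer_iff.2 h) _) hy
    (c.cp1 _ (pow_mem hg _) a k y (hX hy)) (by rw [← pow_mul, e])) hm)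

theorem qel {x : G} (hx : x ∈ N) {j : ℕ} (h : x ^ q ^ j ∈ N1) : x ∈ N1 :=
  mem_of_pows h (pow_rel hx) (c.q1.pow_left j)

theorem uq {X : Subgroup G} [X.Normal] (hX : X ≤ ⁅N, N⁆) {ν : Lin X} (h1 : ν ≠ 1)
    (h2 : ν ^ s = 1) : UQ q N1 (stabilizer G ν) := by
  have := Fact.mk c.hq
  have key : ∀ (Q : Sylow q G), (Q : Subgroup G) ≤ stabilizer G ν → ∀ x ∈ (Q : Subgroup G),
      ∀ t ∈ stabilizer G ν, x * t * x⁻¹ * t⁻¹ ∈ N1 := fun Q hQ x hx t ht => by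
    obtain ⟨j, hj⟩ := Q.isPGroup' ⟨x, hx⟩
    have hj' : x ^ q ^ j = 1 := congrArg Subtype.val hj
    have m := c.gN (comm_mem_commutator x t)
    have y := c.f1 hX h1 h2 m
      (mul_mem (mul_mem (mul_mem (hQ hx) ht) (inv_mem (hQ hx))) (inv_mem ht))
    refine c.qel m (j := j) (c.dle ?_)
    have := conj_pow_of_central (g := (x : G ⧸ ⁅N, N⁆)) (h := (t : G ⧸ ⁅N, N⁆)) y (q ^ j)
    rw [← QuotientGroup.mk_pow, hj'] at this
    rw [← QuotientGroup.eq_one_iff]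
    simpa using this.symm
  have sym : ∀ Q Q' : Sylow q G, (Q : Subgroup G) ≤ stabilizer G ν →
      (Q' : Subgroup G) ≤ stabilizer G ν → (Q' : Subgroup G) ⊔ N1 ≤ (Q : Subgroup G) ⊔ N1 := by
    intro Q Q' hQ hQ'
    refine sup_le (fun x hx => ?_) le_sup_right
    obtain ⟨t, ht⟩ := exists_smul_eq (stabilizer G ν) (Q.subtype hQ) (Q'.subtype hQ')
    have m : (⟨x, hQ' hx⟩ : stabilizer G ν) ∈ ((t • Q.subtype hQ : Sylow q _) : Subgroup _) := by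
      rw [ht]; exact hx
    rw [Sylow.coe_subgroup_smul, Subgroup.mem_pointwise_smul_iff_inv_smul_mem] at m
    have m' : (t : G)⁻¹ * x * t ∈ (Q : Subgroup G) := by
      have : ((MulAut.conj t)⁻¹ • (⟨x, hQ' hx⟩ : stabilizer G ν) : stabilizer G ν).1 ∈
        (Q : Subgroup G) := m
      simpa using this
    rw [show x = (t : G)⁻¹ * x * t * (x⁻¹ * (t : G)⁻¹ * x⁻¹⁻¹ * (t : G)⁻¹⁻¹)⁻¹ by group]
    exact Subgroup.mul_mem_sup m' (inv_mem (key Q' hQ' _ (inv_mem hx) _ (inv_mem t.2)))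
  obtain ⟨Q, hQ⟩ := exists_sylow_le (c.f2 X hX ν h1)
  exact ⟨Q, hQ, fun x hx y hy => key Q hQ x hx y (hQ hy),
    fun Q' hQ' => le_antisymm (sym Q Q' hQ hQ') (sym Q' Q hQ' hQ)⟩

theorem syl : 1 < Nat.card (Sylow q (G ⧸ N1)) := by
  have := Fact.mk c.hq
  rw [Finite.one_lt_card_iff_nontrivial, ← not_subsingleton_iff_nontrivial]
  intro h
  obtain ⟨Q⟩ : Nonempty (Sylow q G) := inferInstance
  obtain ⟨x, hx, hn⟩ : ∃ x ∈ (Q : Subgroup G), x ∉ N := by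
    by_contra k
    push Not at k
    exact not_dvd_index_of_le Q k c.qN
  let R := Q.mapSurjective (QuotientGroup.mk'_surjective N1)
  have nr := R.normal_of_subsingleton
  refine c.gK (c.gN.trans fun n h => c.fp0 x hn n h (c.n1K ?_))
  have m : (x : G ⧸ N1) ∈ (R : Subgroup _) := ⟨x, hx, rfl⟩
  obtain ⟨j, hj⟩ := R.isPGroup' ⟨_, mul_mem (nr.conj_mem _ m n) (inv_mem m)⟩
  refine c.qel (c.gN (comm_mem_commutator n x)) (j := j) ?_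
  rw [← QuotientGroup.eq_one_iff]
  simpa using congrArg Subtype.val hj

theorem card_eq {X Y : Subgroup G} [X.Normal] [Y.Normal] (hX : X ≤ ⁅N, N⁆) (hY : Y ≤ ⁅N, N⁆)
    {A : Subgroup (Lin X)} {B : Subgroup (Lin Y)} (a1 : A ≤ AA s N1 X) (b1 : B ≤ AA s N1 Y)
    (a2 : ∀ g : G, ∀ a ∈ A, g • a ∈ A) (b2 : ∀ g : G, ∀ a ∈ B, g • a ∈ B) (a3 : A ≠ ⊥)
    (b3 : B ≠ ⊥) : Nat.card A = Nat.card B := by
  have := Fact.mk c.hq
  have := Fact.mk c.hs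
  obtain ⟨i, j, h1, h2, h3⟩ := cnt (q := q) (s := s) (K := N1) A a2
    (fun g hg a ha => (a1 ha).2 g hg) (fun a ha => (a1 ha).1) a3
    fun a ha h => c.uq hX h (a1 ha).1
  obtain ⟨k, l, k1, k2, k3⟩ := cnt (q := q) (s := s) (K := N1) B b2
    (fun g hg a ha => (b1 ha).2 g hg) (fun a ha => (b1 ha).1) b3
    fun a ha h => c.uq hY h (b1 ha).1
  rw [h2, k2, pow_eq_of_count c.hs c.syl h1 k1 h3 k3]

theorem exV {w : G} (hw : w ∈ ⁅N, N⁆) (hk : w ∉ K1) : ∃ μ ∈ VV K1 ⁅N, N⁆, ev μ w ≠ 1 := by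
  obtain ⟨l, h1, h2⟩ := exists_hom_ne_one_of_commutator_le (K1.subgroupOf ⁅N, N⁆)
    (Subgroup.commutator_le.2 fun a _ b _ => c.eK (cm_mem (c.dle a.2) (c.dle b.2)))
    (a := ⟨w, hw⟩) hk
  exact ⟨l, fun x hx h => (ev_of hx).trans (h1 ⟨x, hx⟩ h), fun e => h2 ((ev_of hw).symm.trans e)⟩

theorem AV : AA s N1 ⁅N, N⁆ = VV K1 ⁅N, N⁆ ∧ AA s N1 ⁅N, N⁆ ≠ ⊥ := by
  have a : VV K1 ⁅N, N⁆ ≤ AA s N1 ⁅N, N⁆ := fun ν h => ⟨ev_ext fun x hx => by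
    rw [ev_lpow, ← ev_pow hx, h _ (pow_mem hx _) (c.pw x hx), ev_lone], fun g hg =>
      smul_of_cm fun x hx => h _ (cm_mem (c.le hg) (c.le (c.dle hx))) (c.eK (cm_mem hg (c.dle hx)))⟩
  obtain ⟨w, hw, hk⟩ := SetLike.not_le_iff_exists.1 c.dK1
  obtain ⟨μ, h1, h2⟩ := c.exV hw hk
  have b : VV K1 ⁅N, N⁆ ≠ ⊥ := fun e => h2 (by
    rw [e, Subgroup.mem_bot] at h1
    rw [h1, ev_lone])
  have d : AA s N1 ⁅N, N⁆ ≠ ⊥ := fun e => b (eq_bot_iff.2 (e ▸ a))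
  exact ⟨(Subgroup.eq_of_le_of_card_ge a (c.card_eq le_rfl le_rfl le_rfl a AA_inv
    (fun g ν h x hx hk => by
      rw [ev_smul hx]
      exact h _ (Subgroup.Normal.conj_mem' inferInstance _ hx _) (hK1.conj_mem' _ hk _)) d b).le).symm, d⟩

theorem pw1 {g : G} (hg : g ∈ N1) : g ^ s ∈ K1 := by
  obtain ⟨d, hd, k, hk, rfl⟩ := c.dec hg
  have := (QuotientGroup.eq_one_iff _).2 (c.pw d hd)
  rw [← QuotientGroup.eq_one_iff]
  simpa [(QuotientGroup.eq_one_iff _).2 hk] using this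

theorem caseT {t : ℕ} (ht : t.Prime) (hts : t ≠ s) {ν : Lin ↥⁅N1, N1⁆} (h1 : ν ≠ 1) (h2 : ν ^ t = 1) :
    False := by
  obtain ⟨x, hx⟩ := cyc (H := N1) (powMonoidHom t : Lin ↥⁅N1, N1⁆ →* _).ker
    (fun g a (ha : a ^ t = 1) => show ((g : G) • a) ^ t = 1 by rw [← smul_pow', ha, smul_one])
    (fun e => h1 (Subgroup.mem_bot.1 (e ▸ h2))) (fun a b w _ => by
      change ((a : G) * b) • w = ((b : G) * a) • w
      rw [show (a : G) * b = b * a * ((a : G)⁻¹ * (b : G)⁻¹ * (a : G)⁻¹⁻¹ * (b : G)⁻¹⁻¹) by group,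
        mul_smul,
        smul_of_mem (cm_mem (inv_mem a.2) (inv_mem b.2))]) (K := K1.subgroupOf N1) (by
      intro w (hw : w ^ t = 1) w1 g (hg : (g : G) • w = w)
      by_contra k
      obtain ⟨j, m, hm, e⟩ := split (g : G) c.hs
      obtain ⟨y, hy, e'⟩ := ev_ne w1
      obtain ⟨a, -, ha⟩ := c.cp2 (g ^ m) (pow_mem g.2 m)
        (fun h => k (mem_of_pows (c.pw1 g.2) h hm)) y hy
      exact e' (eq_one_of_pows (ev_tor hw y) (fp (pow_mem (mem_stabilizer_iff.2 hg) _) hy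
        (isConj_iff.2 ⟨a, ha⟩) (m := s ^ j) (by rw [← pow_mul, mul_comm, e]))
        (((Nat.coprime_primes ht c.hs).2 hts).pow_right j)))
  let V := N1.map (QuotientGroup.mk' K1)
  have : V.Normal := hN1.map _ (QuotientGroup.mk'_surjective K1)
  have : IsCyclic V := ⟨⟨_, x, x.2, rfl⟩, by
    rintro ⟨_, y, hy, rfl⟩
    obtain ⟨n, hn⟩ := hx ⟨y, hy⟩
    exact ⟨n, Subtype.ext (QuotientGroup.eq.2 hn)⟩⟩
  refine c.gK (Subgroup.commutator_le.2 fun a _ b _ => c.n1K ?_)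
  by_contra k
  refine c.dK1 fun n hn => ?_
  obtain ⟨y, hy, e⟩ := c.fp1 _ (c.gN (comm_mem_commutator a b)) k n (c.dle hn)
  have z := H5.commutator_le_centralizer_of_cyclic V
    (comm_mem_commutator (a : G ⧸ K1) (b : G ⧸ K1)) _ ⟨y, hy, rfl⟩
  refine inv_mem_iff.1 ((K1.mul_mem_cancel_right ?_).1 e)
  rw [← QuotientGroup.eq_one_iff, QuotientGroup.mk_mul, QuotientGroup.mk_mul, QuotientGroup.mk_mul,
    QuotientGroup.mk_inv, QuotientGroup.mk_inv, mul_inv_eq_one, mul_inv_eq_iff_eq_mul]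
  exact z.symm

theorem caseA {ν : Lin ↥⁅N1, N1⁆} (h2 : orderOf ν = s) : AA s N1 ⁅N1, N1⁆ ≠ ⊥ := by
  have := Fact.mk c.hs
  obtain ⟨L, hL, l1, k, l2⟩ := c.npc
  obtain ⟨w, (hw : w ^ s = 1), w1, w2⟩ := fixpt (H := N1) (s := s)
    (powMonoidHom s : Lin ↥⁅N1, N1⁆ →* _).ker
    (fun g a (ha : a ^ s = 1) => show ((g : G) • a) ^ s = 1 by rw [← smul_pow', ha, smul_one])
    (h2.symm.dvd.trans (Subgroup.orderOf_dvd_natCard _
      (show ν ^ s = 1 from h2 ▸ pow_orderOf_eq_one ν))) L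
    (fun g hg w (hw : w ^ s = 1) => smul_of_cm (g := (g : G)) fun x hx => by
      have hx' : x ∈ N1 := Subgroup.commutator_le_left _ _ hx
      have m : g * (⟨x, hx'⟩ * g⁻¹ * ⟨x, hx'⟩⁻¹) ∈ L := mul_mem hg (hL.conj_mem _ (inv_mem hg) _)
      have e : ((g : G) * x * (g : G)⁻¹ * x⁻¹) ^ Nat.card L = 1 := by
        rw [mul_assoc, mul_assoc, ← mul_assoc x]
        exact congrArg (fun z : L => ((z : N1) : G)) (pow_card_eq_one' (x := (⟨_, m⟩ : L)))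
      refine eq_one_of_pows (ev_tor hw _) ?_ ((Nat.Prime.coprime_iff_not_dvd c.hs).2 l1)
      rw [← ev_pow (cm_mem g.2 hx'), e, ev_one]) l2
  exact fun e => w1 (Subgroup.mem_bot.1 (e ▸ (⟨hw, fun g hg => w2 ⟨g, hg⟩⟩ : w ∈ AA s N1 _)))

end Cf

section form

variable {s : ℕ} {N1 : Subgroup G} [N1.Normal] {ν : Lin ↥⁅N1, N1⁆} {a b d : G}

/-- The commutator form of an invariant linear character. -/
noncomputable def Bf (ν : Lin ↥⁅N1, N1⁆) (a b : G) : ℂˣ := ev ν (a * b * a⁻¹ * b⁻¹)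

theorem Bf_r (h : ν ∈ AA s N1 _) (ha : a ∈ N1) (hb : b ∈ N1) (hd : d ∈ N1) :
    Bf ν a (b * d) = Bf ν a b * Bf ν a d := by
  rw [Bf, Bf, Bf, ← ev_cj (h.2 b hb) (cm_mem ha hd), ← ev_mul (cm_mem ha hb)
    (Subgroup.Normal.conj_mem inferInstance _ (cm_mem ha hd) b)]
  congr 1; group

theorem Bf_s (ha : a ∈ N1) (hb : b ∈ N1) : Bf ν a b = (Bf ν b a)⁻¹ := by
  rw [Bf, Bf, ← ev_inv (cm_mem hb ha)]
  congr 1; group

theorem Bf_l (h : ν ∈ AA s N1 _) (ha : a ∈ N1) (hb : b ∈ N1) (hd : d ∈ N1) :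
    Bf ν (a * b) d = Bf ν a d * Bf ν b d := by
  rw [Bf_s (mul_mem ha hb) hd, Bf_r h hd ha hb, mul_inv, ← Bf_s ha hd, ← Bf_s hb hd]

/-- The form as a linear character of `X`. -/
noncomputable def cm (h : ν ∈ AA s N1 _) (ha : a ∈ N1) {X : Subgroup G} (hX : X ≤ N1) : Lin X :=
  mkL X (Bf ν a) fun _ hx _ hy => Bf_r h ha (hX hx) (hX hy)

theorem ev_cm' (h : ν ∈ AA s N1 _) (ha : a ∈ N1) {X : Subgroup G} (hX : X ≤ N1) (hd : d ∈ X) :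
    ev (cm h ha hX) d = Bf ν a d := ev_mk hd

theorem cm_AA (h : ν ∈ AA s N1 _) (ha : a ∈ N1) {X : Subgroup G} [hn : X.Normal] (hX : X ≤ N1) :
    cm h ha hX ∈ AA s N1 X := ⟨ev_ext fun x hx => by
  rw [ev_lpow, ev_cm' h ha hX hx, ev_lone]
  exact ev_tor h.1 _, fun g hg => smul_of_cj fun x hx => by
  rw [ev_cm' h ha hX hx, ev_cm' h ha hX (hn.conj_mem x hx g), ← ev_cm' h ha le_rfl (hX hx),
    ← ev_cm' h ha le_rfl (hX (hn.conj_mem x hx g)), ev_cj (smul_of_mem hg _) (hX hx)]⟩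

end form

variable [Finite G] {K N K1 N1 : Subgroup G} [hN : N.Normal] [hK1 : K1.Normal]
  [hN1 : N1.Normal] {s q : ℕ}

theorem Cf.caseS (c : Cf K N K1 N1 s q) (h0 : AA s N1 ⁅N1, N1⁆ ≠ ⊥) : False := by
  obtain ⟨w, hw, hk⟩ := SetLike.not_le_iff_exists.1 c.dK1
  have w1 := c.dle hw
  have st : ∀ {ν : Lin ↥⁅N1, N1⁆}, ν ∈ AA s N1 _ → ∀ a ∈ N1, ∀ u ∈ ⁅N, N⁆, u ∈ K1 → Bf ν a u = 1 :=
    fun h a ha u hu hk => by
      rw [← ev_cm' h ha c.dle hu]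
      exact (c.AV.1 ▸ cm_AA h ha c.dle : _ ∈ VV K1 _) u hu hk
  obtain ⟨ν, hν, n1, n2⟩ : ∃ ν ∈ AA s N1 ⁅N1, N1⁆, ν ≠ 1 ∧ ∀ d ∈ ⁅N, N⁆, Bf ν w d = 1 := by
    by_contra k
    push Not at k
    let f : AA s N1 ⁅N1, N1⁆ → AA s N1 ⁅N, N⁆ := fun ν => ⟨cm ν.2 w1 c.dle, cm_AA _ _ _⟩
    have i : Function.Injective f := fun a b e => by
      by_contra h
      obtain ⟨d, hd, e'⟩ := k (a.1 * b.1⁻¹) (mul_mem a.2 (inv_mem b.2))
        fun e => h (Subtype.ext (mul_inv_eq_one.1 e))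
      have := congrArg (fun z : AA s N1 ⁅N, N⁆ => ev z.1 d) e
      simp only [f, ev_cm' _ _ _ hd] at this
      exact e' (by rw [Bf, ev_lmul, ev_linv, mul_inv_eq_one]; exact this)
    obtain ⟨μ, m1, m2⟩ := c.exV hw hk
    obtain ⟨a, ha⟩ := ((Nat.bijective_iff_injective_and_card f).2 ⟨i, c.card_eq c.ele le_rfl
      le_rfl le_rfl AA_inv AA_inv h0 c.AV.2⟩).2 ⟨μ, c.AV.1 ▸ m1⟩
    apply m2
    rw [← show cm a.2 w1 c.dle = μ from congrArg Subtype.val ha, ev_cm' _ _ _ hw, Bf]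
    simp [ev_one]
  obtain ⟨y, hy, e⟩ := ev_ne n1
  obtain ⟨a, ha, e'⟩ := c.cp2 w w1 hk y hy
  obtain ⟨d, hd, k, k1, rfl⟩ := c.dec ha
  have k2 := c.kle k1
  have b1 : Bf ν k w ≠ 1 := fun h => e (by
    have := Bf_l hν (c.dle hd) k2 w1
    rwa [h, Bf_s (c.dle hd) w1, n2 d hd, inv_one, one_mul, Bf, e', ev_cj (hν.2 w w1) hy] at this)
  obtain ⟨g, g1, g2, g3⟩ := c.f3 ν n1 hν.2
  have fx : g • cm hν k2 c.dle = cm hν k2 c.dle := smul_of_cj fun x hx => by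
    have u1 : k⁻¹ * g⁻¹ * k⁻¹⁻¹ * g⁻¹⁻¹ ∈ ⁅N, N⁆ := cm_mem (inv_mem (c.le k2)) (inv_mem g1)
    have u2 : k⁻¹ * g⁻¹ * k⁻¹⁻¹ * g⁻¹⁻¹ ∈ K1 := by
      simpa [mul_assoc] using mul_mem (inv_mem k1) (hK1.conj_mem' k k1 g)
    have := Bf_l hν k2 (c.dle u1) (c.dle hx)
    rw [Bf_s (c.dle u1) (c.dle hx), st hν x (c.dle hx) _ u1 u2, inv_one, mul_one] at this
    rw [ev_cm' _ _ _ hx, ev_cm' _ _ _ (Subgroup.Normal.conj_mem inferInstance x hx g), ← this, Bf, Bf,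
      ← ev_cj g3 (cm_mem (mul_mem k2 (c.dle u1)) (c.dle hx))]
    congr 1; group
  obtain ⟨z, hz, e2⟩ := c.fp1 g g1 g2 w w1
  obtain ⟨d', hd', k', k3, rfl⟩ := c.dec hz
  have v1 : g * d' * g⁻¹ * d'⁻¹ ∈ ⁅N, N⁆ := cm_mem g1 (c.le (c.dle hd'))
  have v2 : w⁻¹ * (g * d' * g⁻¹ * d'⁻¹) ∈ K1 := by
    have := mul_mem e2 (hK1.conj_mem _ (mul_mem k3 (hK1.conj_mem _ (inv_mem k3) g)) d')
    convert this using 1
    group
  have := st hν k k2 _ (mul_mem (inv_mem hw) v1) v2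
  rw [← ev_cm' hν k2 c.dle (mul_mem (inv_mem hw) v1), ev_mul (inv_mem hw) v1, ev_cm fx hd', mul_one,
    ev_inv hw, inv_eq_one, ev_cm' _ _ _ hw] at this
  exact b1 this

theorem Cf.core [Group.IsSolvable G] (c : Cf K N K1 N1 s q) : ⁅N1, N1⁆ = ⊥ := by
  by_contra h
  have : Nat.card (Lin ↥⁅N1, N1⁆) ≠ 1 := by
    rw [card_lin, Ne, Subgroup.index_eq_one]
    have : Nontrivial ↥⁅N1, N1⁆ := (Subgroup.nontrivial_iff_ne_bot _).2 h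
    exact (Group.IsSolvable.commutator_lt_top_of_nontrivial _).ne
  obtain ⟨t, ht, hd⟩ := Nat.exists_prime_and_dvd this
  have := Fact.mk ht
  obtain ⟨ν, hν⟩ := exists_prime_orderOf_dvd_card' t hd
  by_cases e : t = s
  · exact c.caseS (c.caseA (e ▸ hν))
  · exact c.caseT ht e (fun e => ht.ne_one (by rw [← hν, e, orderOf_one]))
      (hν ▸ pow_orderOf_eq_one ν)

end H55.Nd
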