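import Cfsg.Agent.H55.NdB
import Cfsg.Agent.H33.IndTools

/-! Groups without divisibility among the character degrees: the character theory. -/

set_option autoImplicit false
set_option linter.unusedSectionVars false
open Cfsg H28 H32 H44 H93.DG MulAction
open scoped commutatorElement

namespace H55.Nd

universe u

/-- No degree `> 1` divides a larger degree. -/
def ND (G : Type*) [Group G] : Prop :=
  ∀ a ∈ charDegrees G, ∀ b ∈ charDegrees G, 1 < a → a < b → ¬ a ∣ b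

theorem ND.eq {G : Type*} [Group G] (h : ND G) {a b : ℕ} (ha : a ∈ charDegrees G)
    (hb : b ∈ charDegrees G) (h1 : a ≠ 1) (hd : a ∣ b) : a = b := by
  have := pos_of_mem_cd ha
  have := Nat.le_of_dvd (pos_of_mem_cd hb) hd
  by_contra e
  exact h a ha b hb (by omega) (by omega) hd

theorem ND.mul {G : Type*} [Group G] (h : ND G) {a d b : ℕ} (ha : a ∈ charDegrees G)
    (hb : b ∈ charDegrees G) (h1 : a ≠ 1) (hd : a * d ∣ b) : d = 1 := by
  rw [← h.eq ha hb h1 (dvd_of_mul_right_dvd hd)] at hd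
  exact Nat.dvd_one.1 (Nat.dvd_of_mul_dvd_mul_left (pos_of_mem_cd ha) (by rwa [mul_one]))

variable {G : Type u} [Group G] [Finite G] {K N : Subgroup G}

theorem mem_comm {y : G} (hy : y ∈ ⁅N, N⁆) (h : y ∈ N) : (⟨y, h⟩ : N) ∈ commutator N := by
  obtain ⟨z, hz, e⟩ : y ∈ (commutator N).map N.subtype := by rwa [N.map_subtype_commutator]
  exact (Subtype.ext e : z = ⟨y, h⟩) ▸ hz

theorem conj_of_vanish [N.Normal] {x y : G} (hx : x ∈ N) (hy : y ∈ ⁅N, N⁆)
    (h : ∀ θ, IsIrrCharacter N θ → charDegree θ ≠ 1 → θ ⟨x, hx⟩ = 0 ∧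
      θ ⟨x * y, mul_mem hx (Subgroup.commutator_le_left _ _ hy)⟩ = 0) :
    ∃ a ∈ N, a * x * a⁻¹ = x * y := by
  have hy' : y ∈ N := Subgroup.commutator_le_left _ _ hy
  obtain ⟨a, ha⟩ := isConj_iff.1 ((isConj_iff_irr (g := (⟨x, hx⟩ : N))
    (h := ⟨x, hx⟩ * ⟨y, hy'⟩)).2 fun χ => by
      by_cases e : charDegree χ.1 = 1
      · exact (χ.2.isClassFunction.apply_mul_of_mem_charKer
          (χ.2.charDegree_eq_one_iff.1 e (mem_comm hy hy')) _).symm
      · exact (h _ χ.2 e).1.trans (h _ χ.2 e).2.symm)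
  exact ⟨a, a.2, congrArg Subtype.val ha⟩

variable [hK : K.Normal] [hN : N.Normal] {s : ℕ}

theorem ND.not_le (nd : ND G) (hB : TopB s K N) (hs : s.Prime) {θ : N → ℂ}
    (hθ : IsIrrCharacter N θ) (h1 : charDegree θ ≠ 1) : ¬ inertia θ ≤ N := fun h => by
  cases nonempty_fintype N
  obtain ⟨c, hc⟩ := exists_dg hθ
  exact h1 (nd.mul (hB.mem_cd hs) hc.mem_cd hB.one_lt.ne'
    ((Nat.mul_dvd_mul_right (Subgroup.index_dvd_of_le h) _).trans (hc.dvd hθ)))

theorem ND.dvd (nd : ND G) (hB : TopB s K N) (hs : s.Prime) {d : ℕ} (hd : d ∈ charDegrees N)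
    (h1 : d ≠ 1) : s ∣ d :=
  ((hB.cd hs hd).resolve_left fun h => h1 (nd.mul (hB.mem_cd hs) h hB.one_lt.ne' dvd_rfl)).1

theorem ND.cp2 (nd : ND G) (hB : TopB s K N) (hs : s.Prime) {w y : G} (hw : w ∈ N) (hk : w ∉ K)
    (hy : y ∈ ⁅N, N⁆) : ∃ a ∈ N, a * w * a⁻¹ = w * y := by
  refine conj_of_vanish hw hy fun θ hθ h1 => ?_
  have := (frob_dichotomy hB.2.2.2.2.1 hB.2.2.2.2.2.2 hθ).resolve_left fun ⟨l, _, h⟩ =>
    nd.not_le hB hs (isIrr_mul_ch hθ l) (fun e => h1 ((charDegree_mul_ch θ l).symm.trans e)) h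
  exact ⟨this _ hk, this _ fun h => hk ((K.mul_mem_cancel_right (hB.2.2.2.2.1 hy)).1 h)⟩

theorem ND.f3 (nd : ND G) (hB : TopB s K N) (hs : s.Prime) {ν : Lin ↥⁅N, N⁆} (h1 : ν ≠ 1)
    (h : ∀ g ∈ N, g • ν = ν) : ∃ g, g ∉ N ∧ g • ν = ν := by
  cases nonempty_fintype N
  cases nonempty_fintype ↥⁅N, N⁆
  have le : ⁅N, N⁆ ≤ N := Subgroup.commutator_le_left _ _
  obtain ⟨ψ, hψ, hc⟩ := H33.exists_irr_over_hom (Subgroup.inclusion le)
    (Subgroup.inclusion_injective le) (isIrr_ch ν)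
  have e := clifford_le_inertia le (isIrr_ch ν) (fun g hg => inertia_ch ν ▸ h g hg) hψ hc
  have e' : ∀ x (hx : x ∈ ⁅N, N⁆), ψ ⟨x, le hx⟩ =
      classInner (fun s => ψ (Subgroup.inclusion le s)) (ch ν) * (ev ν x : ℂ) := fun x hx => by
    rw [ev_of hx]
    exact congrFun e ⟨x, hx⟩
  obtain ⟨g, g1, g2⟩ := SetLike.not_le_iff_exists.1 (nd.not_le hB hs hψ fun d => by
    obtain ⟨x, hx, k⟩ := ev_ne h1
    have := apply_of_mem_charKer (hψ.charDegree_eq_one_iff.1 d (mem_comm hx (le hx)))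
    rw [e' x hx, show (1 : N) = ⟨1, le (one_mem _)⟩ from rfl, e' 1 (one_mem _), ev_one] at this
    exact k (Units.ext (mul_left_cancel₀ hc this)))
  refine ⟨g, g2, smul_of_cj fun x hx => ?_⟩
  have := mem_inertia_iff.1 g1 ⟨x, le hx⟩
  rw [e' x hx, e' _ (Subgroup.Normal.conj_mem inferInstance x hx g)] at this
  exact Units.ext (mul_left_cancel₀ hc this)

/-- The setting after the first reduction. -/
structure St (r : ℕ) (K N : Subgroup G) : Prop where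
  nd : ND G
  hB : TopB r K N
  hr : r.Prime
  co : ∀ d ∈ charDegrees G, r ∣ d → d.Coprime N.index

namespace St

variable {r : ℕ} (c : St r K N)
include c

theorem inv {ψ : N → ℂ} (hψ : IsIrrCharacter N ψ) (h1 : charDegree ψ ≠ 1) :
    inertia ψ = ⊤ ∧ charDegree ψ ∈ charDegrees G := by
  cases nonempty_fintype N
  obtain ⟨_, χ, hχ, hc, rfl⟩ := exists_dg hψ
  obtain ⟨k, hk, e⟩ := exists_degree_mul hχ hψ hc
  have k1 : k = 1 := Nat.eq_one_of_dvd_coprimes (c.co _ (mem_cd hχ)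
    (e ▸ (c.nd.dvd c.hB c.hr (mem_cd hψ) h1).mul_left k)) (e ▸ dvd_mul_right _ _) hk
  rw [k1, one_mul] at e
  have := Dg.dvd hψ ⟨χ, hχ, hc, e⟩
  exact ⟨Subgroup.index_eq_one.1 (Nat.dvd_one.1 (Nat.dvd_of_mul_dvd_mul_right hψ.charDegree_pos
    (by rwa [one_mul]))), e ▸ mem_cd hχ⟩

theorem sub {d : ℕ} (hd : d ∈ charDegrees N) (h1 : d ≠ 1) : d ∈ charDegrees G := by
  obtain ⟨ψ, hψ, rfl⟩ := exists_of_mem_cd hd
  exact (c.inv hψ h1).2

theorem ndN : ND N := fun a ha b hb h1 h2 =>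
  c.nd a (c.sub ha h1.ne') b (c.sub hb (by omega)) h1 h2

theorem van {x g : G} (hx : x ∈ N) (h : g * x * g⁻¹ * x⁻¹ ∉ ⁅N, N⁆) {θ : N → ℂ}
    (hθ : IsIrrCharacter N θ) (h1 : charDegree θ ≠ 1) : θ ⟨x, hx⟩ = 0 := by
  by_contra k
  refine h (mem_of_forall_lin (mul_mem (hN.conj_mem x hx g) (inv_mem hx)) fun l => ?_)
  have a := inertia_eq_top_iff.1 (c.inv hθ h1).1 g ⟨x, hx⟩
  have b := inertia_eq_top_iff.1 (c.inv (isIrr_mul_ch hθ l) (by rwa [charDegree_mul_ch])).1 g ⟨x, hx⟩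
  rw [Pi.mul_apply, Pi.mul_apply, a] at b
  have e : l.hom _ = l.hom _ := Units.ext (mul_left_cancel₀ k b)
  change l.hom (⟨g * x * g⁻¹, hN.conj_mem x hx g⟩ * (⟨x, hx⟩ : N)⁻¹) = 1
  rw [map_mul, map_inv, e, mul_inv_cancel]

theorem cp1 (x : G) (hx : x ∈ N) (g : G) (h : g * x * g⁻¹ * x⁻¹ ∉ ⁅N, N⁆) (y : G)
    (hy : y ∈ ⁅N, N⁆) : IsConj x (x * y) := by
  obtain ⟨a, -, ha⟩ := conj_of_vanish hx hy fun θ hθ h1 => ⟨c.van hx h hθ h1, c.van (g := g) _
    (fun k => h (by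
      have n : (⁅N, N⁆).Normal := inferInstance
      have := mul_mem (n.conj_mem _ (inv_mem hy) (g * x)) (mul_mem k (n.conj_mem _ hy x))
      convert this using 1
      group)) hθ h1⟩
  exact isConj_iff.2 ⟨a, ha⟩

theorem f2 {q : ℕ} (hq : q.Prime) (h : q ∣ N.index) (X : Subgroup G) [X.Normal] (hX : X ≤ ⁅N, N⁆)
    (ν : Lin X) (h1 : ν ≠ 1) : ¬ q ∣ (stabilizer G ν).index := fun k => by
  cases nonempty_fintype G
  cases nonempty_fintype N
  cases nonempty_fintype X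
  obtain ⟨d, hd⟩ := exists_dg (isIrr_ch ν)
  obtain ⟨⟨χ, hχ⟩, ⟨x, hx, e⟩, rfl⟩ := hd.mem (isIrr_ch ν) (ch_ne_one h1)
  obtain ⟨θ, hθ, hc⟩ := exists_constituent_res (H := N) hχ.isCharacter hχ.apply_one_ne_zero
  by_cases d1 : charDegree θ = 1
  · have le : ⁅N, N⁆ ≤ N := Subgroup.commutator_le_left _ _
    have cl := clifford hχ hθ hc
    refine e ((congrFun cl ⟨x, le (hX hx)⟩).trans (Eq.trans ?_ (congrFun cl 1).symm))
    rw [Pi.smul_apply, Pi.smul_apply, Finset.sum_apply, Finset.sum_apply]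
    refine congrArg _ (Finset.sum_congr rfl fun φ hφ => ?_)
    obtain ⟨g, rfl⟩ := mem_conjSet.1 hφ
    exact apply_of_mem_charKer ((isIrrCharacter_cj hθ g).charDegree_eq_one_iff.1
      (d1 ▸ charDegree_congr (congrArg θ (Subtype.ext (by simp)))) (mem_comm (hX hx) _))
  · exact hq.ne_one (Nat.eq_one_of_dvd_coprimes (c.co _ (mem_cd hχ)
      ((c.nd.dvd c.hB c.hr (mem_cd hθ) d1).trans ((dvd_mul_left _ _).trans
        (Dg.dvd hθ ⟨χ, hχ, hc, rfl⟩)))) (k.trans hd.dvd_ch) h)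

end St

omit hK hN in
/-- A non-abelian quotient of prime power order forces a single non-linear degree. -/
theorem ND.caseA (nd : ND G) {r k : ℕ} (hr : r.Prime) {L : Subgroup G} [L.Normal]
    (h1 : ¬ r ∣ Nat.card L) (h2 : L.index = r ^ k) (h3 : ¬ commutator G ≤ L) :
    ∀ d ∈ charDegrees G, ∀ e ∈ charDegrees G, d ≠ 1 → e ≠ 1 → d = e := by
  obtain ⟨d, d1, d2⟩ : ∃ d ∈ charDegrees (G ⧸ L), d ≠ 1 := by
    by_contra h
    push Not at h
    exact h3 (commutator_le_of_cd_quot L h)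
  obtain ⟨a, -, rfl⟩ := (Nat.dvd_prime_pow hr).1 ((dvd_card_of_mem_cd d1).trans (dvd_of_eq h2))
  have co : L.index.Coprime (Nat.card L) :=
    h2 ▸ ((Nat.Prime.coprime_iff_not_dvd hr).2 h1).pow_left k
  have ab : ∀ a ∈ L, ∀ b ∈ L, a * b = b * a := comm_of_cd_subgroup fun e he => by
    obtain ⟨θ, hθ, rfl⟩ := exists_of_mem_cd he
    by_contra e1
    have m := mem_cd_of_coprime co hθ one_mem_cd
    rw [one_mul] at m
    have m1 : (inertia θ).index * charDegree θ ≠ 1 := fun h => e1 (Nat.eq_one_of_mul_eq_one_left h)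
    have t := commutator_le_of_cd_quot (L.subgroupOf (inertia θ)) fun f hf =>
      nd.mul m (mem_cd_of_coprime co hθ hf) m1 (dvd_of_eq (by ring))
    have le := le_index_of_mem_cd d1 ((inertia θ).map (QuotientGroup.mk' L)) (by
      rintro _ ⟨x, hx, rfl⟩ _ ⟨y, hy, rfl⟩
      have := (QuotientGroup.eq_one_iff _).2 (show x * y * x⁻¹ * y⁻¹ ∈ L from
        t (comm_mem_commutator (⟨x, hx⟩ : inertia θ) ⟨y, hy⟩))
      simpa [mul_inv_eq_one, mul_inv_eq_iff_eq_mul] using this)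
    have li := le_inertia hθ.isClassFunction
    rw [Subgroup.index_map_eq _ (QuotientGroup.mk'_surjective L)
      (by rwa [QuotientGroup.ker_mk'])] at le
    obtain ⟨b, -, hb⟩ := (Nat.dvd_prime_pow hr).1 (h2 ▸ Subgroup.index_dvd_of_le li)
    rw [hb] at le m
    obtain ⟨z, hz⟩ := pow_dvd_pow r ((Nat.pow_le_pow_iff_right hr.one_lt).1 le)
    exact e1 (Nat.eq_one_of_mul_eq_one_left (m := z) (nd.mul (cd_quot L d1) m d2
      (dvd_of_eq (by rw [hz]; ring))))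
  intro d hd' e he d1 e1
  obtain ⟨i, -, rfl⟩ := (Nat.dvd_prime_pow hr).1 (h2 ▸ dvd_index_of_mem_cd hd' L ab)
  obtain ⟨j, -, rfl⟩ := (Nat.dvd_prime_pow hr).1 (h2 ▸ dvd_index_of_mem_cd he L ab)
  rcases le_total i j with h | h
  · exact nd.eq hd' he d1 (pow_dvd_pow r h)
  · exact (nd.eq he hd' e1 (pow_dvd_pow r h)).symm

theorem St.caseB [Group.IsSolvable G] {r : ℕ} (c : St r K N) (gK : ¬ commutator G ≤ K)
    {K' N' : Subgroup N} [K'.Normal] [N'.Normal] (hs : s.Prime) (h1 : ¬ commutator N ≤ K')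
    (h2 : ∀ M : Subgroup N, M.Normal → K' < M → commutator N ≤ M)
    (h3 : ∀ x ∈ commutator N, x ^ s ∈ K') (hB : TopB s K' N') :
    ∀ a ∈ N', ∀ b ∈ N', a * b = b * a := by
  have inj := N.subtype_injective
  have mm : ∀ {A : Subgroup N} {x : N}, (x : G) ∈ A.map N.subtype ↔ x ∈ A :=
    Subgroup.mem_map_iff_mem inj
  obtain ⟨d, d1, d2⟩ : ∃ d ∈ charDegrees (N ⧸ K'), d ≠ 1 := by
    by_contra h
    push Not at h
    exact h1 (commutator_le_of_cd_quot K' h)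
  obtain ⟨ψ, hψ, k1, rfl⟩ := exists_irr_of_mem_cd_quot d1
  have k2 : K' = charKer ψ := k1.lt_or_eq.resolve_left fun h =>
    d2 (hψ.charDegree_eq_one_iff.2 (h2 _ hψ.charKer_normal h))
  have n1 : (K'.map N.subtype).Normal := ⟨by
    rintro _ ⟨x, hx, rfl⟩ g
    refine ⟨⟨_, hN.conj_mem x x.2 g⟩, ?_, rfl⟩
    rw [k2] at hx ⊢
    exact hψ.mem_charKer.2 ((inertia_eq_top_iff.1 (c.inv hψ d2).1 g x).trans
      (hψ.mem_charKer.1 hx))⟩
  have e1 : N'.map N.subtype = ⁅N, N⁆ ⊔ K'.map N.subtype := by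
    rw [hB.1, Subgroup.map_sup, N.map_subtype_commutator]
  have n2 : (N'.map N.subtype).Normal := e1 ▸ inferInstance
  have ri : (N'.map N.subtype).relIndex N = N'.index :=
    congrArg Subgroup.index (Subgroup.comap_map_eq_self_of_injective inj N')
  have mc := Subgroup.map_commutator N' N' N.subtype
  have f1 := hB.mem_cd hs
  obtain ⟨q, hq, qd⟩ := Nat.exists_prime_and_dvd c.hB.one_lt.ne'
  have core := Cf.core (K := K) (N := N) (K1 := K'.map N.subtype) (N1 := N'.map N.subtype)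
    (s := s) (q := q)
    { hs := hs
      hq := hq
      gN := c.hB.1 ▸ le_sup_left
      gK := gK
      dK := c.hB.2.2.2.2.1
      fp0 := c.hB.2.2.2.2.2.1
      cp1 := c.cp1
      f2 := c.f2 hq qd
      qN := qd
      q1 := ri ▸ (Nat.Coprime.coprime_dvd_right qd (c.co _ (c.sub f1 hB.one_lt.ne')
        (c.nd.dvd c.hB c.hr f1 hB.one_lt.ne'))).symm
      s1 := ri ▸ (Nat.Prime.coprime_iff_not_dvd hs).2 hB.not_dvd
      e1 := e1
      le := Subgroup.map_subtype_le _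
      eK := mc ▸ Subgroup.map_mono hB.2.2.2.2.1
      dK1 := fun h => h1 ((Subgroup.map_le_map_iff_of_injective inj).1
        (N.map_subtype_commutator ▸ h))
      pw := fun x hx => mm.2 (h3 _ (mem_comm hx (Subgroup.commutator_le_left _ _ hx)))
      fp1 := by
        rintro x hx hx' _ ⟨n, hn, rfl⟩
        obtain ⟨y, hy, e⟩ := hB.2.2.2.2.2.2 ⟨x, hx⟩ (fun h => hx' (mm.2 h)) n hn
        exact ⟨y, mm.2 hy, mm.2 e⟩
      cp2 := by
        rintro _ ⟨w, hw, rfl⟩ hk y hy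
        rw [← mc] at hy
        obtain ⟨y, hy, rfl⟩ := hy
        obtain ⟨a, ha, e⟩ := c.ndN.cp2 hB hs hw (fun h => hk (mm.2 h)) hy
        exact ⟨a, mm.2 ha, congrArg Subtype.val e⟩
      f3 := fun ν n1 n2 => by
        have up : ∀ {x : N}, x ∈ ⁅N', N'⁆ → (x : G) ∈ ⁅N'.map N.subtype, N'.map N.subtype⁆ :=
          fun hx => mc ▸ mm.2 hx
        let μ := mkL ⁅N', N'⁆ (fun x : N => ev ν x) fun x hx y hy => ev_mul (up hx) (up hy)
        have cj : ∀ {x : N}, x ∈ ⁅N', N'⁆ → ∀ g, g * x * g⁻¹ ∈ ⁅N', N'⁆ := fun hx g =>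
          Subgroup.Normal.conj_mem inferInstance _ hx g
        obtain ⟨g, g1, g2⟩ := c.ndN.f3 hB hs (ν := μ) (fun e => by
          obtain ⟨x, hx, k⟩ := ev_ne n1
          rw [← mc] at hx
          obtain ⟨x, hx, rfl⟩ := hx
          exact k ((ev_mk (f := fun x : N => ev ν x) hx).symm.trans (by
            rw [show mkL _ _ _ = 1 from e, ev_lone]))) fun g hg => smul_of_cj fun x hx => by
          rw [ev_mk hx, ev_mk (cj hx g)]
          exact ev_cj (n2 g (mm.2 hg)) (up hx)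
        refine ⟨g, g.2, fun h => g1 (mm.1 h), smul_of_cj fun x hx => ?_⟩
        rw [← mc] at hx
        obtain ⟨x, hx, rfl⟩ := hx
        have := ev_cj g2 hx
        rwa [ev_mk hx, ev_mk (cj hx g)] at this
      npc := by
        obtain ⟨L, l1, l2⟩ := exists_npc (G := N'.map N.subtype) hs fun d hd =>
          c.ndN.dvd hB hs (cd_equiv (Subgroup.equivMapOfInjective N' _ inj) ▸ hd)
        exact ⟨L, l1, l2⟩ }
  rw [← mc, Subgroup.map_eq_bot_iff_of_injective _ inj] at core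
  intro a ha b hb
  have := cm_mem ha hb
  rwa [core, Subgroup.mem_bot, mul_inv_eq_one, mul_inv_eq_iff_eq_mul] at this

theorem St.uniq [Group.IsSolvable G] {r : ℕ} (c : St r K N) (gK : ¬ commutator G ≤ K) :
    ∀ d ∈ charDegrees N, ∀ e ∈ charDegrees N, d ≠ 1 → e ≠ 1 → d = e := by
  have hd : ∀ d ∈ charDegrees N, d ≠ 1 → r ∣ d := fun d => c.nd.dvd c.hB c.hr
  obtain ⟨L, _, l1, k, l2⟩ := exists_npc c.hr hd
  by_cases h : commutator N ≤ L
  swap
  · exact c.ndN.caseA c.hr l1 l2 h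
  intro d d1 e e1 d2 e2
  obtain ⟨s, K', N', _, _, hs, -, -, -, h1, h2, h3, ⟨a, hA⟩ | hB⟩ :=
    top_cases _ le_rfl (not_le_commutator_of_isSolvable d1 d2)
  · obtain rfl := (Nat.prime_dvd_prime_iff_eq c.hr hs).1
      (c.hr.dvd_of_dvd_pow (hd _ hA.mem_cd (hA.one_lt hs).ne'))
    refine absurd (fun x hx => mem_of_pows (h3 x hx) ?_
      ((Nat.Prime.coprime_iff_not_dvd hs).2 l1)) h1
    rw [show x ^ Nat.card L = 1 from congrArg Subtype.val (pow_card_eq_one' (x := (⟨x, h hx⟩ : L)))]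
    exact one_mem _
  · have ab := c.caseB gK hs h1 h2 h3 hB
    exact (c.ndN.eq d1 (hB.mem_cd hs) d2 (dvd_index_of_mem_cd d1 N' ab)).trans
      (c.ndN.eq e1 (hB.mem_cd hs) e2 (dvd_index_of_mem_cd e1 N' ab)).symm

end H55.Nd
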