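import Cfsg.Agent.H97.QUDih
import Cfsg.Agent.H62.DWL2a
import Cfsg.Agent.H24.GWAut
import Cfsg.Agent.H61.Klein
import Cfsg.Agent.S3784

/-! QU tower, job JF4p: `L₂(q)` whose involution centralizers are dihedral 2-groups. -/

set_option autoImplicit false
set_option linter.unusedSectionVars false

namespace H55.QU

open Subgroup Cfsg H98 H96.CG H97.QU H57 H61 H24.GW Matrix
open scoped MatrixGroups

universe u

variable {F : Type} [Field F] [Fintype F]

theorem prime_or_nine' {q n : ℕ} (hq : IsPrimePow q) (hn : 3 ≤ n) (h : q = 2 ^ n + 1 ∨ q + 1 = 2 ^ n) :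
    q = 9 ∨ q.Prime := by
  obtain ⟨p, e, hp, he, rfl⟩ := (isPrimePow_nat_iff q).1 hq
  have h8 : 2 ^ 3 ≤ 2 ^ n := Nat.pow_le_pow_right (by norm_num) hn
  rcases h with h | h
  · rcases Cfsg.Agent.S3784.result p 2 e n hp Nat.prime_two he (by omega) h with
      ⟨-, h1, -⟩ | ⟨-, h1, -⟩ | ⟨h1, -⟩
    · omega
    · subst h1
      exact Or.inr (by rwa [pow_one])
    · exact Or.inl h1
  · rcases Cfsg.Agent.S3784.result 2 p n e Nat.prime_two hp (by omega) he h.symm with
      ⟨-, h1, -⟩ | ⟨h0, h1, -⟩ | ⟨h1, -⟩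
    · subst h1
      exact Or.inr (by rwa [pow_one])
    · omega
    · have : 2 ∣ 2 ^ n := dvd_pow_self 2 (by omega)
      omega

theorem card_cen_inv (hF : Odd (Nat.card F)) {t : PSL(2, F)} (h1 : t ≠ 1) (h2 : t * t = 1) :
    (Nat.card F = Nat.card (centralizer {t}) + 1 ∧ Nat.card F % 4 = 1) ∨
      (Nat.card F + 1 = Nat.card (centralizer {t}) ∧ Nat.card F % 4 = 3) := by
  obtain ⟨p, _, _, hp⟩ := H62.DL.exists_p hF
  obtain ⟨y, m⟩ := main_psl (F := F) p
  rw [gcd_two_of_odd hF] at m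
  obtain ⟨k, hk⟩ := hF
  have e1 : (Nat.card F - 1) / 2 = k := by omega
  have e2 : (Nat.card F + 1) / 2 = k + 1 := by omega
  rw [e1, e2] at m
  rcases Nat.even_or_odd k with he | he
  · have := m.card_centralizer_inv hp rfl (Or.inl rfl) he h1 h2
    obtain ⟨l, hl⟩ := he
    left; omega
  · have := m.card_centralizer_inv hp rfl (Or.inr rfl) he.add_one h1 h2
    obtain ⟨l, hl⟩ := he
    right; omega

theorem ringAut_eq_one (hp : (Nat.card F).Prime) (σ : RingAut F) : σ = 1 := by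
  have : Fact (Nat.card F).Prime := ⟨hp⟩
  have e := ZMod.ringEquivOfPrime F hp (Nat.card_eq_fintype_card (α := F)).symm
  ext x
  obtain ⟨y, rfl⟩ := e.surjective x
  obtain ⟨k, rfl⟩ := ZMod.intCast_surjective y
  simp

theorem exists_outer (hF : Odd (Nat.card F)) : ∃ w : PGL(2, F), w * w = 1 ∧ w ∉ (toP F).range := by
  obtain ⟨p, _, _, hp⟩ := H62.DL.exists_p hF
  obtain ⟨a, ha⟩ := FiniteField.exists_nonsquare (F := F) (by rwa [ringChar.eq F p])
  have a0 : a ≠ 0 := fun e => ha (e ▸ IsSquare.zero)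
  let g : GL (Fin 2) F := GeneralLinearGroup.mkOfDetNeZero !![0, 1; -a, 0] (by simp [det_fin_two, a0])
  refine ⟨ProjGenLinGroup.mk g, ?_, fun h => ha ?_⟩
  · rw [← map_mul, ← map_one ProjGenLinGroup.mk, eq_comm, ProjGenLinGroup.mk_eq_mk_iff]
    refine ⟨Units.mk0 (-a) (neg_ne_zero.2 a0), Units.ext ?_⟩
    ext i j
    fin_cases i <;> fin_cases j <;> simp [g, Matrix.mul_apply, Fin.sum_univ_two]
  · simpa [g, det_fin_two] using mk_mem_range_toP.1 h

theorem toP_diag (γ : PGL(2, F)) (x : PSL(2, F)) : toP F (pglDiag (Fin 2) F γ x) = γ * toP F x * γ⁻¹ := by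
  apply pglDiag_injective
  rw [map_mul, map_mul, map_inv, pglDiag_toP, pglDiag_toP]
  ext z
  simp

variable {G : Type u} [Group G] {K : Subgroup G}

/-- the action of the normalizer -/
noncomputable def act (e : K ≃* PSL(2, F)) : nor K →* MulAut PSL(2, F) :=
  (MulAut.congr e).toMonoidHom.comp (normalizerMonoidHom K)

theorem act_apply (e : K ≃* PSL(2, F)) (y : nor K) (a b : K) (h : (y : G) * a * (y : G)⁻¹ = b) :
    act e y (e a) = e b := by
  simp only [act, MonoidHom.comp_apply, MulEquiv.coe_toMonoidHom, MulAut.congr_apply,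
    MulEquiv.trans_apply, MulEquiv.symm_apply_apply]
  exact congrArg e (Subtype.ext h)

theorem act_inner (e : K ≃* PSL(2, F)) (k : K) : act e ⟨k, le_normalizer k.2⟩ = MulAut.conj (e k) := by
  ext z
  obtain ⟨z, rfl⟩ := e.surjective z
  rw [act_apply e _ z (k * z * k⁻¹) rfl]
  simp

theorem act_ker (e : K ≃* PSL(2, F)) (y : nor K) (h : act e y = 1) : (y : G) ∈ cen K := fun a ha => by
  have h1 := act_apply e y ⟨a, ha⟩ ⟨_, (mem_normalizer_iff.1 y.2 a).1 ha⟩ rfl
  rw [h] at h1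
  have h2 : a = y * a * (y : G)⁻¹ := congrArg Subtype.val (e.injective h1)
  exact (mul_inv_eq_iff_eq_mul.1 h2.symm).symm

theorem mem_of_act (e : K ≃* PSL(2, F)) {D : Subgroup G} (y : nor K) (c : K) (hc : (c : G) ∈ D)
    (h : act e y = MulAut.conj (e c)) : (y : G) ∈ D ⊔ cen K := by
  have := act_ker e ((⟨c, le_normalizer c.2⟩ : nor K)⁻¹ * y) (by
    rw [map_mul, map_inv, act_inner, h, inv_mul_cancel])
  have h2 := mul_mem (mem_sup_left hc : (c : G) ∈ D ⊔ cen K) (mem_sup_right this)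
  simpa using h2

theorem pg_of_prime [Finite G] (e : K ≃* PSL(2, F)) (hF : Odd (Nat.card F)) (hp : (Nat.card F).Prime) : PG K := by
  have key : ∀ y : nor K, ∃ γ : PGL(2, F), pglDiag (Fin 2) F γ = act e y := fun y => by
    obtain ⟨g, σ, h⟩ := psl_aut_two (act e y)
    exact ⟨ProjGenLinGroup.mk g, by rw [h, ringAut_eq_one hp σ, map_one, mul_one, pglDiag_mk]⟩
  refine ⟨fun y hy D hD v hc => ?_, fun y hy hn => ?_⟩
  · obtain ⟨γ, hγ⟩ := key ⟨y, hy⟩
    obtain ⟨p, _, _, p2⟩ := H62.DL.exists_p hF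
    obtain ⟨a, ha, a1, -⟩ := v.exists_ne 1
    obtain ⟨b, hb, b1, ba⟩ := v.exists_ne a
    let f : K →* PGL(2, F) := (toP F).comp e.toMonoidHom
    have inj : Function.Injective f := toP_injective.comp e.injective
    have com : ∀ c (h : c ∈ D), γ * f ⟨c, hD h⟩ = f ⟨c, hD h⟩ * γ := fun c h => by
      have h1 := act_apply e ⟨y, hy⟩ ⟨c, hD h⟩ ⟨c, hD h⟩ (mul_inv_eq_iff_eq_mul.2 (hc c h).symm)
      rw [← hγ] at h1
      have h2 := toP_diag γ (e ⟨c, hD h⟩)
      rw [h1] at h2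
      exact (mul_inv_eq_iff_eq_mul.1 h2.symm)
    have sq : ∀ c (h : c ∈ D), f ⟨c, hD h⟩ * f ⟨c, hD h⟩ = 1 := fun c h => by
      rw [← map_mul, ← map_one f]; exact congrArg f (Subtype.ext (v.sq h))
    have fin : ∀ c (h : c ∈ D), γ = f ⟨c, hD h⟩ → y ∈ D ⊔ cen K := fun c h e' =>
      mem_of_act e ⟨y, hy⟩ ⟨c, hD h⟩ h (by rw [← hγ, e']; exact pglDiag_toP _)
    rcases H62.DL.hur_four (hur_pglF F p) p2 (t := f ⟨a, hD ha⟩) (w := f ⟨b, hD hb⟩) (g := γ)
      ((map_ne_one_iff f inj).2 fun e' => a1 (congrArg Subtype.val e')) (sq a ha)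
      ((map_ne_one_iff f inj).2 fun e' => b1 (congrArg Subtype.val e')) (sq b hb)
      (inj.ne fun e' => ba (congrArg Subtype.val e').symm)
      (by rw [← map_mul, ← map_mul]; exact congrArg f (Subtype.ext (v.le_cen hb a ha)))
      (com a ha) (com b hb) with h | h | h | h
    · exact fin 1 (one_mem _) (h.trans (map_one f).symm)
    · exact fin a ha h
    · exact fin b hb h
    · exact fin (a * b) (mul_mem ha hb) (h.trans (map_mul f _ _).symm)
  · obtain ⟨γ, hγ⟩ := key ⟨y, hy⟩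
    obtain ⟨w, w2, hw⟩ := exists_outer hF
    have h1 : γ⁻¹ ∉ (toP F).range := fun h => by
      obtain ⟨x, hx⟩ := (inv_mem_iff (H := (toP F).range)).1 h
      obtain ⟨c, rfl⟩ := e.surjective x
      exact hn (mem_of_act e ⟨y, hy⟩ c c.2 (by rw [← hγ, ← hx]; exact pglDiag_toP _))
    obtain ⟨x, hx⟩ := (mul_mem_iff_of_index_two (index_range_toP hF)).2 (iff_of_false h1 hw)
    obtain ⟨k, rfl⟩ := e.surjective x
    refine ⟨k, k.2, act_ker e (⟨y, hy⟩ * ⟨k, le_normalizer k.2⟩ * (⟨y, hy⟩ * ⟨k, le_normalizer k.2⟩)) ?_⟩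
    have : act e (⟨y, hy⟩ * ⟨k, le_normalizer k.2⟩) = pglDiag (Fin 2) F w := by
      rw [map_mul, act_inner, ← hγ, ← pglDiag_toP, hx, ← map_mul, mul_inv_cancel_left]
    rw [map_mul, this, ← map_mul, w2, map_one]

theorem e9_of_nine (e : K ≃* PSL(2, F)) (h9 : Nat.card F = 9) : E9 K := by
  obtain ⟨p, _, _, p2⟩ := H62.DL.exists_p (F := F) (by rw [h9]; decide)
  obtain ⟨k, hp, hk⟩ := FiniteField.card F p
  have p3 : p = 3 := by
    rw [← Nat.card_eq_fintype_card, h9] at hk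
    exact (Nat.prime_dvd_prime_iff_eq hp Nat.prime_three).1 (hp.dvd_of_dvd_pow (n := 2)
      (by rw [show 3 ^ 2 = 9 from rfl, hk]; exact dvd_pow_self p k.ne_zero))
  subst p3
  let f : PSL(2, F) →* G := K.subtype.comp e.symm.toMonoidHom
  have inj : Function.Injective f := K.subtype_injective.comp e.symm.injective
  let Q := (hur_psl F 3).Q (pinf (AlgebraicClosure F))
  refine ⟨Q.map f, ?_, ⟨⟨⟨fun a b => Subtype.ext ?_⟩⟩, ?_⟩, ?_⟩
  · rintro _ ⟨x, -, rfl⟩
    exact (e.symm x).2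
  · obtain ⟨_, x, hx, rfl⟩ := a
    obtain ⟨_, y, hy, rfl⟩ := b
    change f x * f y = f y * f x
    rw [← map_mul, ← map_mul, (hur_psl F 3).comm x y _ hx.1 hy.1 hx.2 hy.2]
  · rintro _ ⟨x, hx, rfl⟩
    rw [← map_pow, hx.2, map_one]
  · rw [card_map_of_injective inj, card_Q_psl, h9]

theorem jobF4p : JF4p.{u} := by
  rintro G _ _ K U z₀ n r d F _ _ hF - ⟨e⟩ h
  rw [← Nat.card_eq_fintype_card] at hF
  have zK : z₀ ∈ K := h.le h.zU
  have hc : Nat.card (centralizer {e ⟨z₀, zK⟩}) = 2 ^ (n + 1) := by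
    let f : PSL(2, F) →* G := K.subtype.comp e.symm.toMonoidHom
    have inj : Function.Injective f := K.subtype_injective.comp e.symm.injective
    rw [← h.card, ← h.cz, ← card_map_of_injective (K := centralizer {e ⟨z₀, zK⟩}) inj]
    congr 2
    ext g
    constructor
    · rintro ⟨x, hx, rfl⟩
      refine ⟨(e.symm x).2, mem_centralizer_singleton_iff.2 ?_⟩
      have := congrArg f (mem_centralizer_singleton_iff.1 hx)
      simpa [f] using this
    · rintro ⟨h1, h2⟩
      refine ⟨e ⟨g, h1⟩, mem_centralizer_singleton_iff.2 ?_, by simp [f]⟩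
      rw [← map_mul, ← map_mul]
      exact congrArg e (Subtype.ext (mem_centralizer_singleton_iff.1 h2))
  have h1 := card_cen_inv hF (t := e ⟨z₀, zK⟩)
    (fun e' => h.z1 (congrArg Subtype.val (e.map_eq_one_iff.1 e')))
    (by rw [← map_mul, ← map_one e]; exact congrArg e (Subtype.ext h.z2))
  rw [hc] at h1
  have hn := h.two
  rcases prime_or_nine' (q := Nat.card F) (n := n + 1)
    (by rw [Nat.card_eq_fintype_card]; exact FiniteField.isPrimePow_card F) (by omega)
    (h1.imp And.left And.left) with h9 | hp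
  · refine Or.inl ⟨?_, e9_of_nine e h9⟩
    have : 2 ^ (n + 1) = 2 ^ 3 := by omega
    have := Nat.pow_right_injective le_rfl this
    omega
  · exact Or.inr (pg_of_prime e hF hp)

end H55.QU
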