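import Cfsg.Agent.H20.ITMX2
import Cfsg.Agent.H34.R5Spec

/-! Tower R5, slot X2 (port of H20.ITMX2.jobMX2, prime `s` for `2`). -/

set_option autoImplicit false

namespace H55.R5X2

open Cfsg Subgroup H41.IT

universe u

theorem jobX2 : H34.R5.JobX2.{u} := by
  intro X _ _ sol d s q hs hq q2 hd pri v h pv ph cv e n
  have nt : C v ≠ ⊤ := fun k => by
    have h1 : d = Nat.card X := by rw [← cv, c, k, card_top]
    have h2 := Nat.le_of_dvd Nat.card_pos hd
    have h3 : 0 < Nat.card X := Nat.card_pos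
    have h4 := hq.pos
    have h5 := hs.two_le
    have h6 : 2 ≤ s * q := le_trans h5 (Nat.le_mul_of_pos_right s h4)
    rw [h1] at h2
    nlinarith
  have : Nontrivial (X ⧸ C v) := QuotientGroup.nontrivial_iff.2 nt
  obtain ⟨N, hN, N1, mn⟩ := H2.exists_minimal_normal (X ⧸ C v)
  obtain ⟨r, hr, -, -, pN⟩ := H2.exists_elementaryAbelian_of_minimal_normal N1 mn
  have hM : ¬ N.comap (QuotientGroup.mk' (C v)) ≤ C v := fun k => N1 (eq_bot_iff.2 fun x hx => by
    obtain ⟨x, rfl⟩ := QuotientGroup.mk_surjective x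
    exact (QuotientGroup.eq_one_iff x).2 (k hx))
  have hp : ∀ m ∈ N.comap (QuotientGroup.mk' (C v)), ∃ k : ℕ, m ^ r ^ k ∈ C v := fun m hm =>
    (H98.isPGroup_iff_forall.1 pN _ hm).imp fun k hk => (QuotientGroup.eq_one_iff _).1 hk
  by_cases r2 : r = s
  · have : (C h).Normal := e ▸ n
    exact H20.ITMX2.key hq hr (r2 ▸ q2) (Dvd.dvd.trans ⟨s, by ring⟩ hd) pri ph (e.symm ▸ hM)
      fun m hm => e.symm ▸ hp m hm
  · exact H20.ITMX2.key hs hr (Ne.symm r2) (Dvd.dvd.trans ⟨q, by ring⟩ hd) pri pv hM hp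

end H55.R5X2
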