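/- Tower WU (S4793): constituents of Weil modules over the stabiliser of an isotropic vector. -/
import Cfsg.Agent.H55.WUEv
import Cfsg.Agent.H53.WUKit

set_option autoImplicit false

open Cfsg H28 H59 Module H53.WU H53.WU.HS H55.WUEv Representation

namespace H55.WUHom

section Rep

variable {G : Type} [Group G] [Finite G] {X M : Type} [AddCommGroup X] [Module ℂ X] [FiniteDimensional ℂ X]
  [AddCommGroup M] [Module ℂ M] [FiniteDimensional ℂ M]

omit [Finite G] in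
theorem exists_ne_zero (τ : Representation ℂ G X) (ρ : Representation ℂ G M) [Fintype G]
    (h : classInner ρ.character τ.character ≠ 0) : ∃ f : IntertwiningMap τ ρ, f ≠ 0 := by
  rw [classInner_rep, Nat.cast_ne_zero] at h
  exact (Module.finrank_pos_iff_exists_ne_zero).1 (Nat.pos_of_ne_zero h)

theorem exists_emb (τ : Representation ℂ G X) [τ.IsIrreducible] (ρ : Representation ℂ G M) {η : G → ℂ}
    (hη : IsCharacter G η) (h : ∀ g, ρ.character g = τ.character g + η g) :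
    ∃ (ι : IntertwiningMap τ ρ) (π : IntertwiningMap ρ τ), ∀ x, π (ι x) = x := by
  have := Fintype.ofFinite G
  have := neZero_card_complex G
  obtain ⟨n, hn⟩ := hη.classInner_nat (isCharacter_rep τ)
  obtain ⟨ι, h0⟩ := exists_ne_zero τ ρ (by
    rw [show ρ.character = τ.character + η from funext h, classInner_add_left,
      (isIrrCharacter_rep τ).classInner_self, hn]
    exact_mod_cast (by omega : 1 + n ≠ 0))
  obtain ⟨π, e⟩ := MonoidAlgebra.exists_leftInverse_of_injective (IntertwiningMap.equivLinearMapAsModule τ ρ ι)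
    (LinearMap.ker_eq_bot.2 ((IsIrreducible.injective_or_eq_zero ι).resolve_right h0))
  exact ⟨ι, (IntertwiningMap.equivLinearMapAsModule ρ τ).symm π, fun x => LinearMap.congr_fun e x⟩

omit [Finite G] in
theorem scalar (τ : Representation ℂ G X) [τ.IsIrreducible] {z : G} (hz : ∀ g, g * z = z * g) (x : X) :
    τ z x = (τ.character z / τ.character 1) • x := by
  obtain ⟨c, e⟩ := (IsIrreducible.algebraMap_intertwiningMap_bijective_of_isAlgClosed (ρ := τ)).2
    ⟨τ z, fun g => by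
      change τ z * τ g = τ g * τ z
      rw [← map_mul, ← map_mul, hz]⟩
  have e' : τ z = c • 1 := (congrArg IntertwiningMap.toLinearMap e).symm.trans (by
    rw [Algebra.algebraMap_eq_smul_one]; rfl)
  have h1 := (isIrrCharacter_rep τ).apply_one_ne_zero
  have : τ.character z = c * τ.character 1 := by simp [Representation.character, e']
  rw [this, mul_div_cancel_right₀ _ h1, e']
  rfl

end Rep

variable {S : HS} {e y : S.V}

theorem As_le (he : S.Iso e) (h : S.B e y = 0) : S.As e y ≤ S.Rs e := fun _ hg =>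
  hg e he.2 (S.h.eq_zero_comm.1 h)

theorem As_comm (he : S.Iso e) (hy : S.Iso y) (h : S.B e y = 0) {a b : S.G} (ha : a ∈ S.As e y)
    (hb : b ∈ S.As e y) : a * b = b * a := by
  have key : ∀ a ∈ S.As e y, ∀ b ∈ S.As e y, ∀ v, b.1 (a.1 v) = b.1 v + a.1 v - v := fun a ha b hb v => by
    have h1 := a.2.1 e v
    have h2 := a.2.1 y v
    rw [ha e he.2 (S.h.eq_zero_comm.1 h)] at h1
    rw [ha y h hy.2] at h2
    have := hb (a.1 v - v) (by rw [map_sub, h1, sub_self]) (by rw [map_sub, h2, sub_self])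
    rw [map_sub] at this
    rw [add_sub_assoc, ← this]; abel
  refine Subtype.ext (LinearEquiv.ext fun v => ?_)
  change a.1 (b.1 v) = b.1 (a.1 v)
  rw [key a ha b hb, key b hb a ha, add_comm]

variable {M M' : Type} [AddCommGroup M] [Module ℂ M] [FiniteDimensional ℂ M]
  [AddCommGroup M'] [Module ℂ M'] [FiniteDimensional ℂ M']

/-- the eigenspace of `Z` -/
def Eg (e : S.V) (ρ : Representation ℂ S.G M) (ψ : S.G → ℂ) : Submodule ℂ M where
  carrier := {m | ∀ t ∈ S.Zs e, ρ t m = ψ t • m}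
  add_mem' ha hb t ht := by rw [map_add, ha t ht, hb t ht, smul_add]
  zero_mem' t _ := by simp
  smul_mem' c m hm t ht := by rw [map_smul, hm t ht, smul_comm]

variable {ρ : Representation ℂ S.G M} {ρ' : Representation ℂ S.G M'} {ψ : S.G → ℂ}

omit [FiniteDimensional ℂ M] in
theorem Eg_inv {g : S.G} (hg : g ∈ S.Rs e) {m : M} (hm : m ∈ Eg e ρ ψ) : ρ g m ∈ Eg e ρ ψ := fun t ht => by
  rw [← Module.End.mul_apply, ← map_mul, ← comm_Zs hg ht, map_mul, Module.End.mul_apply, hm t ht, map_smul]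

omit [FiniteDimensional ℂ M] in
theorem Eg_zero {t : S.G} (ht : t ∈ S.Zs e) (h : ψ t ≠ 1) {m : M} (hm : m ∈ Eg e ρ ψ) (k : ρ t m = m) :
    m = 0 := by
  have := hm t ht
  rw [k] at this
  rwa [← sub_eq_zero, ← one_smul ℂ m, smul_smul, mul_one, ← sub_smul, smul_eq_zero,
    or_iff_right (sub_ne_zero.2 h.symm)] at this

/-- a vector fixed by `As ∩ Q_e ∩ Q_y` is fixed by `Z_y` -/
theorem fix_Z (ev : JobEv) (he : S.Iso e) (hy : S.Iso y) (h : S.B e y = 0) (ind : ∀ c : S.F, y ≠ c • e)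
    (W : S.WW ρ) {t : S.G} (ht : t ∈ S.Zs e) (hψ : ψ t ≠ 1) {m : M} (hm : m ∈ Eg e ρ ψ)
    (k : ∀ g γ, Fm e y g 0 0 γ → ρ g m = m) : m ∈ fx ρ (S.Zs y) := by
  have As : ∀ {g α β γ}, Fm e y g α β γ → g ∈ S.As e y := fun hg v h1 h2 => by simp [hg v, h1, h2]
  let A : Subgroup S.G := Subgroup.closure {g | ∃ γ, Fm e y g 0 0 γ}
  have hA : A ≤ S.As e y := (Subgroup.closure_le _).2 fun g ⟨γ, hg⟩ => As hg
  refine ev S e y he hy h ind M ρ (Eg e ρ ψ ⊓ fx ρ A) _ (fun g hg v hv => ⟨Eg_inv (As_le he h hg) hv.1,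
    mem_fx.2 fun a ha => ?_⟩) (fun r s ne v hv k => ?_) ⟨hm, mem_fx.2 fun a ha => ?_⟩
  · rw [← Module.End.mul_apply, ← map_mul, As_comm he hy h (hA ha) hg, map_mul, Module.End.mul_apply,
      mem_fx.1 hv.2 a ha]
  · by_cases r0 : r = 0
    · rw [r0, zero_smul, zero_add] at ne k
      rw [Zs_smul y (left_ne_zero_of_smul ne)] at k
      exact mem_fx.2 k
    obtain ⟨c, hc, ht'⟩ := (S.h.mem_axisGrp_isotropic he.2).1 ht
    obtain ⟨a, rfl⟩ := exists_sub_eq_of_trace_zero S.h.ne_id S.h.invol hc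
    obtain ⟨g1, a1⟩ := exists_fm he.2 hy.2 h (a, 0, -frob S.hF (a / r * s))
    obtain ⟨g2, a2⟩ := exists_fm he.2 hy.2 h (0, 0, frob S.hF (a / r * s))
    have e1 : t = g1 * g2 := (a1.mul he.2 hy.2 h a2).ext (fun v => by simpa using ht' v) |>.symm
    have e2 : ρ g1 v = v := W _ ⟨ne, iso he.2 hy.2 h r s⟩ v k g1 ⟨g1.2.1,
      As a1 _ (by simp [he.2, h]) (by simp [hy.2, S.h.eq_zero_comm.1 h]), fun x hx => ⟨a / r * S.B e x, by
        rw [map_add, LinearMap.add_apply, form_smul_left, form_smul_left] at hx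
        have : (a - frob S.hF a) * S.B e x + -frob S.hF (a / r * s) * S.B y x = a * S.B e x := by
          have r' := S.h.conj_ne_zero r0
          rw [map_mul, map_div₀]
          field_simp
          linear_combination -frob S.hF a * hx
        change g1.1 x = _
        rw [a1 x, this, map_neg, S.h.invol, smul_add, smul_smul, smul_smul, add_assoc]
        congr 3
        · field_simp
        · simp; ring⟩⟩
    have e3 : ρ g2 v = v := mem_fx.1 hv.2 g2 (Subgroup.subset_closure ⟨_, by simpa using a2⟩)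
    rw [Eg_zero ht hψ hv.1 (by rw [e1, map_mul, Module.End.mul_apply, e3, e2])]
    exact zero_mem _
  · induction ha using Subgroup.closure_induction with
    | mem g hg => exact k g _ hg.choose_spec
    | one => simp
    | mul a b _ _ ha hb => rw [map_mul, Module.End.mul_apply, hb, ha]
    | inv a _ ha => rw [← ha, inv_self_apply, ha]

/-- a `Q`-map between the eigenspaces is an `R`-map -/
theorem core (ev : JobEv) (ge : JobGE) (he : S.Iso e) (W : S.WW ρ) (W' : S.WW ρ') {t : S.G} (ht : t ∈ S.Zs e)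
    (hψ : ψ t ≠ 1) (φ : M →ₗ[ℂ] M') (h1 : ∀ m, φ m ∈ Eg e ρ' ψ)
    (h2 : ∀ u ∈ S.Qs e, ∀ m, φ (ρ u m) = ρ' u (φ m)) :
    ∀ g ∈ S.Rs e, ∀ m ∈ Eg e ρ ψ, φ (ρ g m) = ρ' g (φ m) := by
  let K : Subgroup S.G :=
    { carrier := {g | g ∈ S.Rs e ∧ ∀ m ∈ Eg e ρ ψ, φ (ρ g m) = ρ' g (φ m)}
      one_mem' := ⟨one_mem _, fun m _ => by simp⟩
      mul_mem' := fun ha hb => ⟨mul_mem ha.1 hb.1, fun m hm => by
        rw [map_mul, map_mul, Module.End.mul_apply, Module.End.mul_apply, ha.2 _ (Eg_inv hb.1 hm), hb.2 m hm]⟩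
      inv_mem' := fun {a} ha => ⟨inv_mem ha.1, fun m hm => by
        rw [← inv_self_apply ρ' a (φ _), ← ha.2 _ (Eg_inv (inv_mem ha.1) hm), self_inv_apply]⟩ }
  have hQ : S.Qs e ≤ K := fun u hu => ⟨Qs_le_Rs e hu, fun m _ => h2 u hu m⟩
  refine fun g hg => (ge S e he K hQ (fun y hy h g hg => ?_) hg).2
  by_cases ind : ∃ c : S.F, y = c • e
  · obtain ⟨c, rfl⟩ := ind
    exact hQ (Qs_smul e (left_ne_zero_of_smul hy.1) ▸ hg.1)
  push Not at ind
  refine ⟨hg.2, fun m hm => ev S e y he hy h ind M ρ (Eg e ρ ψ) (LinearMap.eqLocus (φ ∘ₗ ρ g) (ρ' g ∘ₗ φ))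
    (fun a ha v hv => Eg_inv (As_le he h ha) hv) (fun r s ne v hv k => ?_) hm⟩
  change φ (ρ g v) = ρ' g (φ v)
  by_cases s0 : s = 0
  · rw [s0, zero_smul, add_zero] at ne k
    rw [Zs_smul e (left_ne_zero_of_smul ne)] at k
    simp [Eg_zero ht hψ hv (k t ht)]
  obtain ⟨d, hd, d0⟩ := S.h.exists_perp_ne_zero (W := Submodule.span S.F {e}) (u := y) fun k =>
    let ⟨c, hc⟩ := Submodule.mem_span_singleton.1 k
    ind c hc.symm
  rw [mem_perp_singleton] at hd
  have d1 : S.B d y ≠ 0 := fun k => d0 (S.h.eq_zero_comm.1 k)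
  have hd' : S.B e (frob S.hF (r / s / S.B d y) • d) = 0 := by simp [hd]
  obtain ⟨a, ha⟩ := exists_trace_eq S.h.ne_id S.h.invol (S.h.self_fixed (frob S.hF (r / s / S.B d y) • d))
  obtain ⟨u, hu, hu'⟩ := S.h.exists_eichler he.2 hd' ha
  have uQ : (⟨u, hu⟩ : S.G) ∈ S.Qs e := S.h.mem_unipRad_of_eichler he.2 hd' hu.1 hu'
  have uy : r • e + s • y = s • u y := by
    rw [hu', h, form_smul_left, S.h.invol, div_mul_cancel₀ _ d1]
    simp [smul_smul, mul_div_cancel₀ _ s0, add_comm]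
  rw [uy, Zs_smul _ s0] at k
  obtain ⟨w, rfl⟩ : ∃ w, ρ ⟨u, hu⟩ w = v := ⟨_, self_inv_apply ρ _ v⟩
  have hw : w ∈ Eg e ρ ψ := by simpa using Eg_inv (inv_mem (Qs_le_Rs e uQ)) hv
  have w1 := W y hy w fun t ht => by
    have := congrArg (ρ (⟨u, hu⟩ : S.G)⁻¹) (k _ (conj_Zs ⟨u, hu⟩ ht))
    simpa using this
  have w2 := W' y hy (φ w) (mem_fx.1 (fix_Z ev he hy h ind W' ht hψ (h1 w) fun a γ ha => by
    have h' := S.h.eq_zero_comm.1 h
    rw [← h2 a ⟨a.2.1, by simp [ha e, he.2, h'], fun x hx => ⟨γ * S.B y x, by simp [ha x, hx]⟩⟩,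
      w1 a ⟨a.2.1, by simp [ha y, hy.2, h], fun x hx => ⟨-(frob S.hF γ * S.B e x), by simp [ha x, hx]⟩⟩]))
  have c := conj_Qs_of_Ps (Rs_le_Ps e hg.2) uQ
  calc φ (ρ g (ρ ⟨u, hu⟩ w)) = φ (ρ (g * ⟨u, hu⟩ * g⁻¹) (ρ g w)) := by simp
    _ = ρ' (g * ⟨u, hu⟩ * g⁻¹) (ρ' g (φ w)) := by rw [h2 _ c, w1 g hg.1, w2 g hg.1]
    _ = _ := by rw [h2 _ uQ]; simp

theorem jobHom (ev : JobEv) (ge : JobGE) : JobHom := by
  rintro S e he _ _ _ _ ⟨n, ρ, rfl⟩ ⟨n', ρ', rfl⟩ W W' ⟨m, τ, _, rfl⟩ ⟨m', τ', _, rfl⟩ ⟨θ, hθ, c⟩ ⟨θ', hθ', c'⟩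
    hz ⟨t, ht, t1⟩
  classical
  obtain ⟨ι, π, e1⟩ := exists_emb τ (ρ.comp (S.Rs e).subtype) hθ c
  obtain ⟨ι', π', e1'⟩ := exists_emb τ' (ρ'.comp (S.Rs e).subtype) hθ' c'
  have i1 := isIrrCharacter_rep τ
  have i2 := isIrrCharacter_rep τ'
  have n1 := i1.apply_one_ne_zero
  have n2 := i2.apply_one_ne_zero
  let ψ : S.G → ℂ := fun g => if h : g ∈ S.Rs e then τ.character ⟨g, h⟩ / τ.character 1 else 0
  have cen : ∀ z : S.Rs e, z.1 ∈ S.Zs e → ∀ g, g * z = z * g := fun z hz g => Subtype.ext (comm_Zs g.2 hz)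
  have s1 : ∀ z : S.Rs e, z.1 ∈ S.Zs e → ∀ x, τ z x = ψ z • x := fun z h x => by
    rw [scalar τ (cen z h)]; simp [ψ]
  have s2 : ∀ z : S.Rs e, z.1 ∈ S.Zs e → ∀ x, τ' z x = ψ z • x := fun z h x => by
    rw [scalar τ' (cen z h), ← (div_eq_div_iff n1 n2).2 (hz z h)]; simp [ψ]
  have hψ : ψ t ≠ 1 := fun k => t1 ((div_eq_one_iff_eq n1).1 ((dif_pos t.2).symm.trans k))
  have off : ∀ {k : ℕ} (τ : Representation ℂ (S.Rs e) (Fin k → ℂ)), (∀ x, τ t x = ψ t • x) →
      ∀ u : S.Rs e, u.1 ∈ S.Qs e → u.1 ∉ S.Zs e → τ.character u = 0 := fun τ h u hu hu' =>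
    off_Z he (Qs_le_Rs e) (isCharacter_rep τ) (by
      rw [av_rep, Nat.cast_eq_zero, Submodule.finrank_eq_zero, eq_bot_iff]
      intro x hx
      have := (h x).symm.trans (mem_fx.1 hx t ht)
      rwa [← sub_eq_zero, ← one_smul ℂ x, smul_smul, mul_one, ← sub_smul, smul_eq_zero,
        or_iff_right (sub_ne_zero.2 hψ)] at this) hu hu'
  have := Fintype.ofFinite ((S.Qs e).subgroupOf (S.Rs e))
  have := Fintype.ofFinite (S.Rs e)
  obtain ⟨φ, φ0⟩ := exists_ne_zero (τ.comp ((S.Qs e).subgroupOf (S.Rs e)).subtype)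
    (τ'.comp ((S.Qs e).subgroupOf (S.Rs e)).subtype) (by
      have : Representation.character (τ'.comp ((S.Qs e).subgroupOf (S.Rs e)).subtype) =
          (τ'.character 1 / τ.character 1) •
            Representation.character (τ.comp ((S.Qs e).subgroupOf (S.Rs e)).subtype) := funext fun u => by
        change τ'.character u = _ * τ.character u
        by_cases h : u.1.1 ∈ S.Zs e
        · field_simp
          linear_combination -hz u h
        · rw [off τ (s1 t ht) u u.2 h, off τ' (s2 t ht) u u.2 h, mul_zero]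
      rw [this, classInner_smul_left]
      exact mul_ne_zero (div_ne_zero n2 n1) fun k => n1 (congrFun (classInner_self_eq_zero.1 k) 1))
  have mem : ∀ z ∈ S.Zs e, z ∈ S.Rs e := fun z hz => Qs_le_Rs e (Zs_le_Qs he hz)
  have key := core ev ge he ((W_iff ρ).1 W) ((W_iff ρ').1 W') ht hψ
    (ι'.toLinearMap ∘ₗ φ.toLinearMap ∘ₗ π.toLinearMap)
    (fun x z hz => ((ι'.isIntertwining _ _ ⟨z, mem z hz⟩ _).symm.trans (by rw [s2 _ hz, map_smul]; rfl)))
    fun u hu x => by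
      change ι' (φ (π (ρ u x))) = ρ' u (ι' (φ (π x)))
      rw [show π (ρ u x) = _ from π.isIntertwining _ _ ⟨u, Qs_le_Rs e hu⟩ x,
        show φ (τ ⟨u, Qs_le_Rs e hu⟩ _) = _ from φ.isIntertwining _ _ ⟨⟨u, Qs_le_Rs e hu⟩, hu⟩ _]
      exact ι'.isIntertwining _ _ ⟨u, Qs_le_Rs e hu⟩ _
  let f : IntertwiningMap τ τ' := ⟨φ.toLinearMap, fun g => LinearMap.ext fun x => by
    have := key g g.2 (ι x) fun z hz =>
      (ι.isIntertwining _ _ ⟨z, mem z hz⟩ _).symm.trans (by rw [s1 _ hz, map_smul])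
    change ι' (φ (π (ρ g (ι x)))) = ρ' g (ι' (φ (π (ι x)))) at this
    rw [show ρ g (ι x) = _ from (ι.isIntertwining _ _ g x).symm, e1, e1,
      show ρ' g (ι' _) = _ from (ι'.isIntertwining _ _ g _).symm] at this
    simpa [e1'] using congrArg π' this⟩
  refine (i2.eq_of_classInner_ne_zero i1 ?_).symm
  rw [classInner_rep, Nat.cast_ne_zero]
  exact ((Module.finrank_pos_iff_exists_ne_zero).2
    ⟨f, fun k => φ0 (IntertwiningMap.ext (congrArg IntertwiningMap.toLinearMap k :))⟩).ne'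

end H55.WUHom
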